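import Mathlib
import Cfsg.Agent.S4209

set_option autoImplicit false

/-!
# `Ω₁` of a `p`-group of class `< p` has exponent `p`

* `mul_pow_eq_one` : in a finite `p`-group with `lowerCentralSeries (p - 1) = ⊥`, if `x ^ p = 1`
  and `y ^ p = 1` then `(x * y) ^ p = 1`.
* `pow_eq_one_of_mem_closure` : every element of the subgroup generated by the elements of order
  dividing `p` has order dividing `p`.
* `mul_pow_of_commutator_le` : if moreover the derived subgroup is generated by elements of order
  dividing `p`, then `(x * y) ^ p = x ^ p * y ^ p`.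
-/

namespace Cfsg.Agent.Lib.Helper70.OmegaClass

open scoped commutatorElement

universe u

theorem lcs_subgroup_eq_bot {G : Type*} [Group G] (H : Subgroup G) (n : ℕ)
    (h : (⊤ : Subgroup G).lowerCentralSeries n = ⊥) :
    (⊤ : Subgroup H).lowerCentralSeries n = ⊥ := by
  have h1 := Subgroup.top_subtype_lowerCentralSeries H n
  have h2 : H.lowerCentralSeries n = ⊥ := by
    have := Cfsg.Agent.S4209.lcs_mono (le_top : H ≤ ⊤) n
    rw [h] at this
    exact le_bot_iff.1 this
  rw [h2] at h1
  exact (Subgroup.map_eq_bot_iff_of_injective _ H.subtype_injective).1 h1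

theorem mk_comm_of_mem {G : Type*} [Group G] (N : Subgroup G) [N.Normal] {a b : G}
    (h : ⁅a, b⁆ ∈ N) :
    (QuotientGroup.mk' N a) * (QuotientGroup.mk' N b) =
      (QuotientGroup.mk' N b) * (QuotientGroup.mk' N a) := by
  have h2 : QuotientGroup.mk' N (a * b * a⁻¹ * b⁻¹) = 1 := (QuotientGroup.eq_one_iff _).2 h
  rw [map_mul, map_mul, map_mul, map_inv, map_inv] at h2
  have h3 : QuotientGroup.mk' N a * QuotientGroup.mk' N b =
      (QuotientGroup.mk' N a * QuotientGroup.mk' N b * (QuotientGroup.mk' N a)⁻¹ *
        (QuotientGroup.mk' N b)⁻¹) * (QuotientGroup.mk' N b * QuotientGroup.mk' N a) := by group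
  rw [h3, h2, one_mul]

theorem mem_of_mk_comm {G : Type*} [Group G] (N : Subgroup G) [N.Normal] {a b : G}
    (h : (QuotientGroup.mk' N a) * (QuotientGroup.mk' N b) =
      (QuotientGroup.mk' N b) * (QuotientGroup.mk' N a)) : ⁅a, b⁆ ∈ N := by
  apply (QuotientGroup.eq_one_iff _).1
  show QuotientGroup.mk' N (a * b * a⁻¹ * b⁻¹) = 1
  rw [map_mul, map_mul, map_mul, map_inv, map_inv, h]
  group

/-- a group generated by `x, y` has derived subgroup inside any normal subgroup containing
`⁅x, y⁆`. -/
theorem commutator_le_of_mem {G : Type*} [Group G] (N : Subgroup G) [N.Normal] (x y : G)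
    (hH : Subgroup.closure ({x, y} : Set G) = ⊤) (hxyN : ⁅x, y⁆ ∈ N) :
    commutator G ≤ N := by
  let π : G →* G ⧸ N := QuotientGroup.mk' N
  have hxy : π x * π y = π y * π x := mk_comm_of_mem N hxyN
  -- `π x` and `π y` are central
  have hcent : ∀ a : G, (a = x ∨ a = y) → ∀ b : G, π b * π a = π a * π b := by
    intro a ha b
    have hb : b ∈ (Subgroup.centralizer ({π a} : Set (G ⧸ N))).comap π := by
      have hle : Subgroup.closure ({x, y} : Set G) ≤
          (Subgroup.centralizer ({π a} : Set (G ⧸ N))).comap π := by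
        rw [Subgroup.closure_le]
        rintro c (rfl | rfl)
        · rw [SetLike.mem_coe, Subgroup.mem_comap, Subgroup.mem_centralizer_iff]
          rintro _ rfl
          rcases ha with rfl | rfl
          · rfl
          · exact hxy.symm
        · rw [SetLike.mem_coe, Subgroup.mem_comap, Subgroup.mem_centralizer_iff]
          rintro _ rfl
          rcases ha with rfl | rfl
          · exact hxy
          · rfl
      rw [hH] at hle
      exact hle trivial
    rw [Subgroup.mem_comap, Subgroup.mem_centralizer_iff] at hb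
    exact (hb (π a) rfl).symm
  have hall : ∀ a b : G, π a * π b = π b * π a := by
    intro a b
    have ha : a ∈ (Subgroup.center (G ⧸ N)).comap π := by
      have hle : Subgroup.closure ({x, y} : Set G) ≤ (Subgroup.center (G ⧸ N)).comap π := by
        rw [Subgroup.closure_le]
        rintro c hc
        rw [SetLike.mem_coe, Subgroup.mem_comap, Subgroup.mem_center_iff]
        intro q
        induction q using QuotientGroup.induction_on with
        | H b => exact hcent c hc b
      rw [hH] at hle
      exact hle trivial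
    rw [Subgroup.mem_comap, Subgroup.mem_center_iff] at ha
    exact (ha (π b)).symm
  rw [commutator_def, Subgroup.commutator_le]
  intro a _ b _
  exact mem_of_mk_comm N (hall a b)

/-- In a finite `p`-group of class `< p`, the elements of order dividing `p` are closed under
multiplication. -/
theorem mul_pow_eq_one {p : ℕ} [Fact p.Prime] :
    ∀ (n : ℕ) (G : Type u) [Group G] [Finite G], IsPGroup p G → Nat.card G ≤ n →
      (⊤ : Subgroup G).lowerCentralSeries (p - 1) = ⊥ →
      ∀ x y : G, x ^ p = 1 → y ^ p = 1 → (x * y) ^ p = 1 := by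
  intro n
  induction n with
  | zero =>
    intro G _ _ _ hn
    have := Nat.card_pos (α := G)
    omega
  | succ n ih =>
    intro G _ _ hG hn hcl x y hx hy
    have hsub : ∀ M : Subgroup G, M ≠ ⊤ → ∀ a ∈ M, ∀ b ∈ M, a ^ p = 1 → b ^ p = 1 →
        (a * b) ^ p = 1 := by
      intro M hM a ha b hb hap hbp
      have hcard : Nat.card M ≤ n := by
        have h1 : Nat.card M < Nat.card G := by
          by_contra hcon
          apply hM
          exact Subgroup.eq_top_of_le_card M (not_lt.1 hcon)
        omega
      have h2 := ih M (hG.to_subgroup M) hcard (lcs_subgroup_eq_bot M _ hcl) ⟨a, ha⟩ ⟨b, hb⟩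
        (Subtype.ext (by simpa using hap)) (Subtype.ext (by simpa using hbp))
      have h3 := congrArg Subtype.val h2
      simpa using h3
    by_cases hH : Subgroup.closure ({x, y} : Set G) = ⊤
    · by_cases hcyc : Subgroup.zpowers x = ⊤
      · have hy' : y ∈ Subgroup.zpowers x := by rw [hcyc]; trivial
        obtain ⟨k, rfl⟩ := Subgroup.mem_zpowers_iff.1 hy'
        have hc : Commute x (x ^ k) := (Commute.refl x).zpow_right k
        rw [hc.mul_pow, hx, hy, one_mul]
      · obtain ⟨M, hMco, hxM⟩ := (eq_top_or_exists_le_coatom (Subgroup.zpowers x)).resolve_left hcyc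
        haveI : Group.IsNilpotent G := hG.isNilpotent
        haveI hMn : M.Normal :=
          Subgroup.NormalizerCondition.normal_of_coatom M Group.normalizerCondition_of_isNilpotent hMco
        have hxM' : x ∈ M := hxM (Subgroup.mem_zpowers x)
        have hT := hsub M hMco.1
        have hc : ⁅x, y⁆ ∈ M ∧ ⁅x, y⁆ ^ p = 1 := by
          have e : ⁅x, y⁆ = x * (y * x⁻¹ * y⁻¹) := by
            rw [commutatorElement_def]; group
          have h1 : y * x⁻¹ * y⁻¹ ∈ M := hMn.conj_mem _ (M.inv_mem hxM') y
          have h2 : (y * x⁻¹ * y⁻¹) ^ p = 1 := by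
            rw [conj_pow, inv_pow, hx]; simp
          rw [e]
          exact ⟨M.mul_mem hxM' h1, hT _ hxM' _ h1 hx h2⟩
        have hN : ∀ d ∈ Subgroup.normalClosure ({⁅x, y⁆} : Set G), d ∈ M ∧ d ^ p = 1 := by
          intro d hd
          rw [Subgroup.normalClosure] at hd
          induction hd using Subgroup.closure_induction with
          | mem d hd =>
            rw [Group.mem_conjugatesOfSet_iff] at hd
            obtain ⟨a, ha, hconj⟩ := hd
            rw [Set.mem_singleton_iff] at ha
            subst ha
            obtain ⟨g, rfl⟩ := isConj_iff.1 hconj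
            exact ⟨hMn.conj_mem _ hc.1 g, by rw [conj_pow, hc.2]; simp⟩
          | one => exact ⟨M.one_mem, one_pow p⟩
          | mul a b _ _ iha ihb => exact ⟨M.mul_mem iha.1 ihb.1, hT _ iha.1 _ ihb.1 iha.2 ihb.2⟩
          | inv a _ iha => exact ⟨M.inv_mem iha.1, by rw [inv_pow, iha.2, inv_one]⟩
        have hexp : ∀ d ∈ commutator G, d ^ (p ^ 1) = 1 := by
          intro d hd
          rw [pow_one]
          exact (hN d (commutator_le_of_mem _ x y hH (Subgroup.subset_normalClosure (Set.mem_singleton _)) hd)).2
        have := Cfsg.Agent.S4209.mul_pow_of_class p 1 hcl hexp x y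
        rw [pow_one] at this
        rw [this, hx, hy, one_mul]
    · exact hsub _ hH x (Subgroup.subset_closure (by simp)) y (Subgroup.subset_closure (by simp))
        hx hy

theorem pow_eq_one_of_mem_closure {G : Type*} [Group G] [Finite G] {p : ℕ} [Fact p.Prime]
    (hG : IsPGroup p G) (hcl : (⊤ : Subgroup G).lowerCentralSeries (p - 1) = ⊥) (g : G)
    (hg : g ∈ Subgroup.closure {x : G | x ^ p = 1}) : g ^ p = 1 := by
  induction hg using Subgroup.closure_induction with
  | mem d hd => exact hd
  | one => exact one_pow p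
  | mul a b _ _ iha ihb => exact mul_pow_eq_one (Nat.card G) G hG le_rfl hcl a b iha ihb
  | inv a _ iha => rw [inv_pow, iha, inv_one]

theorem mul_pow_of_commutator_le {G : Type*} [Group G] [Finite G] {p : ℕ} [Fact p.Prime]
    (hG : IsPGroup p G) (hcl : (⊤ : Subgroup G).lowerCentralSeries (p - 1) = ⊥)
    (hder : commutator G ≤ Subgroup.closure {x : G | x ^ p = 1}) (x y : G) :
    (x * y) ^ p = x ^ p * y ^ p := by
  have hexp : ∀ d ∈ commutator G, d ^ (p ^ 1) = 1 := by
    intro d hd
    rw [pow_one]
    exact pow_eq_one_of_mem_closure hG hcl d (hder hd)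
  have := Cfsg.Agent.S4209.mul_pow_of_class p 1 hcl hexp x y
  rwa [pow_one] at this

end Cfsg.Agent.Lib.Helper70.OmegaClass
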