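import Mathlib
import Cfsg.Prelude.Def_PLocal
import Cfsg.Agent.Lib.Helper70.OmegaClass
import Cfsg.Agent.Lib.Helper70.Regular
import Cfsg.Agent.Lib.Helper54.MaxClass
import Cfsg.Agent.S4209

set_option autoImplicit false

/-!
# `p`-groups (`p > 3`) whose `Ω₁` has order at most `p²`

Basic tools: commutativity of groups of order `≤ p²`, central elements of order `p` in normal
subgroups, transport of `Ω₁`, and the key counting lemma `ker_large`.
-/

namespace Cfsg.Agent.Lib.Helper70.OmegaSmall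

open Subgroup
open scoped commutatorElement

universe u

/-- A `p`-group of order at most `p ^ 2` is commutative. -/
theorem comm_of_card_le_sq {p : ℕ} [hp : Fact p.Prime] {Q : Type u} [Group Q] [Finite Q]
    (hQ : IsPGroup p Q) (h : Nat.card Q ≤ p ^ 2) : ∀ a b : Q, a * b = b * a := by
  obtain ⟨k, hk⟩ := (IsPGroup.iff_card).mp hQ
  have hk2 : k ≤ 2 := by
    by_contra hk2
    have h3 : 3 ≤ k := by omega
    have h4 : p ^ 3 ≤ p ^ k := Nat.pow_le_pow_right hp.out.pos h3
    have h5 : p ^ 2 < p ^ 3 := Nat.pow_lt_pow_right hp.out.one_lt (by norm_num)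
    omega
  interval_cases k
  · rw [pow_zero] at hk
    have hsub : Subsingleton Q := (Nat.card_eq_one_iff_unique.mp hk).1
    intro a b
    rw [Subsingleton.elim a 1, Subsingleton.elim b 1]
  · rw [pow_one] at hk
    have hcyc : IsCyclic Q := isCyclic_of_prime_card hk
    obtain ⟨g, hg⟩ := hcyc.exists_generator
    intro a b
    obtain ⟨i, rfl⟩ := mem_zpowers_iff.mp (hg a)
    obtain ⟨j, rfl⟩ := mem_zpowers_iff.mp (hg b)
    exact (((Commute.refl g).zpow_left i).zpow_right j).eq
  · exact (IsPGroup.isMulCommutative_of_card_eq_prime_sq hk).is_comm.comm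

/-- Elements of order dividing `p` are closed under multiplication when `Ω₁` has order `≤ p²`. -/
theorem mul_pow_of_small {p : ℕ} [hp : Fact p.Prime] {R : Type u} [Group R] [Finite R]
    (hR : IsPGroup p R) (hO : Nat.card (Cfsg.omegaOne p (⊤ : Subgroup R)) ≤ p ^ 2) (x y : R)
    (hx : x ^ p = 1) (hy : y ^ p = 1) : (x * y) ^ p = 1 := by
  have hxW : x ∈ Cfsg.omegaOne p (⊤ : Subgroup R) := subset_closure ⟨mem_top x, hx⟩
  have hyW : y ∈ Cfsg.omegaOne p (⊤ : Subgroup R) := subset_closure ⟨mem_top y, hy⟩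
  have hc := comm_of_card_le_sq (hR.to_subgroup _) hO ⟨x, hxW⟩ ⟨y, hyW⟩
  have hc' : x * y = y * x := congrArg Subtype.val hc
  have hcomm : Commute x y := hc'
  rw [hcomm.mul_pow, hx, hy, one_mul]

/-- `Ω₁` is contained in any subgroup containing all elements of order dividing `p`. -/
theorem omega_le_of {p : ℕ} {R : Type u} [Group R] (V : Subgroup R)
    (hV : ∀ x : R, x ^ p = 1 → x ∈ V) : Cfsg.omegaOne p (⊤ : Subgroup R) ≤ V := by
  unfold Cfsg.omegaOne
  rw [closure_le]
  rintro x ⟨_, hx⟩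
  exact hV x hx

/-- Transport of the order of `Ω₁` along an isomorphism. -/
theorem card_omega_congr {p : ℕ} {A : Type*} {B : Type*} [Group A] [Group B] (e : A ≃* B) :
    Nat.card (Cfsg.omegaOne p (⊤ : Subgroup A)) = Nat.card (Cfsg.omegaOne p (⊤ : Subgroup B)) := by
  have h : (Cfsg.omegaOne p (⊤ : Subgroup A)).map e.toMonoidHom
      = Cfsg.omegaOne p (⊤ : Subgroup B) := by
    unfold Cfsg.omegaOne
    rw [MonoidHom.map_closure]
    congr 1
    ext y
    constructor
    · rintro ⟨x, ⟨_, hx⟩, rfl⟩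
      refine ⟨mem_top _, ?_⟩
      show (e x) ^ p = 1
      rw [← map_pow, hx, map_one]
    · rintro ⟨_, hy⟩
      refine ⟨e.symm y, ⟨mem_top _, ?_⟩, ?_⟩
      · rw [← map_pow, hy, map_one]
      · show e (e.symm y) = y
        exact e.apply_symm_apply y
  rw [← h]
  exact (Subgroup.card_map_of_injective e.injective).symm

/-- The order of `Ω₁` of a subgroup is at most that of the group. -/
theorem card_omega_subgroup {p : ℕ} {R : Type u} [Group R] [Finite R] (M : Subgroup R) :
    Nat.card (Cfsg.omegaOne p (⊤ : Subgroup M)) ≤ Nat.card (Cfsg.omegaOne p (⊤ : Subgroup R)) := by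
  have h : (Cfsg.omegaOne p (⊤ : Subgroup M)).map M.subtype
      ≤ Cfsg.omegaOne p (⊤ : Subgroup R) := by
    unfold Cfsg.omegaOne
    rw [MonoidHom.map_closure]
    apply Subgroup.closure_mono
    rintro y ⟨x, ⟨_, hx⟩, rfl⟩
    refine ⟨mem_top _, ?_⟩
    show (M.subtype x) ^ p = 1
    rw [← map_pow, hx, map_one]
  calc Nat.card (Cfsg.omegaOne p (⊤ : Subgroup M))
      = Nat.card ((Cfsg.omegaOne p (⊤ : Subgroup M)).map M.subtype) :=
        (Subgroup.card_map_of_injective M.subtype_injective).symm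
    _ ≤ _ := Subgroup.card_le_of_le h

/-- Elementwise form of the smallness of `Ω₁` of a quotient. -/
theorem pow_mem_of_quot {p : ℕ} [hp : Fact p.Prime] {R : Type u} [Group R] [Finite R]
    (hR : IsPGroup p R) (T : Subgroup R) [T.Normal]
    (h : Nat.card (Cfsg.omegaOne p (⊤ : Subgroup (R ⧸ T))) ≤ p ^ 2) (x y : R)
    (hx : x ^ p ∈ T) (hy : y ^ p ∈ T) : (x * y) ^ p ∈ T := by
  have h1 : ((x : R ⧸ T)) ^ p = 1 := by
    rw [← QuotientGroup.mk_pow]; exact (QuotientGroup.eq_one_iff _).mpr hx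
  have h2 : ((y : R ⧸ T)) ^ p = 1 := by
    rw [← QuotientGroup.mk_pow]; exact (QuotientGroup.eq_one_iff _).mpr hy
  have h3 := mul_pow_of_small (hR.to_quotient T) h _ _ h1 h2
  rw [← QuotientGroup.mk_mul, ← QuotientGroup.mk_pow] at h3
  exact (QuotientGroup.eq_one_iff _).mp h3

/-- `|VN/N| * |N| = |V|` for `N ≤ V`. -/
theorem card_map_mk_mul {R : Type u} [Group R] [Finite R] (N V : Subgroup R) [N.Normal]
    (h : N ≤ V) : Nat.card (V.map (QuotientGroup.mk' N)) * Nat.card N = Nat.card V := by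
  let f : V →* R ⧸ N := (QuotientGroup.mk' N).domRestrict V
  have h1 : f.ker.index = Nat.card f.range := Subgroup.index_ker f
  have h2 : Nat.card f.ker * f.ker.index = Nat.card V := Subgroup.card_mul_index _
  have h3 : f.range = V.map (QuotientGroup.mk' N) := MonoidHom.domRestrict_range V _
  have h4 : f.ker = N.subgroupOf V := by
    have := MonoidHom.ker_domRestrict (K := V) (QuotientGroup.mk' N)
    rw [QuotientGroup.ker_mk'] at this
    exact this
  have h5 : Nat.card (N.subgroupOf V) = Nat.card N :=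
    Nat.card_congr (Subgroup.subgroupOfEquivOfLe h).toEquiv
  rw [h1, h3, h4, h5] at h2
  rw [mul_comm]
  exact h2

/-- A nontrivial normal subgroup of a finite `p`-group contains a central element of order `p`. -/
theorem exists_central_of_normal {p : ℕ} [hp : Fact p.Prime] {R : Type u} [Group R] [Finite R]
    (hR : IsPGroup p R) (T : Subgroup R) [hT : T.Normal] (hne : T ≠ ⊥) :
    ∃ z : R, z ∈ T ∧ z ∈ center R ∧ orderOf z = p := by
  have : Group.IsNilpotent R := hR.isNilpotent
  let f : ℕ → Subgroup R := fun i => Nat.rec T (fun _ H => ⁅H, (⊤ : Subgroup R)⁆) i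
  have hf0 : f 0 = T := rfl
  have hfs : ∀ i, f (i + 1) = ⁅f i, (⊤ : Subgroup R)⁆ := fun i => rfl
  have hfT : ∀ i, f i ≤ T := by
    intro i
    induction i with
    | zero => exact le_of_eq hf0
    | succ i ih =>
      rw [hfs]
      exact (Subgroup.commutator_mono ih le_rfl).trans (Subgroup.commutator_le_left T ⊤)
  have hfl : ∀ i, f i ≤ (⊤ : Subgroup R).lowerCentralSeries i := by
    intro i
    induction i with
    | zero => rw [Subgroup.lowerCentralSeries_zero]; exact le_top
    | succ i ih =>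
      rw [hfs, Subgroup.lowerCentralSeries_succ]
      exact Subgroup.commutator_mono ih le_rfl
  obtain ⟨n, hn⟩ := (Subgroup.nilpotent_iff_lowerCentralSeries).mp
    (inferInstance : Group.IsNilpotent R)
  have hex : ∃ i, f i = ⊥ := ⟨n, le_bot_iff.mp (hn ▸ hfl n)⟩
  obtain ⟨m, hm, hmin⟩ : ∃ m, f m = ⊥ ∧ ∀ j, f j = ⊥ → m ≤ j :=
    ⟨@Nat.find (fun i => f i = ⊥) (Classical.decPred _) hex,
      @Nat.find_spec (fun i => f i = ⊥) (Classical.decPred _) hex,
      fun j hj => @Nat.find_min' (fun i => f i = ⊥) (Classical.decPred _) hex j hj⟩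
  have hm0 : m ≠ 0 := by
    intro h0
    rw [h0, hf0] at hm
    exact hne hm
  obtain ⟨k, hk⟩ := Nat.exists_eq_succ_of_ne_zero hm0
  have hkne : f k ≠ ⊥ := by
    intro h
    have := hmin k h
    omega
  have hkc : f k ≤ center R := by
    have h1 : ⁅f k, (⊤ : Subgroup R)⁆ = ⊥ := by
      rw [← hfs]
      have hk' : m = k + 1 := hk
      rw [← hk']; exact hm
    rw [Subgroup.commutator_eq_bot_iff_le_centralizer] at h1
    rw [Subgroup.coe_top, Subgroup.centralizer_univ] at h1
    exact h1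
  obtain ⟨⟨z, hzk⟩, hz1⟩ := (Subgroup.ne_bot_iff_exists_ne_one).mp hkne
  have hz1' : z ≠ 1 := fun h => hz1 (Subtype.ext h)
  -- take a power of order p
  obtain ⟨j, hj⟩ := hR z
  have hord : orderOf z ∣ p ^ j := orderOf_dvd_of_pow_eq_one hj
  obtain ⟨i, hij, hi⟩ := (Nat.dvd_prime_pow hp.out).mp hord
  have hi0 : i ≠ 0 := by
    intro h0
    rw [h0, pow_zero, orderOf_eq_one_iff] at hi
    exact hz1' hi
  obtain ⟨i', rfl⟩ := Nat.exists_eq_succ_of_ne_zero hi0
  refine ⟨z ^ (p ^ i'), ?_, ?_, ?_⟩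
  · exact T.pow_mem (hfT k hzk) _
  · exact (center R).pow_mem (hkc hzk) _
  · rw [orderOf_pow_of_dvd (pow_ne_zero _ hp.out.ne_zero) (by rw [hi]; exact pow_dvd_pow p (Nat.le_succ i')), hi,
      pow_succ, Nat.mul_div_cancel_left _ (pow_pos hp.out.pos i')]

/-- Key counting lemma: in a group of order `p⁴` (`p > 3`) whose `p`-th powers lie in a central
subgroup of order at most `p`, the elements of order dividing `p` form a subgroup of order at
least `p³`. -/
theorem ker_large {p : ℕ} [hp : Fact p.Prime] (hp3 : 3 < p) {Q : Type u} [Group Q] [Finite Q]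
    (hQ : IsPGroup p Q) (hcard : Nat.card Q = p ^ 4) (Z : Subgroup Q) (hZc : Z ≤ center Q)
    (hZcard : Nat.card Z ≤ p) (hpow : ∀ q : Q, q ^ p ∈ Z) :
    ∃ K : Subgroup Q, p ^ 3 ≤ Nat.card K ∧ ∀ q ∈ K, q ^ p = 1 := by
  have hlcs : (⊤ : Subgroup Q).lowerCentralSeries (p - 1) = ⊥ := by
    have h1 := Cfsg.Agent.Lib.Helper54.MaxClass.lcs_eq_bot_of_card (p := p) 4 Q hcard (by norm_num)
    have h2 : (⊤ : Subgroup Q).lowerCentralSeries (p - 1)
        ≤ (⊤ : Subgroup Q).lowerCentralSeries (4 - 1) :=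
      Subgroup.lowerCentralSeries_antitone _ (by omega)
    rw [h1] at h2
    exact le_bot_iff.mp h2
  have hreg : Cfsg.IsRegularPGroup p Q := Cfsg.Agent.S4209.result hQ hlcs
  have hcommpow : ∀ a b : Q, ⁅a, b⁆ ^ p = 1 := by
    intro a b
    have hc : a ^ p ∈ center Q := hZc (hpow a)
    have h1 : a ^ p ^ 1 = (b * a * b⁻¹) ^ p ^ 1 := by
      rw [pow_one, conj_pow]
      have := mem_center_iff.mp hc b
      rw [this, mul_inv_cancel_right]
    have h2 := (Cfsg.Agent.Lib.Helper70.Regular.pow_eq_iff hreg a (b * a * b⁻¹) 1).mp h1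
    rw [pow_one] at h2
    have e : ⁅a, b⁆ = a * (b * a * b⁻¹)⁻¹ := by
      simp only [commutatorElement_def]; group
    rw [e]; exact h2
  have hder : commutator Q ≤ Subgroup.closure {x : Q | x ^ p = 1} := by
    rw [commutator_eq_closure]
    apply Subgroup.closure_mono
    rintro c ⟨a, b, rfl⟩
    exact hcommpow a b
  have hmul : ∀ x y : Q, (x * y) ^ p = x ^ p * y ^ p :=
    Cfsg.Agent.Lib.Helper70.OmegaClass.mul_pow_of_commutator_le hQ hlcs hder
  let π : Q →* Z := MonoidHom.mk' (fun q => ⟨q ^ p, hpow q⟩) (by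
    intro a b
    apply Subtype.ext
    exact hmul a b)
  refine ⟨π.ker, ?_, ?_⟩
  · have h1 : π.ker.index = Nat.card π.range := Subgroup.index_ker π
    have h2 : Nat.card π.range ≤ p := (Subgroup.card_le_card_group _).trans hZcard
    have h3 : Nat.card π.ker * π.ker.index = Nat.card Q := Subgroup.card_mul_index _
    have h4 : p ^ 4 ≤ Nat.card π.ker * p := by
      calc p ^ 4 = Nat.card Q := hcard.symm
        _ = Nat.card π.ker * π.ker.index := h3.symm
        _ ≤ Nat.card π.ker * p := Nat.mul_le_mul_left _ (h1 ▸ h2)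
    have h5 : p ^ 4 = p ^ 3 * p := by ring
    rw [h5] at h4
    exact Nat.le_of_mul_le_mul_right h4 hp.out.pos
  · intro q hq
    have := (MonoidHom.mem_ker).mp hq
    exact congrArg Subtype.val this

end Cfsg.Agent.Lib.Helper70.OmegaSmall
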