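import Mathlib
import Cfsg.Agent.Lib.Helper70.OmegaSmall
import Cfsg.Agent.S0126
import Cfsg.Agent.S0128

set_option autoImplicit false

/-!
# `p`-groups whose elements of order dividing `p` form a non-abelian group of order `p³`

The structural core of Blackburn's theorem as used in Bender–Glauberman 4.7: if `W = Ω₁(R)` has
exponent `p`, order `p³` and is non-abelian (`p` odd), then either `R = W * C_R(W)` with `C_R(W)`
cyclic, or there is a proper subgroup `D` containing `φ g * g⁻¹` for all automorphisms `φ` of odd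
order and all `g`.
-/

namespace Cfsg.Agent.Lib.Helper70.Blackburn

open Subgroup
open scoped commutatorElement
open Cfsg.Agent.Lib.Helper70.OmegaSmall

universe u v

/-- Integer powers of an element killed by `p` are natural powers. -/
theorem zpow_to_pow {R : Type u} [Group R] {p : ℕ} (hp : 0 < p) (a : R) (ha : a ^ p = 1) (i : ℤ) :
    ∃ n : ℕ, a ^ i = a ^ n := by
  refine ⟨(i % (p : ℤ)).toNat, ?_⟩
  have h1 : a ^ i = a ^ (i % (p : ℤ)) := zpow_eq_zpow_emod' i ha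
  have h2 : 0 ≤ i % (p : ℤ) := Int.emod_nonneg _ (by exact_mod_cast hp.ne')
  rw [h1]
  conv_lhs => rw [← Int.toNat_of_nonneg h2]
  rw [zpow_natCast]

/-- In a subgroup of prime order every non-trivial element generates. -/
theorem pow_of_prime_card {p : ℕ} [hp : Fact p.Prime] {R : Type u} [Group R] (Z : Subgroup R)
    (hZ : Nat.card Z = p) (t : R) (ht : t ∈ Z) (ht1 : t ≠ 1) (z : R) (hz : z ∈ Z) :
    ∃ i : ℕ, z = t ^ i := by
  have : Finite Z := Nat.finite_of_card_ne_zero (by rw [hZ]; exact hp.out.ne_zero)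
  have h1 : zpowers (⟨t, ht⟩ : Z) = ⊤ :=
    zpowers_eq_top_of_prime_card hZ (fun h => ht1 (congrArg Subtype.val h))
  have h2 : (⟨z, hz⟩ : Z) ∈ zpowers (⟨t, ht⟩ : Z) := h1 ▸ mem_top _
  obtain ⟨n, hn⟩ := (mem_powers_iff_mem_zpowers).mpr h2
  refine ⟨n, ?_⟩
  have := congrArg Subtype.val hn
  simpa using this.symm

/-- If `a ^ n` is a power with `p ∤ n` of an element killed by `p`, then `a` is a power of `a ^ n`. -/
theorem exists_pow_back {p : ℕ} [hp : Fact p.Prime] {R : Type u} [Group R] (a : R) (ha : a ^ p = 1)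
    (n : ℕ) (hn : ¬ p ∣ n) : ∃ m : ℕ, (a ^ n) ^ m = a := by
  apply exists_pow_eq_self_of_coprime
  have h1 : orderOf a ∣ p := orderOf_dvd_of_pow_eq_one ha
  have h2 : Nat.Coprime n p := ((Nat.Prime.coprime_iff_not_dvd hp.out).mpr hn).symm
  exact Nat.Coprime.coprime_dvd_right h1 h2

/-- The centre of a non-abelian group of order `p³` has order `p` and contains all commutators. -/
theorem center_p3 {p : ℕ} [hp : Fact p.Prime] {W : Type u} [Group W] [Finite W]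
    (hc : Nat.card W = p ^ 3) (hn : ∃ a b : W, a * b ≠ b * a) :
    Nat.card (center W) = p ∧ ∀ a b : W, ⁅a, b⁆ ∈ center W := by
  have hW : IsPGroup p W := IsPGroup.of_card hc
  have hp1 := hp.out.one_lt
  have : Nontrivial W := by
    obtain ⟨a, b, hab⟩ := hn
    exact ⟨a, b, fun h => hab (by rw [h])⟩
  have hne : center W ≠ ⊥ := by
    have := hW.center_nontrivial
    exact (Subgroup.nontrivial_iff_ne_bot _).mp inferInstance
  obtain ⟨k, hk⟩ := (IsPGroup.iff_card).mp (hW.to_subgroup (center W))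
  have hidx := Subgroup.card_eq_card_quotient_mul_card_subgroup (center W)
  have hk1 : 1 ≤ k := by
    by_contra h
    have h0 : k = 0 := by omega
    rw [h0, pow_zero] at hk
    exact hne ((Subgroup.card_eq_one).mp hk)
  have hk3 : k ≤ 3 := by
    have hdvd : p ^ k ∣ p ^ 3 := by
      rw [← hk, ← hc]; exact Subgroup.card_subgroup_dvd_card _
    exact (Nat.pow_dvd_pow_iff_le_right hp1).mp hdvd
  have hq : Nat.card (W ⧸ center W) = p ^ (3 - k) := by
    have h1 : p ^ 3 = Nat.card (W ⧸ center W) * p ^ k := by rw [← hc, ← hk]; exact hidx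
    have h3 : p ^ 3 = p ^ (3 - k) * p ^ k := by rw [← pow_add]; congr 1; omega
    exact Nat.eq_of_mul_eq_mul_right (pow_pos hp.out.pos k) (by rw [← h1, h3])
  have hk' : k = 1 := by
    by_contra hk'
    have hk2 : 2 ≤ k := by omega
    have hqle : Nat.card (W ⧸ center W) ∣ p := by
      rw [hq]
      exact (pow_dvd_pow p (by omega : 3 - k ≤ 1)).trans (by rw [pow_one])
    have hcyc : IsCyclic (W ⧸ center W) := by
      rcases (Nat.dvd_prime hp.out).mp hqle with h1 | h1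
      · have := (Nat.card_eq_one_iff_unique.mp h1).1
        exact isCyclic_of_subsingleton
      · exact isCyclic_of_prime_card h1
    obtain ⟨a, b, hab⟩ := hn
    have hmc := MonoidHom.isMulCommutative_of_isCyclic_of_ker_le_center
      (QuotientGroup.mk' (center W)) (by rw [QuotientGroup.ker_mk'])
    exact hab (hmc.is_comm.comm a b)
  subst hk'
  refine ⟨by simpa using hk, ?_⟩
  intro a b
  have hq2 : Nat.card (W ⧸ center W) = p ^ 2 := hq
  have hcomm := comm_of_card_le_sq (Q := W ⧸ center W) (hW.to_quotient (center W)) hq2.le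
    (QuotientGroup.mk a) (QuotientGroup.mk b)
  rw [← QuotientGroup.eq_one_iff]
  have h1 : ((⁅a, b⁆ : W) : W ⧸ center W)
      = ⁅(QuotientGroup.mk a : W ⧸ center W), (QuotientGroup.mk b : W ⧸ center W)⁆ := rfl
  rw [h1]
  exact commutatorElement_eq_one_iff_commute.mpr hcomm

/-- A `p`-group (`p` odd) whose elements of order dividing `p` map injectively into a subgroup
of order at most `p` is cyclic. -/
theorem cyclic_of_few {p : ℕ} [hp : Fact p.Prime] (hp2 : p ≠ 2) {K : Type u} {R : Type v}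
    [Group K] [Finite K] [Group R] [Finite R] (hK : IsPGroup p K) (f : K →* R)
    (hf : Function.Injective f) (Z : Subgroup R) (hZ : Nat.card Z ≤ p)
    (h : ∀ k : K, k ^ p = 1 → f k ∈ Z) : IsCyclic K := by
  by_contra hnc
  obtain ⟨A, -, ⟨-, hAe⟩, hAc⟩ := Cfsg.Agent.S0126.result hp2 hK hnc
  have hle : A.map f ≤ Z := by
    rintro _ ⟨a, ha, rfl⟩
    exact h a (hAe a ha)
  have h1 : Nat.card (A.map f) = p ^ 2 := by
    rw [Subgroup.card_map_of_injective hf]; exact hAc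
  have h2 := Subgroup.card_le_of_le hle
  rw [h1] at h2
  have h3 : p ^ 2 ≤ p := h2.trans hZ
  have h4 : p < p ^ 2 := by
    have := hp.out.one_lt
    nlinarith
  omega

/-- Commutator identity for products on the left. -/
theorem comm_mul_left {R : Type u} [Group R] (a b g : R) :
    ⁅a * b, g⁆ = a * ⁅b, g⁆ * a⁻¹ * ⁅a, g⁆ := by
  simp only [commutatorElement_def]; group

/-- Commutator identity for products on the right. -/
theorem comm_mul_right {R : Type u} [Group R] (g a b : R) :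
    ⁅g, a * b⁆ = ⁅g, a⁆ * (a * ⁅g, b⁆ * a⁻¹) := by
  simp only [commutatorElement_def]; group

/-- If all commutators `⁅g, a⁆` lie in a central subgroup, `g ↦ ⁅g, a⁆` is a homomorphism. -/
theorem commHom {R : Type u} [Group R] (Z : Subgroup R) (hZc : ∀ z ∈ Z, ∀ g : R, z * g = g * z)
    (a : R) (ha : ∀ g : R, ⁅g, a⁆ ∈ Z) : ∃ χ : R →* R, ∀ g, χ g = ⁅g, a⁆ := by
  refine ⟨MonoidHom.mk' (fun g => ⁅g, a⁆) ?_, fun g => rfl⟩
  intro g h
  show ⁅g * h, a⁆ = ⁅g, a⁆ * ⁅h, a⁆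
  rw [comm_mul_left, mul_assoc g, hZc _ (ha h) g⁻¹, mul_inv_cancel_left, hZc _ (ha h)]

/-- If `⁅u, y⁆` is central then `⁅u, y ^ n⁆ = ⁅u, y⁆ ^ n`. -/
theorem comm_pow_right {R : Type u} [Group R] (u y : R) (hc : ∀ g : R, ⁅u, y⁆ * g = g * ⁅u, y⁆)
    (n : ℕ) : ⁅u, y ^ n⁆ = ⁅u, y⁆ ^ n := by
  induction n with
  | zero => simp
  | succ n ih =>
    have h1 : y ^ n * ⁅u, y⁆ * (y ^ n)⁻¹ = ⁅u, y⁆ := by
      rw [← hc (y ^ n), mul_assoc, mul_inv_cancel, mul_one]
    rw [pow_succ, comm_mul_right, ih, h1, pow_succ]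

/-- The elements whose commutators all lie in the central subgroup `Z`. -/
def E0 {R : Type u} [Group R] (Z : Subgroup R) (hZc : ∀ z ∈ Z, ∀ g : R, z * g = g * z) :
    Subgroup R where
  carrier := {a | ∀ g : R, ⁅a, g⁆ ∈ Z}
  mul_mem' := by
    intro a b ha hb g
    show ⁅a * b, g⁆ ∈ Z
    rw [comm_mul_left, mul_assoc a, hZc _ (hb g) a⁻¹, mul_inv_cancel_left]
    exact Z.mul_mem (hb g) (ha g)
  one_mem' := by
    intro g
    show ⁅(1 : R), g⁆ ∈ Z
    rw [commutatorElement_one_left]; exact Z.one_mem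
  inv_mem' := by
    intro a ha g
    show ⁅a⁻¹, g⁆ ∈ Z
    have h1 : ⁅a⁻¹, g⁆ = a⁻¹ * ⁅a, g⁆⁻¹ * a := by simp only [commutatorElement_def]; group
    rw [h1, mul_assoc, hZc _ (Z.inv_mem (ha g)) a, inv_mul_cancel_left]
    exact Z.inv_mem (ha g)

theorem mem_E0 {R : Type u} [Group R] (Z : Subgroup R) (hZc : ∀ z ∈ Z, ∀ g : R, z * g = g * z)
    (a : R) : a ∈ E0 Z hZc ↔ ∀ g : R, ⁅a, g⁆ ∈ Z := Iff.rfl

/-- Two non-commuting elements generate a non-abelian group of order `p³` modulo its centre. -/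
theorem gen {p : ℕ} [hp : Fact p.Prime] {R : Type u} [Group R] [Finite R] (hR : IsPGroup p R)
    (W : Subgroup R) (hW : ∀ x, x ∈ W ↔ x ^ p = 1) (hWc : Nat.card W = p ^ 3) (Z : Subgroup R)
    (hZc : ∀ z ∈ Z, ∀ g : R, z * g = g * z) (hWW : ∀ a ∈ W, ∀ b ∈ W, ⁅a, b⁆ ∈ Z)
    (x y : R) (hx : x ∈ W) (hy : y ∈ W) (hxy : x * y ≠ y * x) :
    ∀ w ∈ W, ∃ i j : ℕ, ∃ z ∈ Z, w = x ^ i * y ^ j * z := by
  have hxH : x ∈ closure ({x, y} : Set R) := Subgroup.subset_closure (by simp)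
  have hyH : y ∈ closure ({x, y} : Set R) := Subgroup.subset_closure (by simp)
  have hHW : closure ({x, y} : Set R) ≤ W := by
    rw [closure_le]
    rintro _ (rfl | rfl)
    · exact hx
    · exact hy
  have hHeq : closure ({x, y} : Set R) = W := by
    by_contra hne
    have hlt : closure ({x, y} : Set R) < W := lt_of_le_of_ne hHW hne
    have h1 := Cfsg.Agent.S0128.mul_card_le_of_lt hR hlt
    rw [hWc] at h1
    have h2 : Nat.card (closure ({x, y} : Set R)) ≤ p ^ 2 := by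
      have : p * Nat.card (closure ({x, y} : Set R)) ≤ p * p ^ 2 := by
        rw [← pow_succ']; exact h1
      exact Nat.le_of_mul_le_mul_left this hp.out.pos
    have h3 := comm_of_card_le_sq (hR.to_subgroup (closure ({x, y} : Set R))) h2
      ⟨x, hxH⟩ ⟨y, hyH⟩
    exact hxy (congrArg Subtype.val h3)
  have key : ∀ w ∈ closure ({x, y} : Set R), ∃ i j : ℤ, ∃ z ∈ Z, w = x ^ i * y ^ j * z := by
    intro w hw
    induction hw using Subgroup.closure_induction with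
    | mem a ha =>
      rcases ha with rfl | rfl
      · exact ⟨1, 0, 1, Z.one_mem, by simp⟩
      · exact ⟨0, 1, 1, Z.one_mem, by simp⟩
    | one => exact ⟨0, 0, 1, Z.one_mem, by simp⟩
    | mul a b _ _ iha ihb =>
      obtain ⟨i, j, z, hz, rfl⟩ := iha
      obtain ⟨i', j', z', hz', rfl⟩ := ihb
      have hc : (x ^ i' * y ^ j)⁻¹ * (y ^ j * x ^ i') ∈ Z := by
        have : (x ^ i' * y ^ j)⁻¹ * (y ^ j * x ^ i') = ⁅(y ^ j)⁻¹, (x ^ i')⁻¹⁆ := by
          simp only [commutatorElement_def]; group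
        rw [this]
        exact hWW _ (W.inv_mem (W.zpow_mem hy j)) _ (W.inv_mem (W.zpow_mem hx i'))
      refine ⟨i + i', j + j', (x ^ i' * y ^ j)⁻¹ * (y ^ j * x ^ i') * z * z',
        Z.mul_mem (Z.mul_mem hc hz) hz', ?_⟩
      have e0 : y ^ j * x ^ i' = x ^ i' * y ^ j * ((x ^ i' * y ^ j)⁻¹ * (y ^ j * x ^ i')) := by
        group
      have e1 : z * (x ^ i' * y ^ j' * z') = x ^ i' * y ^ j' * z' * z := hZc z hz _
      have e2 := hZc _ hc (y ^ j')
      have e3 : z' * z = z * z' := (hZc z hz z').symm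
      calc x ^ i * y ^ j * z * (x ^ i' * y ^ j' * z')
          = x ^ i * y ^ j * (x ^ i' * y ^ j' * z' * z) := by
            rw [mul_assoc (x ^ i * y ^ j), e1]
        _ = x ^ i * (y ^ j * x ^ i') * y ^ j' * (z' * z) := by group
        _ = x ^ i * (x ^ i' * y ^ j * ((x ^ i' * y ^ j)⁻¹ * (y ^ j * x ^ i'))) * y ^ j'
              * (z' * z) := by rw [← e0]
        _ = x ^ i * x ^ i' * y ^ j * ((x ^ i' * y ^ j)⁻¹ * (y ^ j * x ^ i') * y ^ j')
              * (z' * z) := by simp only [mul_assoc]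
        _ = x ^ i * x ^ i' * y ^ j * (y ^ j' * ((x ^ i' * y ^ j)⁻¹ * (y ^ j * x ^ i')))
              * (z * z') := by rw [e2, e3]
        _ = x ^ (i + i') * y ^ (j + j') * ((x ^ i' * y ^ j)⁻¹ * (y ^ j * x ^ i') * z * z') := by
            rw [zpow_add, zpow_add]; simp only [mul_assoc]
    | inv a _ iha =>
      obtain ⟨i, j, z, hz, rfl⟩ := iha
      have hc : ⁅y ^ j, x ^ i⁆ ∈ Z := hWW _ (W.zpow_mem hy j) _ (W.zpow_mem hx i)
      refine ⟨-i, -j, ⁅y ^ j, x ^ i⁆ * z⁻¹, Z.mul_mem hc (Z.inv_mem hz), ?_⟩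
      have e1 : z⁻¹ * ((y ^ j)⁻¹ * (x ^ i)⁻¹) = (y ^ j)⁻¹ * (x ^ i)⁻¹ * z⁻¹ :=
        hZc _ (Z.inv_mem hz) _
      calc (x ^ i * y ^ j * z)⁻¹ = z⁻¹ * ((y ^ j)⁻¹ * (x ^ i)⁻¹) := by group
        _ = (y ^ j)⁻¹ * (x ^ i)⁻¹ * z⁻¹ := e1
        _ = x ^ (-i) * y ^ (-j) * (⁅y ^ j, x ^ i⁆ * z⁻¹) := by
            rw [zpow_neg, zpow_neg]; simp only [commutatorElement_def]; group
  intro w hw
  rw [← hHeq] at hw
  obtain ⟨i, j, z, hz, rfl⟩ := key w hw
  obtain ⟨n, hn⟩ := zpow_to_pow hp.out.pos x ((hW x).mp hx) i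
  obtain ⟨m, hm⟩ := zpow_to_pow hp.out.pos y ((hW y).mp hy) j
  exact ⟨n, m, z, hz, by rw [hn, hm]⟩

/-- The exceptional configuration: an element `r` centralizing `y = ⁅x, r⁆ ∉ Z` with `y`
central modulo `Z`.  Then all automorphisms of odd order act trivially on `R / C_R(y)`. -/
theorem case_ii {p : ℕ} [hp : Fact p.Prime] (hp2 : p ≠ 2) {R : Type u} [Group R] [Finite R]
    (hR : IsPGroup p R) (W : Subgroup R) (hW : ∀ x, x ∈ W ↔ x ^ p = 1) (hWc : Nat.card W = p ^ 3)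
    (Z : Subgroup R) (hZcard : Nat.card Z = p) (hZW : Z ≤ W)
    (hZc : ∀ z ∈ Z, ∀ g : R, z * g = g * z) (hZchar : ∀ φ : MulAut R, ∀ z ∈ Z, φ z ∈ Z)
    (hWW : ∀ a ∈ W, ∀ b ∈ W, ⁅a, b⁆ ∈ Z)
    (hZ3 : ∀ w ∈ W, (∀ w' ∈ W, w * w' = w' * w) → w ∈ Z)
    (x r : R) (hxW : x ∈ W) (hy : ∀ g : R, ⁅⁅x, r⁆, g⁆ ∈ Z) (hry : r * ⁅x, r⁆ = ⁅x, r⁆ * r)
    (hxy : ⁅x, ⁅x, r⁆⁆ ≠ 1) :
    ∃ D : Subgroup R, D ≠ ⊤ ∧
      ∀ φ : MulAut R, ∀ N : ℕ, Odd N → φ ^ N = 1 → ∀ g, φ g * g⁻¹ ∈ D := by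
  have hpp := hp.out
  have hWn : ∀ w ∈ W, ∀ g : R, g * w * g⁻¹ ∈ W := by
    intro w hw g
    rw [hW, conj_pow, (hW w).mp hw, mul_one, mul_inv_cancel]
  have hWchar : ∀ φ : MulAut R, ∀ w ∈ W, φ w ∈ W := by
    intro φ w hw
    rw [hW, ← map_pow, (hW w).mp hw, map_one]
  obtain ⟨y, hydef⟩ : ∃ y : R, y = ⁅x, r⁆ := ⟨_, rfl⟩
  rw [← hydef] at hy hry hxy
  obtain ⟨z₁, hz₁def⟩ : ∃ z₁ : R, z₁ = ⁅x, y⁆ := ⟨_, rfl⟩
  rw [← hz₁def] at hxy
  have hyW : y ∈ W := by
    have : y = x * (r * x⁻¹ * r⁻¹) := by rw [hydef, commutatorElement_def]; group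
    rw [this]
    exact W.mul_mem hxW (hWn _ (W.inv_mem hxW) r)
  have hz₁Z : z₁ ∈ Z := by rw [hz₁def]; exact hWW x hxW y hyW
  have hz₁p : z₁ ^ p = 1 := (hW z₁).mp (hZW hz₁Z)
  have hz₁ord : orderOf z₁ = p := orderOf_eq_prime hz₁p hxy
  have hxp : x ^ p = 1 := (hW x).mp hxW
  have hyp : y ^ p = 1 := (hW y).mp hyW
  have hyZ : y ∉ Z := by
    intro h
    apply hxy
    rw [hz₁def]
    exact commutatorElement_eq_one_iff_commute.mpr (hZc y h x).symm
  have hy1 : y ≠ 1 := fun h => hyZ (h ▸ Z.one_mem)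
  have hyord : orderOf y = p := orderOf_eq_prime hyp hy1
  have hZgen : ∀ z ∈ Z, ∃ i : ℕ, z = z₁ ^ i :=
    fun z hz => pow_of_prime_card Z hZcard z₁ hz₁Z hxy z hz
  have hy' : ∀ g : R, ⁅g, y⁆ ∈ Z := by
    intro g
    rw [← commutatorElement_inv]
    exact Z.inv_mem (hy g)
  obtain ⟨χ, hχ⟩ := commHom Z hZc y hy'
  have hχZ : ∀ g, χ g ∈ Z := fun g => by rw [hχ]; exact hy' g
  have hχx : χ x = z₁ := by rw [hχ, hz₁def]
  have hχy : χ y = 1 := by rw [hχ, commutatorElement_self]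
  have hχz : ∀ z ∈ Z, χ z = 1 := by
    intro z hz
    rw [hχ]
    exact commutatorElement_eq_one_iff_commute.mpr (hZc z hz y)
  have hχcomm : ∀ g, χ g = 1 ↔ g * y = y * g := by
    intro g
    rw [hχ, commutatorElement_eq_one_iff_commute]
    exact Iff.rfl
  have hxynot : x * y ≠ y * x := by
    intro h
    apply hxy
    rw [hz₁def]
    exact commutatorElement_eq_one_iff_commute.mpr h
  have hgen := gen hR W hW hWc Z hZc hWW x y hxW hyW hxynot
  have hz₁pow : ∀ i : ℕ, z₁ ^ i = 1 → p ∣ i := by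
    intro i hi
    rw [← hz₁ord]; exact orderOf_dvd_of_pow_eq_one hi
  have hxpow : ∀ i : ℕ, p ∣ i → x ^ i = 1 := by
    rintro i ⟨k, rfl⟩
    rw [pow_mul, hxp, one_pow]
  have hE : ∀ e ∈ W, χ e = 1 → ∃ j : ℕ, ∃ z ∈ Z, e = y ^ j * z := by
    intro e he hχe
    obtain ⟨i, j, z, hz, rfl⟩ := hgen e he
    simp only [map_mul, map_pow, hχx, hχy, hχz z hz, one_pow, mul_one] at hχe
    refine ⟨j, z, hz, ?_⟩
    rw [hxpow i (hz₁pow i hχe), one_mul]
  have hDE : ∀ d, χ d = 1 → ∀ e ∈ W, χ e = 1 → d * e = e * d := by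
    intro d hd e he hχe
    obtain ⟨j, z, hz, rfl⟩ := hE e he hχe
    have h1 : Commute d y := (hχcomm d).mp hd
    have h2 : Commute d z := (hZc z hz d).symm
    exact ((h1.pow_right j).mul_right h2).eq
  have hWD : ∀ w ∈ W, ∀ d, χ d = 1 → ⁅w, d⁆ ∈ W ∧ χ ⁅w, d⁆ = 1 := by
    intro w hw d hd
    constructor
    · have : ⁅w, d⁆ = w * (d * w⁻¹ * d⁻¹) := by rw [commutatorElement_def]; group
      rw [this]
      exact W.mul_mem hw (hWn _ (W.inv_mem hw) d)
    · simp [commutatorElement_def, hd]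
  have hDmem : ∀ d : R, d ∈ χ.ker ↔ χ d = 1 := fun d => MonoidHom.mem_ker
  have hψmul : ∀ a b : χ.ker, ⁅x, ((a * b : χ.ker) : R)⁆ = ⁅x, (a : R)⁆ * ⁅x, (b : R)⁆ := by
    intro a b
    have ha : χ (a : R) = 1 := (hDmem _).mp a.2
    have hb : χ (b : R) = 1 := (hDmem _).mp b.2
    obtain ⟨h1, h2⟩ := hWD x hxW (b : R) hb
    have h3 := hDE (a : R) ha _ h1 h2
    rw [Subgroup.coe_mul, comm_mul_right, h3, mul_inv_cancel_right]
  obtain ⟨ψ, hψ⟩ : ∃ ψ : χ.ker →* R, ∀ d : χ.ker, ψ d = ⁅x, (d : R)⁆ :=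
    ⟨MonoidHom.mk' (fun d => ⁅x, (d : R)⁆) hψmul, fun d => rfl⟩
  have hrD : χ r = 1 := (hχcomm r).mpr hry
  obtain ⟨rD, hrDdef⟩ : ∃ rD : χ.ker, (rD : R) = r := ⟨⟨r, (hDmem r).mpr hrD⟩, rfl⟩
  obtain ⟨yD, hyDdef⟩ : ∃ yD : χ.ker, (yD : R) = y := ⟨⟨y, (hDmem y).mpr hχy⟩, rfl⟩
  have hψr : ψ rD = y := by rw [hψ, hrDdef, hydef]
  have hψy : ψ yD = z₁ := by rw [hψ, hyDdef, hz₁def]
  have hC : ∀ g, x * g = g * x → y * g = g * y → ∀ w ∈ W, w * g = g * w := by
    intro g h1 h2 w hw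
    obtain ⟨i, j, z, hz, rfl⟩ := hgen w hw
    have c1 : Commute x g := h1
    have c2 : Commute y g := h2
    have c3 : Commute z g := hZc z hz g
    exact (((c1.pow_left i).mul_left (c2.pow_left j)).mul_left c3).eq
  have hrW : r ∉ W := by
    intro h
    apply hyZ
    rw [hydef]
    exact hWW x hxW r h
  have hrpC : ∀ w ∈ W, w * r ^ p = r ^ p * w := by
    apply hC
    · have h1 : ψ (rD ^ p) = 1 := by rw [map_pow, hψr, hyp]
      rw [hψ, Subgroup.coe_pow, hrDdef] at h1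
      exact commutatorElement_eq_one_iff_commute.mp h1
    · exact ((show Commute r y from hry).pow_left p).symm.eq
  obtain ⟨n₀, hn₀⟩ : ∃ n : ℕ, z₁ = (r ^ p) ^ n := by
    obtain ⟨k, hk⟩ := (IsPGroup.iff_orderOf.mp hR) r
    have hk2 : 2 ≤ k := by
      by_contra h
      apply hrW
      rw [hW]
      have : k = 0 ∨ k = 1 := by omega
      rcases this with rfl | rfl
      · rw [pow_zero, orderOf_eq_one_iff] at hk
        rw [hk, one_pow]
      · rw [pow_one] at hk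
        rw [← hk]; exact pow_orderOf_eq_one r
    have ht' : (r ^ p) ^ (p ^ (k - 2)) = r ^ (p ^ (k - 1)) := by
      rw [← pow_mul, ← pow_succ']; congr 2; omega
    have htp : ((r ^ p) ^ (p ^ (k - 2))) ^ p = 1 := by
      rw [ht', ← pow_mul, ← pow_succ]
      have : k - 1 + 1 = k := by omega
      rw [this, ← hk]; exact pow_orderOf_eq_one r
    have ht1 : (r ^ p) ^ (p ^ (k - 2)) ≠ 1 := by
      rw [ht']
      apply pow_ne_one_of_lt_orderOf (pow_pos hpp.pos _).ne'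
      rw [hk]
      exact Nat.pow_lt_pow_right hpp.one_lt (by omega)
    have htZ : (r ^ p) ^ (p ^ (k - 2)) ∈ Z := by
      apply hZ3 _ ((hW _).mpr htp)
      intro w' hw'
      have c : Commute w' (r ^ p) := hrpC w' hw'
      exact (c.pow_right _).symm.eq
    obtain ⟨i, hi⟩ := pow_of_prime_card Z hZcard _ htZ ht1 z₁ hz₁Z
    exact ⟨p ^ (k - 2) * i, by rw [hi, ← pow_mul]⟩
  have hCr : ∀ c : R, (∀ w ∈ W, w * c = c * w) → ∃ n : ℕ, c = (r ^ p) ^ n := by
    obtain ⟨K, hKmem⟩ : ∃ K : Subgroup χ.ker, ∀ k : χ.ker, k ∈ K ↔ ψ k ∈ zpowers y :=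
      ⟨(zpowers y).comap ψ, fun k => Iff.rfl⟩
    have hKp : IsPGroup p K := (hR.to_subgroup χ.ker).to_subgroup K
    have hKcyc : IsCyclic K := by
      apply cyclic_of_few hp2 hKp (χ.ker.subtype.comp K.subtype)
        ((Subgroup.subtype_injective χ.ker).comp (Subgroup.subtype_injective K)) Z hZcard.le
      intro k hk
      show ((k : χ.ker) : R) ∈ Z
      have hk' : ((k : χ.ker) : R) ^ p = 1 := by
        have := congrArg (fun a : K => ((a : χ.ker) : R)) hk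
        simpa using this
      have hkW : ((k : χ.ker) : R) ∈ W := (hW _).mpr hk'
      have hkχ : χ ((k : χ.ker) : R) = 1 := (hDmem _).mp (k : χ.ker).2
      obtain ⟨j, z, hz, hkeq⟩ := hE _ hkW hkχ
      have hψk : ψ (k : χ.ker) = z₁ ^ j := by
        rw [hψ, hkeq, comm_mul_right, comm_pow_right x y
          (by rw [← hz₁def]; exact fun g => hZc _ hz₁Z g) j, ← hz₁def]
        have : ⁅x, z⁆ = 1 := commutatorElement_eq_one_iff_commute.mpr (hZc z hz x).symm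
        rw [this]; group
      have hmem : ψ (k : χ.ker) ∈ zpowers y := (hKmem _).mp k.2
      obtain ⟨m, hm⟩ := (mem_powers_iff_mem_zpowers).mpr hmem
      have hm' : y ^ m = z₁ ^ j := by rw [← hψk]; exact hm
      have hpj : p ∣ j := by
        apply hz₁pow
        by_contra hne
        have hpm : ¬ p ∣ m := by
          rintro ⟨q, rfl⟩
          apply hne
          rw [← hm', pow_mul, hyp, one_pow]
        obtain ⟨m', hm''⟩ := exists_pow_back y hyp m hpm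
        apply hyZ
        rw [← hm'', hm']
        exact Z.pow_mem (Z.pow_mem hz₁Z j) m'
      obtain ⟨q, rfl⟩ := hpj
      rw [hkeq, pow_mul, hyp, one_pow, one_mul]
      exact hz
    obtain ⟨k₀, hk₀⟩ := hKcyc.exists_generator
    obtain ⟨rK, hrKdef⟩ : ∃ rK : K, (rK : χ.ker) = rD :=
      ⟨⟨rD, (hKmem rD).mpr (by rw [hψr]; exact mem_zpowers y)⟩, rfl⟩
    obtain ⟨b, hb⟩ := (mem_powers_iff_mem_zpowers).mpr (hk₀ rK)
    have hb' : k₀ ^ b = rK := hb
    obtain ⟨a, ha⟩ := (mem_powers_iff_mem_zpowers).mpr ((hKmem _).mp k₀.2)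
    have ha' : y ^ a = ψ (k₀ : χ.ker) := ha
    have hpb : ¬ p ∣ b := by
      rintro ⟨q, rfl⟩
      apply hy1
      have h1 : ψ ((rK : K) : χ.ker) = ψ (((k₀ ^ (p * q) : K)) : χ.ker) := by rw [hb']
      rw [Subgroup.coe_pow, map_pow, ← ha', hrKdef, hψr] at h1
      rw [h1, ← pow_mul, mul_comm a, mul_assoc, pow_mul, hyp, one_pow]
    obtain ⟨s, hs⟩ := (IsPGroup.iff_orderOf.mp hKp) k₀
    obtain ⟨m, hm⟩ : ∃ m : ℕ, (k₀ ^ b) ^ m = k₀ := by
      apply exists_pow_eq_self_of_coprime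
      rw [hs]
      exact Nat.Coprime.pow_right s ((Nat.Prime.coprime_iff_not_dvd hpp).mpr hpb).symm
    rw [hb'] at hm
    intro c hc
    have hcχ : χ c = 1 := (hχcomm c).mpr (hc y hyW).symm
    obtain ⟨cD, hcDdef⟩ : ∃ cD : χ.ker, (cD : R) = c := ⟨⟨c, (hDmem c).mpr hcχ⟩, rfl⟩
    have hψc : ψ cD = 1 := by
      rw [hψ, hcDdef]
      exact commutatorElement_eq_one_iff_commute.mpr (hc x hxW)
    obtain ⟨cK, hcKdef⟩ : ∃ cK : K, (cK : χ.ker) = cD :=
      ⟨⟨cD, (hKmem cD).mpr (by rw [hψc]; exact one_mem _)⟩, rfl⟩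
    obtain ⟨i, hi⟩ := (mem_powers_iff_mem_zpowers).mpr (hk₀ cK)
    have hi' : k₀ ^ i = cK := hi
    rw [← hm, ← pow_mul] at hi'
    have hi'' : r ^ (m * i) = c := by
      have := congrArg (fun a : K => ((a : χ.ker) : R)) hi'
      simpa [hrKdef, hrDdef, hcKdef, hcDdef] using this
    have hpi : p ∣ m * i := by
      have h1 : ψ ((rK ^ (m * i) : K) : χ.ker) = ψ ((cK : K) : χ.ker) := by rw [hi']
      rw [Subgroup.coe_pow, map_pow, hrKdef, hψr, hcKdef, hψc] at h1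
      rw [← hyord]; exact orderOf_dvd_of_pow_eq_one h1
    obtain ⟨q, hq⟩ := hpi
    exact ⟨q, by rw [← hi'', hq, pow_mul]⟩
  have hxE0 : x ∉ E0 Z hZc := fun h => hyZ (by rw [hydef]; exact h r)
  have hyE0 : y ∈ E0 Z hZc := hy
  have hZE0 : ∀ z ∈ Z, z ∈ E0 Z hZc := by
    intro z hz g
    rw [commutatorElement_eq_one_iff_commute.mpr (hZc z hz g)]
    exact Z.one_mem
  have hE0char : ∀ φ : MulAut R, ∀ a ∈ E0 Z hZc, φ a ∈ E0 Z hZc := by
    intro φ a ha g
    have h1 : ⁅φ a, g⁆ = φ ⁅a, φ⁻¹ g⁆ := by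
      rw [map_commutatorElement, MulAut.apply_inv_self]
    rw [h1]
    exact hZchar φ _ (ha _)
  have hφy : ∀ φ : MulAut R, χ (φ y) = 1 := by
    intro φ
    obtain ⟨a, b, z, hz, hφyeq⟩ := hgen (φ y) (hWchar φ y hyW)
    have hpa : p ∣ a := by
      by_contra hpa
      obtain ⟨m, hm⟩ := exists_pow_back x hxp a hpa
      apply hxE0
      rw [← hm]
      apply Subgroup.pow_mem
      have h1 : x ^ a = φ y * (y ^ b * z)⁻¹ := by rw [hφyeq]; group
      rw [h1]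
      exact Subgroup.mul_mem _ (hE0char φ y hyE0)
        (Subgroup.inv_mem _ (Subgroup.mul_mem _ (Subgroup.pow_mem _ hyE0 b) (hZE0 z hz)))
    rw [hφyeq]
    simp only [map_mul, map_pow, hχx, hχy, hχz z hz, one_pow, mul_one]
    obtain ⟨q, rfl⟩ := hpa
    rw [pow_mul, hz₁p, one_pow]
  have hφD : ∀ φ : MulAut R, ∀ d, χ d = 1 → χ (φ d) = 1 := by
    intro φ d hd
    rw [hχcomm]
    have h1 := hDE d hd (φ⁻¹ y) (hWchar φ⁻¹ y hyW) (hφy φ⁻¹)
    have h2 := congrArg φ h1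
    rwa [map_mul, map_mul, MulAut.apply_inv_self] at h2
  refine ⟨χ.ker, ?_, ?_⟩
  · intro htop
    have : x ∈ χ.ker := htop ▸ mem_top x
    rw [hDmem, hχx] at this
    exact hxy this
  intro φ N hN hφN g
  obtain ⟨α, β, zx, hzx, hφx⟩ := hgen (φ x) (hWchar φ x hxW)
  have hχφx : χ (φ x) = z₁ ^ α := by
    rw [hφx]
    simp only [map_mul, map_pow, hχx, hχy, hχz zx hzx, one_pow, mul_one]
  have hA : ∀ w ∈ W, χ (φ w) = (χ w) ^ α := by
    intro w hw
    obtain ⟨i, j, z, hz, rfl⟩ := hgen w hw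
    simp only [map_mul, map_pow, hχφx, hφy φ, hχz _ (hZchar φ z hz), hχx, hχy, hχz z hz, one_pow,
      mul_one]
    rw [← pow_mul, ← pow_mul, mul_comm]
  have hαα : α * α ≡ 1 [MOD p] := by
    obtain ⟨d, hd⟩ : ∃ d : R, d = φ r := ⟨_, rfl⟩
    have hdχ : χ d = 1 := by rw [hd]; exact hφD φ r hrD
    obtain ⟨hxdW, hxdχ⟩ := hWD x hxW d hdχ
    obtain ⟨j, zd, hzd, hxd⟩ := hE _ hxdW hxdχ
    obtain ⟨i, hi⟩ := hZgen zd hzd
    obtain ⟨dD, hdDdef⟩ : ∃ dD : χ.ker, (dD : R) = d := ⟨⟨d, (hDmem d).mpr hdχ⟩, rfl⟩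
    have hψd : ψ dD = y ^ j * z₁ ^ i := by rw [hψ, hdDdef, hxd, hi]
    have hψc : ψ ((rD ^ j * yD ^ i)⁻¹ * dD) = 1 := by
      rw [map_mul, map_inv, map_mul, map_pow, map_pow, hψr, hψy, hψd, inv_mul_cancel]
    obtain ⟨c, hc⟩ : ∃ c : R, c = (r ^ j * y ^ i)⁻¹ * d := ⟨_, rfl⟩
    have hcc : ((((rD ^ j * yD ^ i)⁻¹ * dD : χ.ker)) : R) = c := by
      rw [hc]
      simp [hrDdef, hyDdef, hdDdef]
    have hcx : x * c = c * x := by
      have : ⁅x, c⁆ = 1 := by rw [← hcc, ← hψ]; exact hψc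
      exact commutatorElement_eq_one_iff_commute.mp this
    have hcy : y * c = c * y := by
      have : χ c = 1 := by
        rw [hc]
        simp [hrD, hχy, hdχ]
      exact ((hχcomm c).mp this).symm
    obtain ⟨m, hm⟩ := hCr c (hC c hcx hcy)
    have hdeq : d = r ^ j * y ^ i * (r ^ p) ^ m := by rw [← hm, hc]; group
    have hcry : Commute r y := hry
    have hdp : d ^ p = (r ^ p) ^ (j + m * p) := by
      rw [hdeq]
      have c1 : Commute (r ^ j) (y ^ i) := (hcry.pow_left j).pow_right i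
      have c2 : Commute (r ^ j * y ^ i) ((r ^ p) ^ m) := by
        apply Commute.mul_left
        · exact (((Commute.refl r).pow_left j).pow_right p).pow_right m
        · exact ((hcry.symm.pow_left i).pow_right p).pow_right m
      rw [c2.mul_pow, c1.mul_pow, ← pow_mul y, mul_comm i p, pow_mul y, hyp, one_pow, mul_one,
        ← pow_mul, ← pow_mul, ← pow_mul, ← pow_mul, ← pow_add]
      congr 1; ring
    have hI : φ z₁ = z₁ ^ j := by
      calc φ z₁ = φ ((r ^ p) ^ n₀) := by rw [← hn₀]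
        _ = (d ^ p) ^ n₀ := by rw [map_pow, map_pow, hd]
        _ = ((r ^ p) ^ n₀) ^ (j + m * p) := by rw [hdp, pow_right_comm]
        _ = z₁ ^ j := by rw [← hn₀, pow_add, mul_comm m p, pow_mul, hz₁p, one_pow, mul_one]
    have hφy2 : ∃ z'' ∈ Z, φ y = y ^ (j * α) * z'' := by
      have h1 : φ y = ⁅φ x, d⁆ := by rw [hydef, map_commutatorElement, hd]
      have h2 : ⁅φ x, d⁆ = ⁅x ^ α, d⁆ := by
        rw [hφx, mul_assoc, comm_mul_left]
        have : ⁅y ^ β * zx, d⁆ = 1 := by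
          apply commutatorElement_eq_one_iff_commute.mpr
          have c1 : Commute d y := (hχcomm d).mp hdχ
          have c2 : Commute d zx := (hZc zx hzx d).symm
          exact ((c1.pow_right β).mul_right c2).symm
        rw [this]; group
      have h3 : ∀ n : ℕ, ∃ z ∈ Z, ⁅x ^ n, d⁆ = z * ⁅x, d⁆ ^ n := by
        intro n
        induction n with
        | zero => exact ⟨1, Z.one_mem, by simp⟩
        | succ n ih =>
          obtain ⟨z, hz, hzeq⟩ := ih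
          have hcz : ⁅x ^ n, ⁅x, d⁆⁆ ∈ Z := hWW _ (W.pow_mem hxW n) _ hxdW
          refine ⟨⁅x ^ n, ⁅x, d⁆⁆ * z, Z.mul_mem hcz hz, ?_⟩
          have e1 : x ^ n * ⁅x, d⁆ * (x ^ n)⁻¹ = ⁅x ^ n, ⁅x, d⁆⁆ * ⁅x, d⁆ := by
            rw [commutatorElement_def (x ^ n)]; group
          have e2 : ⁅x, d⁆ * z = z * ⁅x, d⁆ := (hZc z hz _).symm
          rw [pow_succ, comm_mul_left, e1, hzeq, pow_succ, mul_assoc, ← mul_assoc ⁅x, d⁆ z, e2]
          simp only [mul_assoc]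
          congr 2
          exact ((Commute.refl ⁅x, d⁆).pow_right n).eq
      obtain ⟨z, hz, hzeq⟩ := h3 α
      refine ⟨z * zd ^ α, Z.mul_mem hz (Z.pow_mem hzd α), ?_⟩
      rw [h1, h2, hzeq, hxd]
      have c1 : Commute (y ^ j) zd := (hZc zd hzd _).symm
      rw [c1.mul_pow, ← pow_mul, ← mul_assoc, hZc z hz, mul_assoc]
    obtain ⟨z'', hz'', hφy2⟩ := hφy2
    have hII : φ z₁ = z₁ ^ (α * (j * α)) := by
      have h1 : φ z₁ = ⁅φ x, φ y⁆ := by rw [hz₁def, map_commutatorElement]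
      have h2 : ⁅φ x, z''⁆ = 1 :=
        commutatorElement_eq_one_iff_commute.mpr (hZc z'' hz'' _).symm
      have h3 : ⁅φ x, y⁆ = z₁ ^ α := by rw [← hχ, hχφx]
      rw [h1, hφy2, comm_mul_right, h2, comm_pow_right (φ x) y
        (by rw [h3]; exact fun g => hZc _ (Z.pow_mem hz₁Z α) g), h3, ← pow_mul]
      group
    have hpj : ¬ p ∣ j := by
      rintro ⟨q, rfl⟩
      rw [pow_mul, hz₁p, one_pow] at hI
      exact hxy ((map_eq_one_iff φ φ.injective).mp hI)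
    have hmod : α * (j * α) ≡ j [MOD p] := by
      rw [← hz₁ord, ← pow_eq_pow_iff_modEq, ← hII, hI]
    have hmod2 : j * (α * α) ≡ j * 1 [MOD p] := by
      rw [mul_one]; convert hmod using 1; ring
    exact Nat.ModEq.cancel_left_of_coprime ((Nat.Prime.coprime_iff_not_dvd hpp).mpr hpj) hmod2
  have hpow1 : ∀ t ∈ Z, t ^ (α * α) = t := by
    intro t ht
    have htp : t ^ p = 1 := (hW t).mp (hZW ht)
    have h1 : α * α % p = 1 % p := hαα
    rw [pow_eq_pow_mod (α * α) htp, h1, Nat.mod_eq_of_lt hpp.one_lt, pow_one]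
  have hB : ∀ w ∈ W, χ (φ (φ w)) = χ w := by
    intro w hw
    rw [hA _ (hWchar φ w hw), hA w hw, ← pow_mul, hpow1 _ (hχZ w)]
  have hCc : ∀ m : ℕ, ∀ w ∈ W, χ ((φ ^ (2 * m)) w) = χ w := by
    intro m
    induction m with
    | zero => intro w _; simp
    | succ m ih =>
      intro w hw
      have : φ ^ (2 * (m + 1)) = φ ^ (2 * m) * (φ * φ) := by
        rw [mul_add, pow_add, mul_one, pow_two]
      rw [this, MulAut.mul_apply, MulAut.mul_apply, ih _ (hWchar φ _ (hWchar φ w hw)), hB w hw]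
  have hDd : ∀ w ∈ W, χ (φ w) = χ w := by
    intro w hw
    obtain ⟨m, rfl⟩ := hN
    have h1 : (φ ^ (2 * m + 1)) w = w := by rw [hφN]; rfl
    rw [pow_succ, MulAut.mul_apply] at h1
    have h2 := hCc m (φ w) (hWchar φ w hw)
    rw [h1] at h2
    exact h2.symm
  obtain ⟨i, hi⟩ := hZgen (χ g) (hχZ g)
  have hd' : χ ((x ^ i)⁻¹ * g) = 1 := by
    rw [map_mul, map_inv, map_pow, hχx, hi, inv_mul_cancel]
  have hg : g = x ^ i * ((x ^ i)⁻¹ * g) := by group
  rw [hDmem, map_mul, map_inv]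
  have h1 : χ (φ g) = χ g := by
    conv_lhs => rw [hg]
    rw [map_mul, map_mul, hφD φ _ hd', mul_one, hDd _ (W.pow_mem hxW i), map_pow, hχx, hi]
  rw [h1, mul_inv_cancel]

/-- **Core structure theorem.** Let `R` be a `p`-group (`p` odd) whose elements of order dividing
`p` form a non-abelian subgroup `W` of order `p³`.  Then either `R = W * C_R(W)` with `C_R(W)`
cyclic and `Ω₁(C_R(W)) = W'`, or some proper subgroup `D` contains `φ g * g⁻¹` for every
automorphism `φ` of odd order and every `g`. -/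
theorem core {p : ℕ} [hp : Fact p.Prime] (hp2 : p ≠ 2) {R : Type u} [Group R] [Finite R]
    (hR : IsPGroup p R) (W : Subgroup R) (hW : ∀ x, x ∈ W ↔ x ^ p = 1) (hWc : Nat.card W = p ^ 3)
    (hWn : ∃ a ∈ W, ∃ b ∈ W, a * b ≠ b * a) :
    (∃ C : Subgroup R, IsCyclic C ∧ (∀ c ∈ C, ∀ w ∈ W, c * w = w * c) ∧
        (∀ g : R, ∃ w ∈ W, ∃ c ∈ C, g = w * c) ∧ (∀ c ∈ C, c ^ p = 1 → c ∈ ⁅W, W⁆) ∧
        ⁅W, W⁆ ≤ C) ∨
      (∃ D : Subgroup R, D ≠ ⊤ ∧
        ∀ φ : MulAut R, ∀ N : ℕ, Odd N → φ ^ N = 1 → ∀ g, φ g * g⁻¹ ∈ D) := by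
  have hpp := hp.out
  have hWnorm : ∀ w ∈ W, ∀ g : R, g * w * g⁻¹ ∈ W := by
    intro w hw g
    rw [hW, conj_pow, (hW w).mp hw, mul_one, mul_inv_cancel]
  have hWnormal : W.Normal := ⟨fun w hw g => hWnorm w hw g⟩
  have hWchar : ∀ φ : MulAut R, ∀ w ∈ W, φ w ∈ W := by
    intro φ w hw
    rw [hW, ← map_pow, (hW w).mp hw, map_one]
  obtain ⟨Z, hZmem⟩ : ∃ Z : Subgroup R, ∀ z, z ∈ Z ↔ z ∈ W ∧ ∀ w ∈ W, w * z = z * w :=
    ⟨W ⊓ centralizer (W : Set R), fun z => by rw [mem_inf, mem_centralizer_iff]; rfl⟩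
  have hZW : Z ≤ W := fun z hz => ((hZmem z).mp hz).1
  obtain ⟨a, ha, b, hb, hab⟩ := hWn
  obtain ⟨hcen1, hcen2⟩ := center_p3 (W := W) hWc
    ⟨⟨a, ha⟩, ⟨b, hb⟩, fun h => hab (congrArg Subtype.val h)⟩
  have hZeq : (center W).map W.subtype = Z := by
    ext z
    rw [hZmem]
    constructor
    · rintro ⟨w, hw, rfl⟩
      refine ⟨w.2, fun w' hw' => ?_⟩
      have := (mem_center_iff.mp hw) ⟨w', hw'⟩
      exact congrArg Subtype.val this
    · rintro ⟨hz, hzc⟩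
      exact ⟨⟨z, hz⟩, mem_center_iff.mpr (fun g => Subtype.ext (hzc g g.2)), rfl⟩
  have hZcard : Nat.card Z = p := by
    rw [← hZeq, Subgroup.card_map_of_injective W.subtype_injective]; exact hcen1
  have hWW : ∀ a ∈ W, ∀ b ∈ W, ⁅a, b⁆ ∈ Z := by
    intro a ha b hb
    rw [← hZeq]
    exact ⟨⁅(⟨a, ha⟩ : W), ⟨b, hb⟩⁆, hcen2 _ _, rfl⟩
  have hZ3 : ∀ w ∈ W, (∀ w' ∈ W, w * w' = w' * w) → w ∈ Z := by
    intro w hw h
    exact (hZmem w).mpr ⟨hw, fun w' hw' => (h w' hw').symm⟩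
  have hZchar : ∀ φ : MulAut R, ∀ z ∈ Z, φ z ∈ Z := by
    intro φ z hz
    obtain ⟨hz1, hz2⟩ := (hZmem z).mp hz
    refine (hZmem _).mpr ⟨hWchar φ z hz1, fun w hw => ?_⟩
    have h1 := hz2 (φ⁻¹ w) (hWchar φ⁻¹ w hw)
    have h2 := congrArg φ h1
    rwa [map_mul, map_mul, MulAut.apply_inv_self] at h2
  have hZnorm : Z.Normal := ⟨fun z hz g => by
    have := hZchar (MulAut.conj g) z hz
    rwa [MulAut.conj_apply] at this⟩
  have hZne : Z ≠ ⊥ := by
    intro h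
    rw [h, Subgroup.card_bot] at hZcard
    exact hpp.one_lt.ne hZcard
  obtain ⟨z₀, hz₀Z, hz₀c, hz₀ord⟩ := exists_central_of_normal hR Z hZne
  have hz₀1 : z₀ ≠ 1 := by
    intro h
    rw [h, orderOf_one] at hz₀ord
    exact hpp.one_lt.ne hz₀ord
  have hZc : ∀ z ∈ Z, ∀ g : R, z * g = g * z := by
    intro z hz g
    obtain ⟨i, rfl⟩ := pow_of_prime_card Z hZcard z₀ hz₀Z hz₀1 z hz
    have c : Commute z₀ g := (mem_center_iff.mp hz₀c g).symm
    exact (c.pow_left i).eq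
  have hZE0 : ∀ z ∈ Z, z ∈ E0 Z hZc := by
    intro z hz g
    rw [commutatorElement_eq_one_iff_commute.mpr (hZc z hz g)]
    exact Z.one_mem
  -- an element of `W` outside `Z` which is central modulo `Z`
  obtain ⟨w₀, hw₀W, hw₀E0, hw₀Z⟩ : ∃ w₀ : R, w₀ ∈ W ∧ w₀ ∈ E0 Z hZc ∧ w₀ ∉ Z := by
    have hT : (W.map (QuotientGroup.mk' Z)).Normal :=
      Subgroup.Normal.map hWnormal _ (QuotientGroup.mk'_surjective Z)
    have hTne : W.map (QuotientGroup.mk' Z) ≠ ⊥ := by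
      intro h
      rw [Subgroup.map_eq_bot_iff, QuotientGroup.ker_mk'] at h
      exact hab (hZc a (h ha) b)
    obtain ⟨t, htT, htc, htord⟩ := exists_central_of_normal (hR.to_quotient Z) _ hTne
    obtain ⟨w₀, hw₀W, rfl⟩ := htT
    refine ⟨w₀, hw₀W, ?_, ?_⟩
    · intro g
      rw [← QuotientGroup.eq_one_iff]
      have h1 : ((⁅w₀, g⁆ : R) : R ⧸ Z)
          = ⁅(QuotientGroup.mk' Z w₀), (QuotientGroup.mk' Z g)⁆ := rfl
      rw [h1]
      exact commutatorElement_eq_one_iff_commute.mpr (mem_center_iff.mp htc _).symm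
    · intro h
      have h1 : QuotientGroup.mk' Z w₀ = 1 := (QuotientGroup.eq_one_iff w₀).mpr h
      rw [h1, orderOf_one] at htord
      exact hpp.one_lt.ne htord
  obtain ⟨x, hxW, hxw⟩ : ∃ x ∈ W, x * w₀ ≠ w₀ * x := by
    by_contra hcon
    push Not at hcon
    exact hw₀Z (hZ3 w₀ hw₀W (fun w' hw' => (hcon w' hw').symm))
  obtain ⟨z₁, hz₁def⟩ : ∃ z₁ : R, z₁ = ⁅x, w₀⁆ := ⟨_, rfl⟩
  have hz₁1 : z₁ ≠ 1 := by
    rw [hz₁def]
    intro h
    exact hxw (commutatorElement_eq_one_iff_commute.mp h)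
  have hz₁Z : z₁ ∈ Z := by rw [hz₁def]; exact hWW x hxW w₀ hw₀W
  have hz₁p : z₁ ^ p = 1 := (hW z₁).mp (hZW hz₁Z)
  have hz₁ord : orderOf z₁ = p := orderOf_eq_prime hz₁p hz₁1
  have hxp : x ^ p = 1 := (hW x).mp hxW
  have hw₀p : w₀ ^ p = 1 := (hW w₀).mp hw₀W
  have hZgen : ∀ z ∈ Z, ∃ i : ℕ, z = z₁ ^ i :=
    fun z hz => pow_of_prime_card Z hZcard z₁ hz₁Z hz₁1 z hz
  have hgen := gen hR W hW hWc Z hZc hWW x w₀ hxW hw₀W hxw
  have hw₀' : ∀ g : R, ⁅g, w₀⁆ ∈ Z := by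
    intro g
    rw [← commutatorElement_inv]
    exact Z.inv_mem (hw₀E0 g)
  obtain ⟨χ, hχ⟩ := commHom Z hZc w₀ hw₀'
  have hχZ : ∀ g, χ g ∈ Z := fun g => by rw [hχ]; exact hw₀' g
  have hχx : χ x = z₁ := by rw [hχ, hz₁def]
  have hχw : χ w₀ = 1 := by rw [hχ, commutatorElement_self]
  have hχz : ∀ z ∈ Z, χ z = 1 := by
    intro z hz
    rw [hχ]
    exact commutatorElement_eq_one_iff_commute.mpr (hZc z hz w₀)
  have hχcomm : ∀ g, χ g = 1 ↔ g * w₀ = w₀ * g := by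
    intro g
    rw [hχ, commutatorElement_eq_one_iff_commute]
    exact Iff.rfl
  have hz₁pow : ∀ i : ℕ, z₁ ^ i = 1 → p ∣ i := by
    intro i hi
    rw [← hz₁ord]; exact orderOf_dvd_of_pow_eq_one hi
  have hxpow : ∀ i : ℕ, p ∣ i → x ^ i = 1 := by
    rintro i ⟨k, rfl⟩
    rw [pow_mul, hxp, one_pow]
  have hE : ∀ e ∈ W, χ e = 1 → ∃ j : ℕ, ∃ z ∈ Z, e = w₀ ^ j * z := by
    intro e he hχe
    obtain ⟨i, j, z, hz, rfl⟩ := hgen e he
    simp only [map_mul, map_pow, hχx, hχw, hχz z hz, one_pow, mul_one] at hχe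
    refine ⟨j, z, hz, ?_⟩
    rw [hxpow i (hz₁pow i hχe), one_mul]
  have hC : ∀ g, x * g = g * x → w₀ * g = g * w₀ → ∀ w ∈ W, w * g = g * w := by
    intro g h1 h2 w hw
    obtain ⟨i, j, z, hz, rfl⟩ := hgen w hw
    have c1 : Commute x g := h1
    have c2 : Commute w₀ g := h2
    have c3 : Commute z g := hZc z hz g
    exact (((c1.pow_left i).mul_left (c2.pow_left j)).mul_left c3).eq
  by_cases hcase : ∀ d : R, χ d = 1 → ⁅x, d⁆ ∈ Z
  · left
    have hxg : ∀ g : R, ⁅x, g⁆ ∈ Z := by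
      intro g
      obtain ⟨i, hi⟩ := hZgen (χ g) (hχZ g)
      have hd' : χ ((x ^ i)⁻¹ * g) = 1 := by
        rw [map_mul, map_inv, map_pow, hχx, hi, inv_mul_cancel]
      have hg : g = x ^ i * ((x ^ i)⁻¹ * g) := by group
      rw [hg, comm_mul_right]
      have h1 : ⁅x, x ^ i⁆ = 1 :=
        commutatorElement_eq_one_iff_commute.mpr ((Commute.refl x).pow_right i)
      rw [h1, one_mul]
      exact hZnorm.conj_mem _ (hcase _ hd') _
    have hgx : ∀ g : R, ⁅g, x⁆ ∈ Z := fun g => by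
      rw [← commutatorElement_inv]; exact Z.inv_mem (hxg g)
    obtain ⟨χ₂, hχ₂⟩ := commHom Z hZc x hgx
    have hχ₂x : χ₂ x = 1 := by rw [hχ₂, commutatorElement_self]
    have hχ₂w : χ₂ w₀ = z₁⁻¹ := by rw [hχ₂, hz₁def, commutatorElement_inv]
    refine ⟨centralizer (W : Set R), ?_, ?_, ?_, ?_, ?_⟩
    · apply cyclic_of_few hp2 (hR.to_subgroup _) (centralizer (W : Set R)).subtype
        (Subgroup.subtype_injective _) Z hZcard.le
      intro k hk
      have hk' : (k : R) ^ p = 1 := by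
        have := congrArg Subtype.val hk
        simpa using this
      apply hZ3 _ ((hW _).mpr hk')
      intro w' hw'
      exact ((mem_centralizer_iff.mp k.2) w' hw').symm
    · intro c hc w hw
      exact ((mem_centralizer_iff.mp hc) w hw).symm
    · intro g
      obtain ⟨i, hi⟩ := hZgen (χ g) (hχZ g)
      have hz₁inv1 : z₁⁻¹ ≠ 1 := by
        intro h
        exact hz₁1 (inv_eq_one.mp h)
      obtain ⟨j, hj⟩ := pow_of_prime_card Z hZcard z₁⁻¹ (Z.inv_mem hz₁Z) hz₁inv1 (χ₂ g)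
        (by rw [hχ₂]; exact hgx g)
      refine ⟨x ^ i * w₀ ^ j, W.mul_mem (W.pow_mem hxW i) (W.pow_mem hw₀W j),
        (x ^ i * w₀ ^ j)⁻¹ * g, ?_, by group⟩
      rw [mem_centralizer_iff]
      apply hC
      · have h1 : χ₂ ((x ^ i * w₀ ^ j)⁻¹ * g) = 1 := by
          rw [map_mul, map_inv, map_mul, map_pow, map_pow, hχ₂x, hχ₂w, hj, one_pow, one_mul,
            inv_mul_cancel]
        rw [hχ₂] at h1
        exact (commutatorElement_eq_one_iff_commute.mp h1).symm.eq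
      · have h1 : χ ((x ^ i * w₀ ^ j)⁻¹ * g) = 1 := by
          rw [map_mul, map_inv, map_mul, map_pow, map_pow, hχx, hχw, hi, one_pow, mul_one,
            inv_mul_cancel]
        exact ((hχcomm _).mp h1).symm
    · intro c hc hcp
      have hcZ : c ∈ Z := hZ3 c ((hW c).mpr hcp)
        (fun w' hw' => ((mem_centralizer_iff.mp hc) w' hw').symm)
      obtain ⟨i, rfl⟩ := hZgen c hcZ
      rw [hz₁def]
      exact Subgroup.pow_mem _ (Subgroup.commutator_mem_commutator hxW hw₀W) i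
    · rw [Subgroup.commutator_le]
      intro a ha b hb
      rw [mem_centralizer_iff]
      intro w _
      exact (hZc _ (hWW a ha b hb) w).symm
  · right
    push Not at hcase
    obtain ⟨r, hrχ, hrZ⟩ := hcase
    have hyW : ⁅x, r⁆ ∈ W := by
      have : ⁅x, r⁆ = x * (r * x⁻¹ * r⁻¹) := by rw [commutatorElement_def]; group
      rw [this]
      exact W.mul_mem hxW (hWnorm _ (W.inv_mem hxW) r)
    have hyχ : χ ⁅x, r⁆ = 1 := by simp [commutatorElement_def, hrχ]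
    obtain ⟨j, z, hz, hyeq⟩ := hE _ hyW hyχ
    have hpj : ¬ p ∣ j := by
      rintro ⟨q, rfl⟩
      apply hrZ
      rw [hyeq, pow_mul, hw₀p, one_pow, one_mul]; exact hz
    apply case_ii hp2 hR W hW hWc Z hZcard hZW hZc hZchar hWW hZ3 x r hxW
    · intro g
      have h1 : ⁅x, r⁆ ∈ E0 Z hZc := by
        rw [hyeq]
        exact Subgroup.mul_mem _ (Subgroup.pow_mem _ hw₀E0 j) (hZE0 z hz)
      exact h1 g
    · rw [hyeq]
      have c1 : Commute r w₀ := (hχcomm r).mp hrχ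
      have c2 : Commute r z := (hZc z hz r).symm
      exact ((c1.pow_right j).mul_right c2).eq
    · rw [hyeq, comm_mul_right, comm_pow_right x w₀
        (by rw [← hz₁def]; exact fun g => hZc _ hz₁Z g) j, ← hz₁def]
      have h1 : ⁅x, z⁆ = 1 := commutatorElement_eq_one_iff_commute.mpr (hZc z hz x).symm
      rw [h1]
      intro h
      have h' : z₁ ^ j = 1 := by simpa using h
      exact hpj (hz₁pow j h')

end Cfsg.Agent.Lib.Helper70.Blackburn
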