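import Mathlib
import Cfsg.Agent.Lib.Helper59.C2Stmt

/-!
# S5974C piece BLOCK4 (sub-call by helper59)

Char 2, `X` an isometry with `X ∘ X = id`, `β(a, X a) = 0` on the invariant nondegenerate `A`,
`X u ≠ u`: `span {u, v, N u, N v}` (`N a = X a + a`, `β(N u, v) = 1`) is an invariant nondegenerate
plus-type 4-space inside `A`.
-/

set_option autoImplicit false

namespace Cfsg.Agent.Lib.Helper70.C2BLOCK4

open Cfsg.Agent.Lib.Helper44.TPStmt (J NDeg Stab TSub Plus)
open Cfsg.Agent.Lib.Helper59.C2Stmt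
open scoped Matrix

universe u

/-- `Cfsg.quadFormPlus` as a quadratic form -/
def pQ (m : ℕ) (F : Type u) [Field F] : QuadraticForm F (Fin m ⊕ Fin m → F) :=
  (∑ i : Fin m, QuadraticMap.proj (R := F) (Sum.inl i) (Sum.inr i)).copy (Cfsg.quadFormPlus m F)
    (by funext v; simp [Cfsg.quadFormPlus])

theorem coe_pQ (m : ℕ) (F : Type u) [Field F] : ⇑(pQ m F) = Cfsg.quadFormPlus m F := rfl

/-- the abstract 4-space -/
theorem core {F : Type u} [Field F] [CharP F 2] {V : Type u} [AddCommGroup V] [Module F V]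
    (Q : QuadraticForm F V) (X : V →ₗ[F] V) (hX : ∀ v, Q (X v) = Q v) (hXX : ∀ v, X (X v) = v)
    (A : Submodule F V) (hA : ∀ a ∈ A, X a ∈ A)
    (hND : ∀ w ∈ A, w ≠ 0 → ∃ y ∈ A, QuadraticMap.polar Q w y ≠ 0)
    (hg : ∀ a ∈ A, QuadraticMap.polar Q a (X a) = 0)
    (u : V) (hu : u ∈ A) (hxu : X u ≠ u) :
    ∃ b : Fin 4 → V, (∀ i, b i ∈ A) ∧ (∀ i, X (b i) ∈ Submodule.span F (Set.range b)) ∧
      LinearIndependent F b ∧
      (∀ w ∈ Submodule.span F (Set.range b), w ≠ 0 →
        ∃ y ∈ Submodule.span F (Set.range b), QuadraticMap.polar Q w y ≠ 0) ∧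
      (∀ c2 c3 : F, Q (c2 • b 2 + c3 • b 3) = 0) := by
  have h2 : (2 : F) = 0 := CharTwo.two_eq_zero
  have hff : ∀ a : F, a + a = 0 := fun a => CharTwo.add_self_eq_zero a
  have hvv : ∀ v : V, v + v = 0 := fun v => by rw [← two_smul F v, h2, zero_smul]
  have hpol : ∀ a b, QuadraticMap.polar Q (X a) (X b) = QuadraticMap.polar Q a b := by
    intro a b
    simp only [QuadraticMap.polar, ← map_add, hX]
  have hsw : ∀ a b, QuadraticMap.polar Q a (X b) = QuadraticMap.polar Q (X a) b := by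
    intro a b
    rw [← hpol a (X b), hXX]
  have hself : ∀ a, QuadraticMap.polar Q a a = 0 := by
    intro a
    have h : QuadraticMap.polar Q a a = Q a + Q a := by
      rw [QuadraticMap.polar_self]
      simp [two_smul]
    rw [h, hff]
  obtain ⟨N, hN⟩ : ∃ N : V → V, ∀ a, N a = X a + a := ⟨fun a => X a + a, fun _ => rfl⟩
  have hXN : ∀ a, X (N a) = N a := by
    intro a
    rw [hN, map_add, hXX, add_comm]
  have hXa : ∀ a, X a = a + N a := by
    intro a
    rw [hN, add_comm (X a) a, ← add_assoc, hvv, zero_add]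
  have hNA : ∀ a ∈ A, N a ∈ A := by
    intro a ha
    rw [hN]
    exact A.add_mem (hA a ha) ha
  have hsymN : ∀ a b, QuadraticMap.polar Q a (N b) = QuadraticMap.polar Q (N a) b := by
    intro a b
    rw [hN, hN, QuadraticMap.polar_add_right, QuadraticMap.polar_add_left, hsw]
  have hNself : ∀ a ∈ A, QuadraticMap.polar Q a (N a) = 0 := by
    intro a ha
    rw [hN, QuadraticMap.polar_add_right, hg a ha, hself, add_zero]
  have hNN : ∀ a, N (N a) = 0 := by
    intro a
    rw [hN (N a), hXN, hvv]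
  have hNN0 : ∀ a b, QuadraticMap.polar Q (N a) (N b) = 0 := by
    intro a b
    rw [← hsymN a (N b), hNN, QuadraticMap.polar_zero_right]
  have hQN : ∀ a ∈ A, Q (N a) = 0 := by
    intro a ha
    rw [hN, QuadraticMap.map_add Q, hX, hff, zero_add, QuadraticMap.polar_comm, hg a ha]
  have hNu0 : N u ≠ 0 := by
    intro h
    apply hxu
    have h3 : X u = u + N u := hXa u
    rw [h, add_zero] at h3
    exact h3
  obtain ⟨v₀, hv₀A, hv₀⟩ := hND (N u) (hNA u hu) hNu0
  obtain ⟨v, hv⟩ : ∃ v : V, v = (QuadraticMap.polar Q (N u) v₀)⁻¹ • v₀ := ⟨_, rfl⟩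
  have hvA : v ∈ A := by
    rw [hv]
    exact A.smul_mem _ hv₀A
  have h1 : QuadraticMap.polar Q (N u) v = 1 := by
    rw [hv, QuadraticMap.polar_smul_right, smul_eq_mul, inv_mul_cancel₀ hv₀]
  -- the table
  have t1 : QuadraticMap.polar Q u (N v) = 1 := by rw [hsymN]; exact h1
  have t2 : QuadraticMap.polar Q v (N v) = 0 := hNself v hvA
  have t5 : QuadraticMap.polar Q u (N u) = 0 := hNself u hu
  have t6 : QuadraticMap.polar Q v (N u) = 1 := by rw [QuadraticMap.polar_comm]; exact h1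
  have t10 : QuadraticMap.polar Q (N u) u = 0 := by rw [QuadraticMap.polar_comm]; exact t5
  have t11 : QuadraticMap.polar Q (N v) u = 1 := by rw [QuadraticMap.polar_comm]; exact t1
  have t13 : QuadraticMap.polar Q (N v) v = 0 := by rw [QuadraticMap.polar_comm]; exact t2
  have key : ∀ (c0 c1 c2 c3 : F) (y : V),
      QuadraticMap.polar Q (c0 • u + c1 • v + c2 • N u + c3 • N v) y =
        c0 * QuadraticMap.polar Q u y + c1 * QuadraticMap.polar Q v y +
          c2 * QuadraticMap.polar Q (N u) y + c3 * QuadraticMap.polar Q (N v) y := by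
    intro c0 c1 c2 c3 y
    simp only [QuadraticMap.polar_add_left, QuadraticMap.polar_smul_left, smul_eq_mul]
  have P1 : ∀ (c0 c1 c2 c3 : F),
      QuadraticMap.polar Q (c0 • u + c1 • v + c2 • N u + c3 • N v) (N v) = c0 := by
    intro c0 c1 c2 c3
    rw [key, t1, t2, hNN0, hNN0]
    ring
  have P2 : ∀ (c0 c1 c2 c3 : F),
      QuadraticMap.polar Q (c0 • u + c1 • v + c2 • N u + c3 • N v) (N u) = c1 := by
    intro c0 c1 c2 c3
    rw [key, t5, t6, hNN0, hNN0]
    ring
  have P3 : ∀ (c0 c1 c2 c3 : F),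
      QuadraticMap.polar Q (c0 • u + c1 • v + c2 • N u + c3 • N v) u =
        c1 * QuadraticMap.polar Q v u + c3 := by
    intro c0 c1 c2 c3
    rw [key, hself, t10, t11]
    ring
  have P4 : ∀ (c0 c1 c2 c3 : F),
      QuadraticMap.polar Q (c0 • u + c1 • v + c2 • N u + c3 • N v) v =
        c0 * QuadraticMap.polar Q u v + c2 := by
    intro c0 c1 c2 c3
    rw [key, hself, h1, t13]
    ring
  have hsum : ∀ c : Fin 4 → F, ∑ i, c i • (![u, v, N u, N v] : Fin 4 → V) i =
      c 0 • u + c 1 • v + c 2 • N u + c 3 • N v := by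
    intro c
    rw [Fin.sum_univ_four]
    rfl
  have hmem : ∀ i, (![u, v, N u, N v] : Fin 4 → V) i ∈
      Submodule.span F (Set.range (![u, v, N u, N v] : Fin 4 → V)) :=
    fun i => Submodule.subset_span ⟨i, rfl⟩
  refine ⟨![u, v, N u, N v], ?_, ?_, ?_, ?_, ?_⟩
  · intro i
    fin_cases i
    · exact hu
    · exact hvA
    · exact hNA u hu
    · exact hNA v hvA
  · intro i
    fin_cases i
    · show X u ∈ _
      rw [hXa u]
      exact Submodule.add_mem _ (hmem 0) (hmem 2)
    · show X v ∈ _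
      rw [hXa v]
      exact Submodule.add_mem _ (hmem 1) (hmem 3)
    · show X (N u) ∈ _
      rw [hXN u]
      exact hmem 2
    · show X (N v) ∈ _
      rw [hXN v]
      exact hmem 3
  · rw [Fintype.linearIndependent_iff]
    intro c hc
    rw [hsum] at hc
    have e1 := P1 (c 0) (c 1) (c 2) (c 3)
    have e2 := P2 (c 0) (c 1) (c 2) (c 3)
    have e3 := P3 (c 0) (c 1) (c 2) (c 3)
    have e4 := P4 (c 0) (c 1) (c 2) (c 3)
    rw [hc, QuadraticMap.polar_zero_left] at e1 e2 e3 e4
    have c0 : c 0 = 0 := e1.symm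
    have c1 : c 1 = 0 := e2.symm
    have c3 : c 3 = 0 := by rw [c1, zero_mul, zero_add] at e3; exact e3.symm
    have c2 : c 2 = 0 := by rw [c0, zero_mul, zero_add] at e4; exact e4.symm
    intro i
    fin_cases i
    · exact c0
    · exact c1
    · exact c2
    · exact c3
  · intro w hw hw0
    obtain ⟨c, hc⟩ := (Submodule.mem_span_range_iff_exists_fun F).1 hw
    rw [hsum] at hc
    have e1 := P1 (c 0) (c 1) (c 2) (c 3)
    have e2 := P2 (c 0) (c 1) (c 2) (c 3)
    have e3 := P3 (c 0) (c 1) (c 2) (c 3)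
    have e4 := P4 (c 0) (c 1) (c 2) (c 3)
    rw [hc] at e1 e2 e3 e4
    by_cases c0 : c 0 = 0
    · by_cases c1 : c 1 = 0
      · by_cases c3 : c 3 = 0
        · by_cases c2 : c 2 = 0
          · exfalso
            apply hw0
            rw [← hc, c0, c1, c2, c3]
            simp
          · refine ⟨v, hmem 1, ?_⟩
            rw [e4, c0, zero_mul, zero_add]
            exact c2
        · refine ⟨u, hmem 0, ?_⟩
          rw [e3, c1, zero_mul, zero_add]
          exact c3
      · refine ⟨N u, hmem 2, ?_⟩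
        rw [e2]
        exact c1
    · refine ⟨N v, hmem 3, ?_⟩
      rw [e1]
      exact c0
  · intro c2 c3
    show Q (c2 • N u + c3 • N v) = 0
    rw [QuadraticMap.map_add Q, QuadraticMap.map_smul, QuadraticMap.map_smul, hQN u hu, hQN v hvA,
      QuadraticMap.polar_smul_left, QuadraticMap.polar_smul_right, hNN0]
    simp

/-- [BLOCK4] -/
theorem main : Block4.{u} := by
  intro F _ _ _ d x hx hxx A hSt hAN hg u hu hxu
  have hiso : ∀ v, pQ d F (Matrix.toLin' (x : Matrix (J d) (J d) F) v) = pQ d F v := by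
    intro v
    rw [Matrix.toLin'_apply]
    exact hx v v
  have hXX : ∀ v, Matrix.toLin' (x : Matrix (J d) (J d) F)
      (Matrix.toLin' (x : Matrix (J d) (J d) F) v) = v := by
    intro v
    rw [Matrix.toLin'_apply, Matrix.toLin'_apply, Matrix.mulVec_mulVec, hxx, Matrix.one_mulVec]
  obtain ⟨b, hbA, hXb, hli, hnd, hts⟩ := core (pQ d F) (Matrix.toLin' (x : Matrix (J d) (J d) F))
    hiso hXX A (fun a ha => hSt (Submodule.mem_map_of_mem ha))
    (fun w hw hw0 => (hAN w hw hw0).2)
    (fun a ha => by rw [Matrix.toLin'_apply]; exact hg a ha) u hu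
    (by rw [Matrix.toLin'_apply]; exact hxu)
  have hB4 : Module.finrank F ↥(Submodule.span F (Set.range b)) = 4 := by
    rw [finrank_span_eq_card hli]
    simp
  have hinj : Function.Injective (![2, 3] : Fin 2 → Fin 4) := by decide
  have hli2 : LinearIndependent F (b ∘ (![2, 3] : Fin 2 → Fin 4)) := hli.comp _ hinj
  refine ⟨Submodule.span F (Set.range b), ?_, ?_, ?_, ?_, hB4⟩
  · rw [Submodule.span_le]
    rintro _ ⟨i, rfl⟩
    exact hbA i
  · show (Submodule.span F (Set.range b)).map (Matrix.toLin' (x : Matrix (J d) (J d) F)) ≤ _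
    rw [Submodule.map_span_le]
    rintro _ ⟨i, rfl⟩
    exact hXb i
  · intro w hw hw0
    obtain ⟨y, hy, hne⟩ := hnd w hw hw0
    refine ⟨⟨y, hy, ?_⟩, ⟨y, hy, hne⟩⟩
    rw [QuadraticMap.polar_comm]
    exact hne
  · refine ⟨Submodule.span F (Set.range (b ∘ (![2, 3] : Fin 2 → Fin 4))), ?_, ?_, ?_⟩
    · exact Submodule.span_mono (Set.range_comp_subset_range _ _)
    · intro w hw
      obtain ⟨c, hc⟩ := (Submodule.mem_span_range_iff_exists_fun F).1 hw
      rw [Fin.sum_univ_two] at hc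
      rw [← hc]
      exact hts (c 0) (c 1)
    · rw [finrank_span_eq_card hli2, hB4]
      simp

end Cfsg.Agent.Lib.Helper70.C2BLOCK4
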