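import Mathlib
import Cfsg.Agent.Lib.Helper63.S66Stmt

/-! S1366 piece COVM: if `|K|` is not prime then `M = M_σ K`. -/

set_option autoImplicit false
universe u

namespace Cfsg.Agent.Lib.Helper70.S66COVM

open Cfsg Cfsg.Agent.Lib.Helper9.S51IStmt Cfsg.Agent.Lib.Helper63.S66Stmt

/-- `M_σ` is normalized by `M`. -/
theorem conj_mem_sigmaCore {G : Type u} [Group G] {M : Subgroup G} {m s : G} (hm : m ∈ M)
    (hs : s ∈ Cfsg.sigmaCore M) : m * s * m⁻¹ ∈ Cfsg.sigmaCore M := by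
  obtain ⟨s', hs', rfl⟩ := hs
  exact ⟨⟨m, hm⟩ * s' * ⟨m, hm⟩⁻¹,
    (Cfsg.piCore_normal (Cfsg.sigma M) M).conj_mem s' hs' ⟨m, hm⟩, rfl⟩

/-- If `K` normalizes `N` elementwise then every element of `K ⊔ N` is a product `n * k`. -/
theorem mem_sup_of_conj {G : Type u} [Group G] (K N : Subgroup G)
    (hKN : ∀ k ∈ K, ∀ s ∈ N, k * s * k⁻¹ ∈ N) {x : G} (hx : x ∈ K ⊔ N) :
    ∃ s ∈ N, ∃ k ∈ K, x = s * k := by
  have hprod : K ⊔ N ≤
      ({ carrier := {y : G | ∃ s ∈ N, ∃ k ∈ K, y = s * k}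
         mul_mem' := by
           rintro _ _ ⟨s, hs, k, hk, rfl⟩ ⟨s', hs', k', hk', rfl⟩
           refine ⟨s * (k * s' * k⁻¹), N.mul_mem hs (hKN k hk s' hs'), k * k', K.mul_mem hk hk', ?_⟩
           group
         one_mem' := ⟨1, N.one_mem, 1, K.one_mem, by simp⟩
         inv_mem' := by
           rintro _ ⟨s, hs, k, hk, rfl⟩
           refine ⟨k⁻¹ * s⁻¹ * k⁻¹⁻¹, hKN k⁻¹ (K.inv_mem hk) s⁻¹ (N.inv_mem hs), k⁻¹, K.inv_mem hk, ?_⟩
           group } : Subgroup G) := by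
    apply sup_le
    · intro k hk
      exact ⟨1, N.one_mem, k, hk, by simp⟩
    · intro s hs
      exact ⟨s, hs, 1, K.one_mem, by simp⟩
  exact hprod hx

theorem main : N1.{u} → CovM.{u} := by
  intro hN1 G _ _ hG M K U hM hKU hK hnp m hm
  have hU : U = ⊥ := by
    by_contra h
    exact hnp (hN1 hG M K U hM hKU hK h)
  obtain ⟨a, ha, b, hb, rfl⟩ := hKU.compl.2.2.2 m hm
  rw [hU, Subgroup.mem_bot] at ha
  subst ha
  have hKM : K ≤ M := hKU.hall.1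
  obtain ⟨s, hs, k, hk, hbk⟩ := mem_sup_of_conj K (Cfsg.sigmaCore M)
    (fun k hk s hs => conj_mem_sigmaCore (hKM hk) hs) hb
  exact ⟨s, hs, k, hk, by rw [one_mul, hbk]⟩

end Cfsg.Agent.Lib.Helper70.S66COVM
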