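import Mathlib
import Cfsg.Agent.Lib.Helper63.S66Stmt

/-! S1366 piece HSP: the base setting `HS M ⟨x⟩ H p`. -/

set_option autoImplicit false
universe u

namespace Cfsg.Agent.Lib.Helper70.S66HSP

open Cfsg Cfsg.Agent.Lib.Helper9.S51IStmt Cfsg.Agent.Lib.Helper63.S66Stmt

theorem main : L3.{u} → HSP.{u} := by
  intro hL3 G _ _ hG M K U H x p hC
  have hxM : x ∈ M := hC.hKU.hall.1 hC.hx
  have hpK : p ∣ Nat.card K := by
    rw [← hC.hxo]
    exact Subgroup.orderOf_dvd_natCard K hC.hx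
  have hr : p ∈ Cfsg.kappa M := hC.hKU.hall.2.1 p hC.hp hpK
  have hR0M : Subgroup.zpowers x ≤ M := (Subgroup.zpowers_le).2 hxM
  have hR0c : Nat.card (Subgroup.zpowers x) = p := by rw [Nat.card_zpowers, hC.hxo]
  exact ⟨hC.hM, hr, hR0M, hR0c, hC.hH, hC.hN,
    hL3 hG M (Subgroup.zpowers x) H p hC.hM hr hR0M hR0c hC.hH hC.hN⟩

end Cfsg.Agent.Lib.Helper70.S66HSP
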