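import Mathlib
import Cfsg.Agent.Lib.Helper70.Blackburn

set_option autoImplicit false

/-!
# `p`-groups with a normal non-abelian subgroup of order `p³` and exponent `p`, of rank two

Let `R` be a `p`-group (`p` odd) without elementary abelian subgroups of order `p³`, and `W` a
normal subgroup of order `p³` and exponent `p`.  Then `R` is either a central product of `W` with
a cyclic group, or is generated by two elements `x ∈ W`, `r` with `⁅x, r⁆ ∈ W` not central in `W`.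
-/

namespace Cfsg.Agent.Lib.Helper70.Blackburn3

open Subgroup
open scoped commutatorElement
open Cfsg.Agent.Lib.Helper70.OmegaSmall
open Cfsg.Agent.Lib.Helper70.Blackburn

universe u

/-- The standing configuration: `W` normal of order `p³` and exponent `p`, `Z` its centre. -/
structure Ctx (p : ℕ) {R : Type u} [Group R] (W Z : Subgroup R) : Prop where
  hWp : ∀ w ∈ W, w ^ p = 1
  hWc : Nat.card W = p ^ 3
  hWn : ∀ w ∈ W, ∀ g : R, g * w * g⁻¹ ∈ W
  hZcard : Nat.card Z = p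
  hZW : Z ≤ W
  hZc : ∀ z ∈ Z, ∀ g : R, z * g = g * z
  hWW : ∀ a ∈ W, ∀ b ∈ W, ⁅a, b⁆ ∈ Z
  hZ3 : ∀ w ∈ W, (∀ w' ∈ W, w * w' = w' * w) → w ∈ Z
  hrk : ∀ e ∈ W, e ∉ Z → ∀ t : R, t ^ p = 1 → t * e = e * t → t ∈ W

/-- The configuration exists under the rank hypothesis. -/
theorem ctx_of {p : ℕ} [hp : Fact p.Prime] {R : Type u} [Group R] [Finite R] (hR : IsPGroup p R)
    (hrk : Cfsg.PRankLE p 2 R) (W : Subgroup R) [hWnorm : W.Normal] (hWc : Nat.card W = p ^ 3)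
    (hWp : ∀ w ∈ W, w ^ p = 1) :
    ∃ Z : Subgroup R, Ctx p W Z ∧ ∃ a ∈ W, ∃ b ∈ W, a * b ≠ b * a := by
  have hpp := hp.out
  have hWna : ∃ a ∈ W, ∃ b ∈ W, a * b ≠ b * a := by
    by_contra hcon
    push Not at hcon
    have hWcomm : IsMulCommutative W := ⟨⟨fun a b => Subtype.ext (hcon a a.2 b b.2)⟩⟩
    have h1 := hrk W hWcomm hWp
    rw [hWc] at h1
    have h2 : p ^ 2 < p ^ 3 := Nat.pow_lt_pow_right hpp.one_lt (by norm_num)
    omega
  obtain ⟨Z, hZmem⟩ : ∃ Z : Subgroup R, ∀ z, z ∈ Z ↔ z ∈ W ∧ ∀ w ∈ W, w * z = z * w :=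
    ⟨W ⊓ centralizer (W : Set R), fun z => by rw [mem_inf, mem_centralizer_iff]; rfl⟩
  have hZW : Z ≤ W := fun z hz => ((hZmem z).mp hz).1
  obtain ⟨a, ha, b, hb, hab⟩ := hWna
  obtain ⟨hcen1, hcen2⟩ := center_p3 (W := W) hWc
    ⟨⟨a, ha⟩, ⟨b, hb⟩, fun h => hab (congrArg Subtype.val h)⟩
  have hZeq : (center W).map W.subtype = Z := by
    ext z
    rw [hZmem]
    constructor
    · rintro ⟨w, hw, rfl⟩
      refine ⟨w.2, fun w' hw' => ?_⟩
      have := (mem_center_iff.mp hw) ⟨w', hw'⟩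
      exact congrArg Subtype.val this
    · rintro ⟨hz, hzc⟩
      exact ⟨⟨z, hz⟩, mem_center_iff.mpr (fun g => Subtype.ext (hzc g g.2)), rfl⟩
  have hZcard : Nat.card Z = p := by
    rw [← hZeq, Subgroup.card_map_of_injective W.subtype_injective]; exact hcen1
  have hWW : ∀ a ∈ W, ∀ b ∈ W, ⁅a, b⁆ ∈ Z := by
    intro a ha b hb
    rw [← hZeq]
    exact ⟨⁅(⟨a, ha⟩ : W), ⟨b, hb⟩⁆, hcen2 _ _, rfl⟩
  have hZ3 : ∀ w ∈ W, (∀ w' ∈ W, w * w' = w' * w) → w ∈ Z := by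
    intro w hw h
    exact (hZmem w).mpr ⟨hw, fun w' hw' => (h w' hw').symm⟩
  have hZnorm : Z.Normal := ⟨fun z hz g => by
    obtain ⟨hz1, hz2⟩ := (hZmem z).mp hz
    refine (hZmem _).mpr ⟨hWnorm.conj_mem z hz1 g, fun w hw => ?_⟩
    have h1 := hz2 (g⁻¹ * w * g) (by have := hWnorm.conj_mem w hw g⁻¹; simpa using this)
    calc w * (g * z * g⁻¹) = g * (g⁻¹ * w * g * z) * g⁻¹ := by group
      _ = g * (z * (g⁻¹ * w * g)) * g⁻¹ := by rw [h1]
      _ = g * z * g⁻¹ * w := by group⟩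
  have hZne : Z ≠ ⊥ := by
    intro h
    rw [h, Subgroup.card_bot] at hZcard
    exact hpp.one_lt.ne hZcard
  obtain ⟨z₀, hz₀Z, hz₀c, hz₀ord⟩ := exists_central_of_normal hR Z hZne
  have hz₀1 : z₀ ≠ 1 := by
    intro h
    rw [h, orderOf_one] at hz₀ord
    exact hpp.one_lt.ne hz₀ord
  have hZc : ∀ z ∈ Z, ∀ g : R, z * g = g * z := by
    intro z hz g
    obtain ⟨i, rfl⟩ := pow_of_prime_card Z hZcard z₀ hz₀Z hz₀1 z hz
    have c : Commute z₀ g := (mem_center_iff.mp hz₀c g).symm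
    exact (c.pow_left i).eq
  refine ⟨Z, ⟨hWp, hWc, fun w hw g => hWnorm.conj_mem w hw g, hZcard, hZW, hZc, hWW, hZ3, ?_⟩,
    a, ha, b, hb, hab⟩
  intro e he heZ t ht hte
  obtain ⟨S, hSdef⟩ : ∃ S : Set R, S = insert e (insert t (Z : Set R)) := ⟨_, rfl⟩
  have hS : ∀ a ∈ S, ∀ b ∈ S, a * b = b * a := by
    intro a ha b hb
    rw [hSdef] at ha hb
    rcases ha with ha | ha | ha
    · rcases hb with hb | hb | hb
      · rw [ha, hb]
      · rw [ha, hb]; exact hte.symm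
      · exact (hZc b hb _).symm
    · rcases hb with hb | hb | hb
      · rw [ha, hb]; exact hte
      · rw [ha, hb]
      · exact (hZc b hb _).symm
    · exact hZc a ha b
  have hSp : ∀ a ∈ S, a ^ p = 1 := by
    intro a ha
    rw [hSdef] at ha
    rcases ha with ha | ha | ha
    · rw [ha]; exact hWp _ he
    · rw [ha]; exact ht
    · exact hWp a (hZW ha)
  have h1 : closure S ≤ centralizer S := by
    rw [closure_le]
    intro a ha
    rw [SetLike.mem_coe, mem_centralizer_iff]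
    intro b hb
    exact hS b hb a ha
  have h2 : closure S ≤ centralizer (closure S : Set R) := by
    rw [closure_le]
    intro a ha
    rw [SetLike.mem_coe, mem_centralizer_iff]
    intro b hb
    exact ((mem_centralizer_iff.mp (h1 hb)) a ha).symm
  have hAc : ∀ a ∈ closure S, ∀ b ∈ closure S, a * b = b * a :=
    fun a ha b hb => mem_centralizer_iff.mp (h2 hb) a ha
  have hAp : ∀ a ∈ closure S, a ^ p = 1 := by
    intro a ha
    induction ha using Subgroup.closure_induction with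
    | mem d hd => exact hSp d hd
    | one => exact one_pow p
    | mul a b ha hb iha ihb =>
      have c : Commute a b := hAc a ha b hb
      rw [c.mul_pow, iha, ihb, one_mul]
    | inv a _ iha => rw [inv_pow, iha, inv_one]
  have hAcomm : IsMulCommutative (closure S) :=
    ⟨⟨fun a b => Subtype.ext (hAc a a.2 b b.2)⟩⟩
  have hAcard := hrk (closure S) hAcomm hAp
  have hlt : Z < Z ⊔ zpowers e := by
    refine lt_of_le_of_ne le_sup_left ?_
    intro h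
    apply heZ
    rw [h]
    exact mem_sup_right (mem_zpowers e)
  have h3 := Cfsg.Agent.S0128.mul_card_le_of_lt hR hlt
  rw [hZcard] at h3
  have hle : Z ⊔ zpowers e ≤ closure S := by
    apply sup_le
    · intro z hz
      exact subset_closure (by rw [hSdef]; exact Or.inr (Or.inr hz))
    · rw [zpowers_le]
      exact subset_closure (by rw [hSdef]; exact Or.inl rfl)
  have heq : Z ⊔ zpowers e = closure S := by
    apply Subgroup.eq_of_le_of_card_ge hle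
    calc Nat.card (closure S) ≤ p ^ 2 := hAcard
      _ = p * p := pow_two p
      _ ≤ _ := h3
  have htm : t ∈ Z ⊔ zpowers e := by
    rw [heq]
    exact subset_closure (by rw [hSdef]; exact Or.inr (Or.inl rfl))
  have hle2 : Z ⊔ zpowers e ≤ W := sup_le hZW (by rw [zpowers_le]; exact he)
  exact hle2 htm

/-- Two non-commuting elements generate `W` modulo its centre. -/
theorem gen' {p : ℕ} [hp : Fact p.Prime] {R : Type u} [Group R] [Finite R] (hR : IsPGroup p R)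
    {W Z : Subgroup R} (c : Ctx p W Z) (x y : R) (hx : x ∈ W) (hy : y ∈ W)
    (hxy : x * y ≠ y * x) :
    ∀ w ∈ W, ∃ i j : ℕ, ∃ z ∈ Z, w = x ^ i * y ^ j * z := by
  have hZc := c.hZc
  have hWW := c.hWW
  have hxH : x ∈ closure ({x, y} : Set R) := Subgroup.subset_closure (by simp)
  have hyH : y ∈ closure ({x, y} : Set R) := Subgroup.subset_closure (by simp)
  have hHW : closure ({x, y} : Set R) ≤ W := by
    rw [closure_le]
    rintro _ (rfl | rfl)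
    · exact hx
    · exact hy
  have hHeq : closure ({x, y} : Set R) = W := by
    by_contra hne
    have hlt : closure ({x, y} : Set R) < W := lt_of_le_of_ne hHW hne
    have h1 := Cfsg.Agent.S0128.mul_card_le_of_lt hR hlt
    rw [c.hWc] at h1
    have h2 : Nat.card (closure ({x, y} : Set R)) ≤ p ^ 2 := by
      have : p * Nat.card (closure ({x, y} : Set R)) ≤ p * p ^ 2 := by
        rw [← pow_succ']; exact h1
      exact Nat.le_of_mul_le_mul_left this hp.out.pos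
    have h3 := comm_of_card_le_sq (hR.to_subgroup (closure ({x, y} : Set R))) h2
      ⟨x, hxH⟩ ⟨y, hyH⟩
    exact hxy (congrArg Subtype.val h3)
  have key : ∀ w ∈ closure ({x, y} : Set R), ∃ i j : ℤ, ∃ z ∈ Z, w = x ^ i * y ^ j * z := by
    intro w hw
    induction hw using Subgroup.closure_induction with
    | mem a ha =>
      rcases ha with rfl | rfl
      · exact ⟨1, 0, 1, Z.one_mem, by simp⟩
      · exact ⟨0, 1, 1, Z.one_mem, by simp⟩
    | one => exact ⟨0, 0, 1, Z.one_mem, by simp⟩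
    | mul a b _ _ iha ihb =>
      obtain ⟨i, j, z, hz, rfl⟩ := iha
      obtain ⟨i', j', z', hz', rfl⟩ := ihb
      have hc : (x ^ i' * y ^ j)⁻¹ * (y ^ j * x ^ i') ∈ Z := by
        have : (x ^ i' * y ^ j)⁻¹ * (y ^ j * x ^ i') = ⁅(y ^ j)⁻¹, (x ^ i')⁻¹⁆ := by
          simp only [commutatorElement_def]; group
        rw [this]
        exact hWW _ (W.inv_mem (W.zpow_mem hy j)) _ (W.inv_mem (W.zpow_mem hx i'))
      refine ⟨i + i', j + j', (x ^ i' * y ^ j)⁻¹ * (y ^ j * x ^ i') * z * z',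
        Z.mul_mem (Z.mul_mem hc hz) hz', ?_⟩
      have e0 : y ^ j * x ^ i' = x ^ i' * y ^ j * ((x ^ i' * y ^ j)⁻¹ * (y ^ j * x ^ i')) := by
        group
      have e1 : z * (x ^ i' * y ^ j' * z') = x ^ i' * y ^ j' * z' * z := hZc z hz _
      have e2 := hZc _ hc (y ^ j')
      have e3 : z' * z = z * z' := (hZc z hz z').symm
      calc x ^ i * y ^ j * z * (x ^ i' * y ^ j' * z')
          = x ^ i * y ^ j * (x ^ i' * y ^ j' * z' * z) := by
            rw [mul_assoc (x ^ i * y ^ j), e1]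
        _ = x ^ i * (y ^ j * x ^ i') * y ^ j' * (z' * z) := by group
        _ = x ^ i * (x ^ i' * y ^ j * ((x ^ i' * y ^ j)⁻¹ * (y ^ j * x ^ i'))) * y ^ j'
              * (z' * z) := by rw [← e0]
        _ = x ^ i * x ^ i' * y ^ j * ((x ^ i' * y ^ j)⁻¹ * (y ^ j * x ^ i') * y ^ j')
              * (z' * z) := by simp only [mul_assoc]
        _ = x ^ i * x ^ i' * y ^ j * (y ^ j' * ((x ^ i' * y ^ j)⁻¹ * (y ^ j * x ^ i')))
              * (z * z') := by rw [e2, e3]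
        _ = x ^ (i + i') * y ^ (j + j') * ((x ^ i' * y ^ j)⁻¹ * (y ^ j * x ^ i') * z * z') := by
            rw [zpow_add, zpow_add]; simp only [mul_assoc]
    | inv a _ iha =>
      obtain ⟨i, j, z, hz, rfl⟩ := iha
      have hc : ⁅y ^ j, x ^ i⁆ ∈ Z := hWW _ (W.zpow_mem hy j) _ (W.zpow_mem hx i)
      refine ⟨-i, -j, ⁅y ^ j, x ^ i⁆ * z⁻¹, Z.mul_mem hc (Z.inv_mem hz), ?_⟩
      have e1 : z⁻¹ * ((y ^ j)⁻¹ * (x ^ i)⁻¹) = (y ^ j)⁻¹ * (x ^ i)⁻¹ * z⁻¹ :=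
        hZc _ (Z.inv_mem hz) _
      calc (x ^ i * y ^ j * z)⁻¹ = z⁻¹ * ((y ^ j)⁻¹ * (x ^ i)⁻¹) := by group
        _ = (y ^ j)⁻¹ * (x ^ i)⁻¹ * z⁻¹ := e1
        _ = x ^ (-i) * y ^ (-j) * (⁅y ^ j, x ^ i⁆ * z⁻¹) := by
            rw [zpow_neg, zpow_neg]; simp only [commutatorElement_def]; group
  intro w hw
  rw [← hHeq] at hw
  obtain ⟨i, j, z, hz, rfl⟩ := key w hw
  obtain ⟨n, hn⟩ := zpow_to_pow hp.out.pos x (c.hWp x hx) i
  obtain ⟨m, hm⟩ := zpow_to_pow hp.out.pos y (c.hWp y hy) j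
  exact ⟨n, m, z, hz, by rw [hn, hm]⟩

/-- **Dichotomy.** Either `R = W * C_R(W)` with `C_R(W)` cyclic, or there are `x ∈ W` and `r`
with `⁅x, r⁆` central modulo `Z`, commuting with `r` and not commuting with `x`. -/
theorem coreI {p : ℕ} [hp : Fact p.Prime] (hp2 : p ≠ 2) {R : Type u} [Group R] [Finite R]
    (hR : IsPGroup p R) {W Z : Subgroup R} (c : Ctx p W Z)
    (hWna : ∃ a ∈ W, ∃ b ∈ W, a * b ≠ b * a) :
    (IsCyclic (centralizer (W : Set R)) ∧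
        ∀ g : R, ∃ w ∈ W, ∃ k ∈ centralizer (W : Set R), g = w * k) ∨
      (∃ x r : R, x ∈ W ∧ (∀ g : R, ⁅⁅x, r⁆, g⁆ ∈ Z) ∧ r * ⁅x, r⁆ = ⁅x, r⁆ * r ∧
        ⁅x, ⁅x, r⁆⁆ ≠ 1) := by
  have hpp := hp.out
  have hWp := c.hWp
  have hZcard := c.hZcard
  have hZW := c.hZW
  have hZc := c.hZc
  have hWW := c.hWW
  have hZ3 := c.hZ3
  have hWnorm := c.hWn
  have hWnormal : W.Normal := ⟨fun w hw g => hWnorm w hw g⟩
  have hZnorm : Z.Normal := ⟨fun z hz g => by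
    rw [← hZc z hz g, mul_inv_cancel_right]; exact hz⟩
  obtain ⟨a, ha, b, hb, hab⟩ := hWna
  have hZE0 : ∀ z ∈ Z, z ∈ E0 Z hZc := by
    intro z hz g
    rw [commutatorElement_eq_one_iff_commute.mpr (hZc z hz g)]
    exact Z.one_mem
  obtain ⟨w₀, hw₀W, hw₀E0, hw₀Z⟩ : ∃ w₀ : R, w₀ ∈ W ∧ w₀ ∈ E0 Z hZc ∧ w₀ ∉ Z := by
    have hT : (W.map (QuotientGroup.mk' Z)).Normal :=
      Subgroup.Normal.map hWnormal _ (QuotientGroup.mk'_surjective Z)
    have hTne : W.map (QuotientGroup.mk' Z) ≠ ⊥ := by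
      intro h
      rw [Subgroup.map_eq_bot_iff, QuotientGroup.ker_mk'] at h
      exact hab (hZc a (h ha) b)
    obtain ⟨t, htT, htc, htord⟩ := exists_central_of_normal (hR.to_quotient Z) _ hTne
    obtain ⟨w₀, hw₀W, rfl⟩ := htT
    refine ⟨w₀, hw₀W, ?_, ?_⟩
    · intro g
      rw [← QuotientGroup.eq_one_iff]
      have h1 : ((⁅w₀, g⁆ : R) : R ⧸ Z)
          = ⁅(QuotientGroup.mk' Z w₀), (QuotientGroup.mk' Z g)⁆ := rfl
      rw [h1]
      exact commutatorElement_eq_one_iff_commute.mpr (mem_center_iff.mp htc _).symm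
    · intro h
      have h1 : QuotientGroup.mk' Z w₀ = 1 := (QuotientGroup.eq_one_iff w₀).mpr h
      rw [h1, orderOf_one] at htord
      exact hpp.one_lt.ne htord
  obtain ⟨x, hxW, hxw⟩ : ∃ x ∈ W, x * w₀ ≠ w₀ * x := by
    by_contra hcon
    push Not at hcon
    exact hw₀Z (hZ3 w₀ hw₀W (fun w' hw' => (hcon w' hw').symm))
  obtain ⟨z₁, hz₁def⟩ : ∃ z₁ : R, z₁ = ⁅x, w₀⁆ := ⟨_, rfl⟩
  have hz₁1 : z₁ ≠ 1 := by
    rw [hz₁def]
    intro h
    exact hxw (commutatorElement_eq_one_iff_commute.mp h)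
  have hz₁Z : z₁ ∈ Z := by rw [hz₁def]; exact hWW x hxW w₀ hw₀W
  have hz₁p : z₁ ^ p = 1 := hWp z₁ (hZW hz₁Z)
  have hz₁ord : orderOf z₁ = p := orderOf_eq_prime hz₁p hz₁1
  have hxp : x ^ p = 1 := hWp x hxW
  have hw₀p : w₀ ^ p = 1 := hWp w₀ hw₀W
  have hZgen : ∀ z ∈ Z, ∃ i : ℕ, z = z₁ ^ i :=
    fun z hz => pow_of_prime_card Z hZcard z₁ hz₁Z hz₁1 z hz
  have hgen := gen' hR c x w₀ hxW hw₀W hxw
  have hw₀' : ∀ g : R, ⁅g, w₀⁆ ∈ Z := by
    intro g
    rw [← commutatorElement_inv]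
    exact Z.inv_mem (hw₀E0 g)
  obtain ⟨χ, hχ⟩ := commHom Z hZc w₀ hw₀'
  have hχZ : ∀ g, χ g ∈ Z := fun g => by rw [hχ]; exact hw₀' g
  have hχx : χ x = z₁ := by rw [hχ, hz₁def]
  have hχw : χ w₀ = 1 := by rw [hχ, commutatorElement_self]
  have hχz : ∀ z ∈ Z, χ z = 1 := by
    intro z hz
    rw [hχ]
    exact commutatorElement_eq_one_iff_commute.mpr (hZc z hz w₀)
  have hχcomm : ∀ g, χ g = 1 ↔ g * w₀ = w₀ * g := by
    intro g
    rw [hχ, commutatorElement_eq_one_iff_commute]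
    exact Iff.rfl
  have hz₁pow : ∀ i : ℕ, z₁ ^ i = 1 → p ∣ i := by
    intro i hi
    rw [← hz₁ord]; exact orderOf_dvd_of_pow_eq_one hi
  have hxpow : ∀ i : ℕ, p ∣ i → x ^ i = 1 := by
    rintro i ⟨k, rfl⟩
    rw [pow_mul, hxp, one_pow]
  have hE : ∀ e ∈ W, χ e = 1 → ∃ j : ℕ, ∃ z ∈ Z, e = w₀ ^ j * z := by
    intro e he hχe
    obtain ⟨i, j, z, hz, rfl⟩ := hgen e he
    simp only [map_mul, map_pow, hχx, hχw, hχz z hz, one_pow, mul_one] at hχe
    refine ⟨j, z, hz, ?_⟩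
    rw [hxpow i (hz₁pow i hχe), one_mul]
  have hC : ∀ g, x * g = g * x → w₀ * g = g * w₀ → ∀ w ∈ W, w * g = g * w := by
    intro g h1 h2 w hw
    obtain ⟨i, j, z, hz, rfl⟩ := hgen w hw
    have c1 : Commute x g := h1
    have c2 : Commute w₀ g := h2
    have c3 : Commute z g := hZc z hz g
    exact (((c1.pow_left i).mul_left (c2.pow_left j)).mul_left c3).eq
  by_cases hcase : ∀ d : R, χ d = 1 → ⁅x, d⁆ ∈ Z
  · left
    have hxg : ∀ g : R, ⁅x, g⁆ ∈ Z := by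
      intro g
      obtain ⟨i, hi⟩ := hZgen (χ g) (hχZ g)
      have hd' : χ ((x ^ i)⁻¹ * g) = 1 := by
        rw [map_mul, map_inv, map_pow, hχx, hi, inv_mul_cancel]
      have hg : g = x ^ i * ((x ^ i)⁻¹ * g) := by group
      rw [hg, comm_mul_right]
      have h1 : ⁅x, x ^ i⁆ = 1 :=
        commutatorElement_eq_one_iff_commute.mpr ((Commute.refl x).pow_right i)
      rw [h1, one_mul]
      exact hZnorm.conj_mem _ (hcase _ hd') _
    have hgx : ∀ g : R, ⁅g, x⁆ ∈ Z := fun g => by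
      rw [← commutatorElement_inv]; exact Z.inv_mem (hxg g)
    obtain ⟨χ₂, hχ₂⟩ := commHom Z hZc x hgx
    have hχ₂x : χ₂ x = 1 := by rw [hχ₂, commutatorElement_self]
    have hχ₂w : χ₂ w₀ = z₁⁻¹ := by rw [hχ₂, hz₁def, commutatorElement_inv]
    refine ⟨?_, ?_⟩
    · apply cyclic_of_few hp2 (hR.to_subgroup _) (centralizer (W : Set R)).subtype
        (Subgroup.subtype_injective _) Z hZcard.le
      intro k hk
      have hk' : (k : R) ^ p = 1 := by
        have := congrArg Subtype.val hk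
        simpa using this
      have hkw : ∀ w' ∈ W, w' * (k : R) = (k : R) * w' :=
        fun w' hw' => (mem_centralizer_iff.mp k.2) w' hw'
      have hkW : (k : R) ∈ W := c.hrk w₀ hw₀W hw₀Z _ hk' (hkw w₀ hw₀W).symm
      apply hZ3 _ hkW
      intro w' hw'
      exact (hkw w' hw').symm
    · intro g
      obtain ⟨i, hi⟩ := hZgen (χ g) (hχZ g)
      have hz₁inv1 : z₁⁻¹ ≠ 1 := by
        intro h
        exact hz₁1 (inv_eq_one.mp h)
      obtain ⟨j, hj⟩ := pow_of_prime_card Z hZcard z₁⁻¹ (Z.inv_mem hz₁Z) hz₁inv1 (χ₂ g)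
        (by rw [hχ₂]; exact hgx g)
      refine ⟨x ^ i * w₀ ^ j, W.mul_mem (W.pow_mem hxW i) (W.pow_mem hw₀W j),
        (x ^ i * w₀ ^ j)⁻¹ * g, ?_, by group⟩
      rw [mem_centralizer_iff]
      apply hC
      · have h1 : χ₂ ((x ^ i * w₀ ^ j)⁻¹ * g) = 1 := by
          rw [map_mul, map_inv, map_mul, map_pow, map_pow, hχ₂x, hχ₂w, hj, one_pow, one_mul,
            inv_mul_cancel]
        rw [hχ₂] at h1
        exact (commutatorElement_eq_one_iff_commute.mp h1).symm.eq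
      · have h1 : χ ((x ^ i * w₀ ^ j)⁻¹ * g) = 1 := by
          rw [map_mul, map_inv, map_mul, map_pow, map_pow, hχx, hχw, hi, one_pow, mul_one,
            inv_mul_cancel]
        exact ((hχcomm _).mp h1).symm
  · right
    push Not at hcase
    obtain ⟨r, hrχ, hrZ⟩ := hcase
    have hyW : ⁅x, r⁆ ∈ W := by
      have : ⁅x, r⁆ = x * (r * x⁻¹ * r⁻¹) := by rw [commutatorElement_def]; group
      rw [this]
      exact W.mul_mem hxW (hWnorm _ (W.inv_mem hxW) r)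
    have hyχ : χ ⁅x, r⁆ = 1 := by simp [commutatorElement_def, hrχ]
    obtain ⟨j, z, hz, hyeq⟩ := hE _ hyW hyχ
    have hpj : ¬ p ∣ j := by
      rintro ⟨q, rfl⟩
      apply hrZ
      rw [hyeq, pow_mul, hw₀p, one_pow, one_mul]; exact hz
    refine ⟨x, r, hxW, ?_, ?_, ?_⟩
    · intro g
      have h1 : ⁅x, r⁆ ∈ E0 Z hZc := by
        rw [hyeq]
        exact Subgroup.mul_mem _ (Subgroup.pow_mem _ hw₀E0 j) (hZE0 z hz)
      exact h1 g
    · rw [hyeq]
      have c1 : Commute r w₀ := (hχcomm r).mp hrχ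
      have c2 : Commute r z := (hZc z hz r).symm
      exact ((c1.pow_right j).mul_right c2).eq
    · rw [hyeq, comm_mul_right, comm_pow_right x w₀
        (by rw [← hz₁def]; exact fun g => hZc _ hz₁Z g) j, ← hz₁def]
      have h1 : ⁅x, z⁆ = 1 := commutatorElement_eq_one_iff_commute.mpr (hZc z hz x).symm
      rw [h1]
      intro h
      have h' : z₁ ^ j = 1 := by simpa using h
      exact hpj (hz₁pow j h')

/-- Consequences of the second alternative of `coreI`. -/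
theorem bfacts {p : ℕ} [hp : Fact p.Prime] (hp2 : p ≠ 2) {R : Type u} [Group R] [Finite R]
    (hR : IsPGroup p R) {W Z : Subgroup R} (c : Ctx p W Z)
    (x r : R) (hxW : x ∈ W) (hy : ∀ g : R, ⁅⁅x, r⁆, g⁆ ∈ Z) (hry : r * ⁅x, r⁆ = ⁅x, r⁆ * r)
    (hxy : ⁅x, ⁅x, r⁆⁆ ≠ 1) :
    (⁅x, r⁆ ∈ W ∧ ⁅x, r⁆ ∉ Z ∧ ⁅x, ⁅x, r⁆⁆ ∈ Z) ∧
    (∀ g : R, ∃ i a b : ℕ, g = x ^ i * (r ^ a * ⁅x, r⁆ ^ b)) ∧
    (∀ n : ℕ, ∃ z ∈ Z, ⁅x ^ n, r⁆ = z * ⁅x, r⁆ ^ n) ∧
    (∀ i j : ℕ, ⁅x ^ i, ⁅x, r⁆ ^ j⁆ = ⁅x, ⁅x, r⁆⁆ ^ (i * j)) ∧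
    (∃ n₀ : ℕ, ⁅x, ⁅x, r⁆⁆ = (r ^ p) ^ n₀) ∧
    (∀ k : R, (∀ w ∈ W, w * k = k * w) → ∃ m : ℕ, k = (r ^ p) ^ m) ∧
    (∀ w ∈ W, w * r ^ p = r ^ p * w) ∧ r ∉ W := by
  have hpp := hp.out
  have hWp := c.hWp
  have hZcard := c.hZcard
  have hZW := c.hZW
  have hZc := c.hZc
  have hWW := c.hWW
  have hZ3 := c.hZ3
  have hWn := c.hWn
  obtain ⟨y, hydef⟩ : ∃ y : R, y = ⁅x, r⁆ := ⟨_, rfl⟩
  rw [← hydef] at hy hry hxy ⊢
  obtain ⟨z₁, hz₁def⟩ : ∃ z₁ : R, z₁ = ⁅x, y⁆ := ⟨_, rfl⟩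
  rw [← hz₁def] at hxy ⊢
  have hyW : y ∈ W := by
    have : y = x * (r * x⁻¹ * r⁻¹) := by rw [hydef, commutatorElement_def]; group
    rw [this]
    exact W.mul_mem hxW (hWn _ (W.inv_mem hxW) r)
  have hz₁Z : z₁ ∈ Z := by rw [hz₁def]; exact hWW x hxW y hyW
  have hz₁p : z₁ ^ p = 1 := hWp z₁ (hZW hz₁Z)
  have hz₁ord : orderOf z₁ = p := orderOf_eq_prime hz₁p hxy
  have hxp : x ^ p = 1 := hWp x hxW
  have hyp : y ^ p = 1 := hWp y hyW
  have hyZ : y ∉ Z := by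
    intro h
    apply hxy
    rw [hz₁def]
    exact commutatorElement_eq_one_iff_commute.mpr (hZc y h x).symm
  have hy1 : y ≠ 1 := fun h => hyZ (h ▸ Z.one_mem)
  have hyord : orderOf y = p := orderOf_eq_prime hyp hy1
  have hZgen : ∀ z ∈ Z, ∃ i : ℕ, z = z₁ ^ i :=
    fun z hz => pow_of_prime_card Z hZcard z₁ hz₁Z hxy z hz
  have hy' : ∀ g : R, ⁅g, y⁆ ∈ Z := by
    intro g
    rw [← commutatorElement_inv]
    exact Z.inv_mem (hy g)
  obtain ⟨χ, hχ⟩ := commHom Z hZc y hy'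
  have hχZ : ∀ g, χ g ∈ Z := fun g => by rw [hχ]; exact hy' g
  have hχx : χ x = z₁ := by rw [hχ, hz₁def]
  have hχy : χ y = 1 := by rw [hχ, commutatorElement_self]
  have hχz : ∀ z ∈ Z, χ z = 1 := by
    intro z hz
    rw [hχ]
    exact commutatorElement_eq_one_iff_commute.mpr (hZc z hz y)
  have hχcomm : ∀ g, χ g = 1 ↔ g * y = y * g := by
    intro g
    rw [hχ, commutatorElement_eq_one_iff_commute]
    exact Iff.rfl
  have hxynot : x * y ≠ y * x := by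
    intro h
    apply hxy
    rw [hz₁def]
    exact commutatorElement_eq_one_iff_commute.mpr h
  have hgen := gen' hR c x y hxW hyW hxynot
  have hz₁pow : ∀ i : ℕ, z₁ ^ i = 1 → p ∣ i := by
    intro i hi
    rw [← hz₁ord]; exact orderOf_dvd_of_pow_eq_one hi
  have hxpow : ∀ i : ℕ, p ∣ i → x ^ i = 1 := by
    rintro i ⟨k, rfl⟩
    rw [pow_mul, hxp, one_pow]
  have hE : ∀ e ∈ W, χ e = 1 → ∃ j : ℕ, ∃ z ∈ Z, e = y ^ j * z := by
    intro e he hχe
    obtain ⟨i, j, z, hz, rfl⟩ := hgen e he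
    simp only [map_mul, map_pow, hχx, hχy, hχz z hz, one_pow, mul_one] at hχe
    refine ⟨j, z, hz, ?_⟩
    rw [hxpow i (hz₁pow i hχe), one_mul]
  have hDE : ∀ d, χ d = 1 → ∀ e ∈ W, χ e = 1 → d * e = e * d := by
    intro d hd e he hχe
    obtain ⟨j, z, hz, rfl⟩ := hE e he hχe
    have h1 : Commute d y := (hχcomm d).mp hd
    have h2 : Commute d z := (hZc z hz d).symm
    exact ((h1.pow_right j).mul_right h2).eq
  have hWD : ∀ w ∈ W, ∀ d, χ d = 1 → ⁅w, d⁆ ∈ W ∧ χ ⁅w, d⁆ = 1 := by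
    intro w hw d hd
    constructor
    · have : ⁅w, d⁆ = w * (d * w⁻¹ * d⁻¹) := by rw [commutatorElement_def]; group
      rw [this]
      exact W.mul_mem hw (hWn _ (W.inv_mem hw) d)
    · simp [commutatorElement_def, hd]
  have hDmem : ∀ d : R, d ∈ χ.ker ↔ χ d = 1 := fun d => MonoidHom.mem_ker
  have hψmul : ∀ a b : χ.ker, ⁅x, ((a * b : χ.ker) : R)⁆ = ⁅x, (a : R)⁆ * ⁅x, (b : R)⁆ := by
    intro a b
    have ha : χ (a : R) = 1 := (hDmem _).mp a.2
    have hb : χ (b : R) = 1 := (hDmem _).mp b.2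
    obtain ⟨h1, h2⟩ := hWD x hxW (b : R) hb
    have h3 := hDE (a : R) ha _ h1 h2
    rw [Subgroup.coe_mul, comm_mul_right, h3, mul_inv_cancel_right]
  obtain ⟨ψ, hψ⟩ : ∃ ψ : χ.ker →* R, ∀ d : χ.ker, ψ d = ⁅x, (d : R)⁆ :=
    ⟨MonoidHom.mk' (fun d => ⁅x, (d : R)⁆) hψmul, fun d => rfl⟩
  have hrD : χ r = 1 := (hχcomm r).mpr hry
  obtain ⟨rD, hrDdef⟩ : ∃ rD : χ.ker, (rD : R) = r := ⟨⟨r, (hDmem r).mpr hrD⟩, rfl⟩
  obtain ⟨yD, hyDdef⟩ : ∃ yD : χ.ker, (yD : R) = y := ⟨⟨y, (hDmem y).mpr hχy⟩, rfl⟩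
  have hψr : ψ rD = y := by rw [hψ, hrDdef, hydef]
  have hψy : ψ yD = z₁ := by rw [hψ, hyDdef, hz₁def]
  have hC : ∀ g, x * g = g * x → y * g = g * y → ∀ w ∈ W, w * g = g * w := by
    intro g h1 h2 w hw
    obtain ⟨i, j, z, hz, rfl⟩ := hgen w hw
    have c1 : Commute x g := h1
    have c2 : Commute y g := h2
    have c3 : Commute z g := hZc z hz g
    exact (((c1.pow_left i).mul_left (c2.pow_left j)).mul_left c3).eq
  have hrW : r ∉ W := by
    intro h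
    apply hyZ
    rw [hydef]
    exact hWW x hxW r h
  have hrpC : ∀ w ∈ W, w * r ^ p = r ^ p * w := by
    apply hC
    · have h1 : ψ (rD ^ p) = 1 := by rw [map_pow, hψr, hyp]
      rw [hψ, Subgroup.coe_pow, hrDdef] at h1
      exact commutatorElement_eq_one_iff_commute.mp h1
    · exact ((show Commute r y from hry).pow_left p).symm.eq
  obtain ⟨n₀, hn₀⟩ : ∃ n : ℕ, z₁ = (r ^ p) ^ n := by
    obtain ⟨k, hk⟩ := (IsPGroup.iff_orderOf.mp hR) r
    have hk2 : 2 ≤ k := by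
      by_contra h
      apply hrW
      apply c.hrk y hyW hyZ r ?_ hry
      have : k = 0 ∨ k = 1 := by omega
      rcases this with rfl | rfl
      · rw [pow_zero, orderOf_eq_one_iff] at hk
        rw [hk, one_pow]
      · rw [pow_one] at hk
        rw [← hk]; exact pow_orderOf_eq_one r
    have ht' : (r ^ p) ^ (p ^ (k - 2)) = r ^ (p ^ (k - 1)) := by
      rw [← pow_mul, ← pow_succ']; congr 2; omega
    have htp : ((r ^ p) ^ (p ^ (k - 2))) ^ p = 1 := by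
      rw [ht', ← pow_mul, ← pow_succ]
      have : k - 1 + 1 = k := by omega
      rw [this, ← hk]; exact pow_orderOf_eq_one r
    have ht1 : (r ^ p) ^ (p ^ (k - 2)) ≠ 1 := by
      rw [ht']
      apply pow_ne_one_of_lt_orderOf (pow_pos hpp.pos _).ne'
      rw [hk]
      exact Nat.pow_lt_pow_right hpp.one_lt (by omega)
    have htZ : (r ^ p) ^ (p ^ (k - 2)) ∈ Z := by
      have hcomm : ∀ w' ∈ W, (r ^ p) ^ (p ^ (k - 2)) * w' = w' * (r ^ p) ^ (p ^ (k - 2)) := by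
        intro w' hw'
        have c' : Commute w' (r ^ p) := hrpC w' hw'
        exact (c'.pow_right _).symm.eq
      exact hZ3 _ (c.hrk y hyW hyZ _ htp (hcomm y hyW)) hcomm
    obtain ⟨i, hi⟩ := pow_of_prime_card Z hZcard _ htZ ht1 z₁ hz₁Z
    exact ⟨p ^ (k - 2) * i, by rw [hi, ← pow_mul]⟩
  have hCr : ∀ k : R, (∀ w ∈ W, w * k = k * w) → ∃ n : ℕ, k = (r ^ p) ^ n := by
    obtain ⟨K, hKmem⟩ : ∃ K : Subgroup χ.ker, ∀ k : χ.ker, k ∈ K ↔ ψ k ∈ zpowers y :=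
      ⟨(zpowers y).comap ψ, fun k => Iff.rfl⟩
    have hKp : IsPGroup p K := (hR.to_subgroup χ.ker).to_subgroup K
    have hKcyc : IsCyclic K := by
      apply cyclic_of_few hp2 hKp (χ.ker.subtype.comp K.subtype)
        ((Subgroup.subtype_injective χ.ker).comp (Subgroup.subtype_injective K)) Z hZcard.le
      intro k hk
      show ((k : χ.ker) : R) ∈ Z
      have hk' : ((k : χ.ker) : R) ^ p = 1 := by
        have := congrArg (fun a : K => ((a : χ.ker) : R)) hk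
        simpa using this
      have hkχ : χ ((k : χ.ker) : R) = 1 := (hDmem _).mp (k : χ.ker).2
      have hkW : ((k : χ.ker) : R) ∈ W := c.hrk y hyW hyZ _ hk' ((hχcomm _).mp hkχ)
      obtain ⟨j, z, hz, hkeq⟩ := hE _ hkW hkχ
      have hψk : ψ (k : χ.ker) = z₁ ^ j := by
        rw [hψ, hkeq, comm_mul_right, comm_pow_right x y
          (by rw [← hz₁def]; exact fun g => hZc _ hz₁Z g) j, ← hz₁def]
        have : ⁅x, z⁆ = 1 := commutatorElement_eq_one_iff_commute.mpr (hZc z hz x).symm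
        rw [this]; group
      have hmem : ψ (k : χ.ker) ∈ zpowers y := (hKmem _).mp k.2
      obtain ⟨m, hm⟩ := (mem_powers_iff_mem_zpowers).mpr hmem
      have hm' : y ^ m = z₁ ^ j := by rw [← hψk]; exact hm
      have hpj : p ∣ j := by
        apply hz₁pow
        by_contra hne
        have hpm : ¬ p ∣ m := by
          rintro ⟨q, rfl⟩
          apply hne
          rw [← hm', pow_mul, hyp, one_pow]
        obtain ⟨m', hm''⟩ := exists_pow_back y hyp m hpm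
        apply hyZ
        rw [← hm'', hm']
        exact Z.pow_mem (Z.pow_mem hz₁Z j) m'
      obtain ⟨q, rfl⟩ := hpj
      rw [hkeq, pow_mul, hyp, one_pow, one_mul]
      exact hz
    obtain ⟨k₀, hk₀⟩ := hKcyc.exists_generator
    obtain ⟨rK, hrKdef⟩ : ∃ rK : K, (rK : χ.ker) = rD :=
      ⟨⟨rD, (hKmem rD).mpr (by rw [hψr]; exact mem_zpowers y)⟩, rfl⟩
    obtain ⟨b, hb⟩ := (mem_powers_iff_mem_zpowers).mpr (hk₀ rK)
    have hb' : k₀ ^ b = rK := hb
    obtain ⟨a, ha⟩ := (mem_powers_iff_mem_zpowers).mpr ((hKmem _).mp k₀.2)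
    have ha' : y ^ a = ψ (k₀ : χ.ker) := ha
    have hpb : ¬ p ∣ b := by
      rintro ⟨q, rfl⟩
      apply hy1
      have h1 : ψ ((rK : K) : χ.ker) = ψ (((k₀ ^ (p * q) : K)) : χ.ker) := by rw [hb']
      rw [Subgroup.coe_pow, map_pow, ← ha', hrKdef, hψr] at h1
      rw [h1, ← pow_mul, mul_comm a, mul_assoc, pow_mul, hyp, one_pow]
    obtain ⟨s, hs⟩ := (IsPGroup.iff_orderOf.mp hKp) k₀
    obtain ⟨m, hm⟩ : ∃ m : ℕ, (k₀ ^ b) ^ m = k₀ := by
      apply exists_pow_eq_self_of_coprime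
      rw [hs]
      exact Nat.Coprime.pow_right s ((Nat.Prime.coprime_iff_not_dvd hpp).mpr hpb).symm
    rw [hb'] at hm
    intro k hc
    have hcχ : χ k = 1 := (hχcomm k).mpr (hc y hyW).symm
    obtain ⟨cD, hcDdef⟩ : ∃ cD : χ.ker, (cD : R) = k := ⟨⟨k, (hDmem k).mpr hcχ⟩, rfl⟩
    have hψc : ψ cD = 1 := by
      rw [hψ, hcDdef]
      exact commutatorElement_eq_one_iff_commute.mpr (hc x hxW)
    obtain ⟨cK, hcKdef⟩ : ∃ cK : K, (cK : χ.ker) = cD :=
      ⟨⟨cD, (hKmem cD).mpr (by rw [hψc]; exact one_mem _)⟩, rfl⟩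
    obtain ⟨i, hi⟩ := (mem_powers_iff_mem_zpowers).mpr (hk₀ cK)
    have hi' : k₀ ^ i = cK := hi
    rw [← hm, ← pow_mul] at hi'
    have hi'' : r ^ (m * i) = k := by
      have := congrArg (fun a : K => ((a : χ.ker) : R)) hi'
      simpa [hrKdef, hrDdef, hcKdef, hcDdef] using this
    have hpi : p ∣ m * i := by
      have h1 : ψ ((rK ^ (m * i) : K) : χ.ker) = ψ ((cK : K) : χ.ker) := by rw [hi']
      rw [Subgroup.coe_pow, map_pow, hrKdef, hψr, hcKdef, hψc] at h1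
      rw [← hyord]; exact orderOf_dvd_of_pow_eq_one h1
    obtain ⟨q, hq⟩ := hpi
    exact ⟨q, by rw [← hi'', hq, pow_mul]⟩
  have hB2 : ∀ g : R, ∃ i a b : ℕ, g = x ^ i * (r ^ a * y ^ b) := by
    intro g
    obtain ⟨i, hi⟩ := hZgen (χ g) (hχZ g)
    obtain ⟨d, hd⟩ : ∃ d : R, d = (x ^ i)⁻¹ * g := ⟨_, rfl⟩
    have hdχ : χ d = 1 := by
      rw [hd, map_mul, map_inv, map_pow, hχx, hi, inv_mul_cancel]
    obtain ⟨hxdW, hxdχ⟩ := hWD x hxW d hdχ
    obtain ⟨j, zd, hzd, hxd⟩ := hE _ hxdW hxdχ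
    obtain ⟨i', hi'⟩ := hZgen zd hzd
    obtain ⟨dD, hdDdef⟩ : ∃ dD : χ.ker, (dD : R) = d := ⟨⟨d, (hDmem d).mpr hdχ⟩, rfl⟩
    have hψd : ψ dD = y ^ j * z₁ ^ i' := by rw [hψ, hdDdef, hxd, hi']
    have hψc : ψ ((rD ^ j * yD ^ i')⁻¹ * dD) = 1 := by
      rw [map_mul, map_inv, map_mul, map_pow, map_pow, hψr, hψy, hψd, inv_mul_cancel]
    obtain ⟨k, hk⟩ : ∃ k : R, k = (r ^ j * y ^ i')⁻¹ * d := ⟨_, rfl⟩
    have hcc : ((((rD ^ j * yD ^ i')⁻¹ * dD : χ.ker)) : R) = k := by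
      rw [hk]
      simp [hrDdef, hyDdef, hdDdef]
    have hcx : x * k = k * x := by
      have : ⁅x, k⁆ = 1 := by rw [← hcc, ← hψ]; exact hψc
      exact commutatorElement_eq_one_iff_commute.mp this
    have hcy : y * k = k * y := by
      have : χ k = 1 := by
        rw [hk]
        simp [hrD, hχy, hdχ]
      exact ((hχcomm k).mp this).symm
    obtain ⟨m, hm⟩ := hCr k (hC k hcx hcy)
    refine ⟨i, j + p * m, i', ?_⟩
    have hdeq : d = r ^ j * y ^ i' * (r ^ p) ^ m := by rw [← hm, hk]; group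
    have hg : g = x ^ i * d := by rw [hd]; group
    have hcry : Commute r y := hry
    have c1 : Commute (y ^ i') ((r ^ p) ^ m) :=
      ((hcry.symm.pow_left i').pow_right p).pow_right m
    rw [hg, hdeq, mul_assoc (r ^ j), c1.eq, ← mul_assoc (r ^ j), ← pow_mul, ← pow_add]
  have hB3 : ∀ n : ℕ, ∃ z ∈ Z, ⁅x ^ n, r⁆ = z * y ^ n := by
    intro n
    induction n with
    | zero => exact ⟨1, Z.one_mem, by simp⟩
    | succ n ih =>
      obtain ⟨z, hz, hzeq⟩ := ih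
      have hcz : ⁅x ^ n, y⁆ ∈ Z := hWW _ (W.pow_mem hxW n) _ hyW
      refine ⟨⁅x ^ n, y⁆ * z, Z.mul_mem hcz hz, ?_⟩
      have e1 : x ^ n * y * (x ^ n)⁻¹ = ⁅x ^ n, y⁆ * y := by
        rw [commutatorElement_def (x ^ n)]; group
      have e2 : y * z = z * y := (hZc z hz _).symm
      rw [pow_succ, comm_mul_left, ← hydef, e1, hzeq, pow_succ, mul_assoc, ← mul_assoc y z, e2]
      simp only [mul_assoc]
      congr 2
      exact ((Commute.refl y).pow_right n).eq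
  have hB4 : ∀ i j : ℕ, ⁅x ^ i, y ^ j⁆ = z₁ ^ (i * j) := by
    intro i j
    have h1 : ⁅x ^ i, y⁆ = z₁ ^ i := by rw [← hχ, map_pow, hχx]
    rw [comm_pow_right (x ^ i) y (by rw [h1]; exact fun g => hZc _ (Z.pow_mem hz₁Z i) g) j, h1,
      pow_mul]
  exact ⟨⟨hyW, hyZ, hz₁Z⟩, hB2, hB3, hB4, ⟨n₀, hn₀⟩, hCr, hrpC, hrW⟩

end Cfsg.Agent.Lib.Helper70.Blackburn3
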