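import Mathlib
import Cfsg.Agent.Lib.Helper70.Blackburn3

set_option autoImplicit false

/-!
# The two families of Blackburn's theorem

From the dichotomy of `Blackburn3.coreI` we derive the explicit presentations, and the fact that
`W` contains all elements of order dividing `p` when it is not self-centralizing.
-/

namespace Cfsg.Agent.Lib.Helper70.Blackburn4

open Subgroup
open scoped commutatorElement
open Cfsg.Agent.Lib.Helper70.OmegaSmall
open Cfsg.Agent.Lib.Helper70.Blackburn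
open Cfsg.Agent.Lib.Helper70.Blackburn3

universe u

/-- The central product family. -/
theorem famA {p : ℕ} [hp : Fact p.Prime] {R : Type u} [Group R] [Finite R] (n : ℕ)
    (hRc : Nat.card R = p ^ n) {W Z : Subgroup R} (c : Ctx p W Z)
    (a b : R) (ha : a ∈ W) (hb : b ∈ W) (hab : a * b ≠ b * a)
    (hcyc : IsCyclic (centralizer (W : Set R)))
    (hdec : ∀ g : R, ∃ w ∈ W, ∃ k ∈ centralizer (W : Set R), g = w * k) :
    3 ≤ n ∧ ∃ x y z : R, closure ({x, y, z} : Set R) = ⊤ ∧ x ^ p = 1 ∧ y ^ p = 1 ∧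
      z ^ p ^ (n - 2) = 1 ∧ x * z = z * x ∧ y * z = z * y ∧
      x⁻¹ * y * x = y * z ^ p ^ (n - 3) := by
  have hpp := hp.out
  have hR : IsPGroup p R := IsPGroup.of_card hRc
  have hn3 : 3 ≤ n := by
    have h1 : Nat.card W ≤ Nat.card R := Subgroup.card_le_card_group W
    rw [c.hWc, hRc] at h1
    exact (Nat.pow_le_pow_iff_right hpp.one_lt).mp h1
  obtain ⟨C, hCdef⟩ : ∃ C : Subgroup R, C = centralizer (W : Set R) := ⟨_, rfl⟩
  rw [← hCdef] at hcyc hdec
  have hCmem : ∀ k, k ∈ C ↔ ∀ w ∈ W, w * k = k * w := fun k => by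
    rw [hCdef]; exact mem_centralizer_iff
  have hgen := gen' hR c a b ha hb hab
  have hZC : Z ≤ C := fun z hz => (hCmem z).mpr (fun w _ => (c.hZc z hz w).symm)
  have hap : a ^ p = 1 := c.hWp a ha
  have hbp : b ^ p = 1 := c.hWp b hb
  have hup : Nat.card R ≤ p * (p * Nat.card C) := by
    let f : Fin p × Fin p × C → R := fun t => a ^ (t.1 : ℕ) * b ^ (t.2.1 : ℕ) * (t.2.2 : R)
    have hsurj : Function.Surjective f := by
      intro g
      obtain ⟨w, hw, k, hk, rfl⟩ := hdec g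
      obtain ⟨i, j, z, hz, rfl⟩ := hgen w hw
      refine ⟨(⟨i % p, Nat.mod_lt _ hpp.pos⟩, ⟨j % p, Nat.mod_lt _ hpp.pos⟩,
        ⟨z * k, C.mul_mem (hZC hz) hk⟩), ?_⟩
      show a ^ (i % p) * b ^ (j % p) * (z * k) = a ^ i * b ^ j * z * k
      rw [← pow_eq_pow_mod i hap, ← pow_eq_pow_mod j hbp, mul_assoc (a ^ i * b ^ j)]
    have h1 := Nat.card_le_card_of_surjective f hsurj
    rw [Nat.card_prod, Nat.card_prod, Nat.card_fin] at h1
    exact h1
  have hlow : p * (p * Nat.card C) ≤ Nat.card R := by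
    have hbC : b ∉ C := fun h => hab ((hCmem b).mp h a ha)
    have hlt1 : C < C ⊔ zpowers b := by
      refine lt_of_le_of_ne le_sup_left ?_
      intro h
      apply hbC
      rw [h]
      exact mem_sup_right (mem_zpowers b)
    have hle : C ⊔ zpowers b ≤ centralizer ({b} : Set R) := by
      apply sup_le
      · intro k hk
        rw [mem_centralizer_iff]
        intro h hh
        rw [Set.mem_singleton_iff] at hh
        rw [hh]
        exact (hCmem k).mp hk b hb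
      · rw [zpowers_le, mem_centralizer_iff]
        intro h hh
        rw [Set.mem_singleton_iff] at hh
        rw [hh]
    have hlt2 : centralizer ({b} : Set R) < ⊤ := by
      rw [lt_top_iff_ne_top]
      intro h
      have h1 : a ∈ centralizer ({b} : Set R) := h ▸ mem_top a
      exact hab ((mem_centralizer_iff.mp h1 b rfl).symm)
    have h1 := Cfsg.Agent.S0128.mul_card_le_of_lt hR hlt1
    have h2 := Subgroup.card_le_of_le hle
    have h3 := Cfsg.Agent.S0128.mul_card_le_of_lt hR hlt2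
    rw [Subgroup.card_top] at h3
    exact (Nat.mul_le_mul_left _ (h1.trans h2)).trans h3
  have hCcard : Nat.card C = p ^ (n - 2) := by
    have h1 : p * (p * Nat.card C) = p ^ n := by rw [← hRc]; exact le_antisymm hlow hup
    have h2 : p ^ n = p * (p * p ^ (n - 2)) := by
      rw [← pow_succ', ← pow_succ']; congr 1; omega
    rw [h2] at h1
    exact Nat.eq_of_mul_eq_mul_left hpp.pos (Nat.eq_of_mul_eq_mul_left hpp.pos h1)
  obtain ⟨⟨c₀, hc₀C⟩, hc₀gen⟩ := hcyc.exists_generator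
  have hCpow : ∀ k ∈ C, ∃ m : ℕ, k = c₀ ^ m := by
    intro k hk
    obtain ⟨m, hm⟩ := (mem_powers_iff_mem_zpowers).mpr (hc₀gen ⟨k, hk⟩)
    refine ⟨m, ?_⟩
    have := congrArg Subtype.val hm
    simpa using this.symm
  have hc₀ord : orderOf c₀ = p ^ (n - 2) := by
    rw [← hCcard, ← Subgroup.orderOf_mk c₀ hc₀C]
    exact orderOf_eq_card_of_forall_mem_zpowers hc₀gen
  obtain ⟨ζ, hζdef⟩ : ∃ ζ : R, ζ = b⁻¹ * (a⁻¹ * b * a) := ⟨_, rfl⟩
  have hζZ : ζ ∈ Z := by
    have : ζ = ⁅b⁻¹, a⁻¹⁆ := by rw [hζdef, commutatorElement_def]; group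
    rw [this]
    exact c.hWW _ (W.inv_mem hb) _ (W.inv_mem ha)
  have hζ1 : ζ ≠ 1 := by
    intro h
    apply hab
    have h1 : a⁻¹ * b * a = b := by
      have : a⁻¹ * b * a = b * ζ := by rw [hζdef]; group
      rw [this, h, mul_one]
    calc a * b = a * (a⁻¹ * b * a) := by rw [h1]
      _ = b * a := by group
  have hζp : ζ ^ p = 1 := c.hWp ζ (c.hZW hζZ)
  obtain ⟨m, hm⟩ := hCpow ζ (hZC hζZ)
  have hdvd1 : p ^ (n - 2) ∣ m * p := by
    rw [← hc₀ord]
    apply orderOf_dvd_of_pow_eq_one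
    rw [pow_mul, ← hm, hζp]
  have hdvd2 : p ^ (n - 3) ∣ m := by
    have h1 : p ^ (n - 2) = p ^ (n - 3) * p := by rw [← pow_succ]; congr 1; omega
    rw [h1] at hdvd1
    exact Nat.dvd_of_mul_dvd_mul_right hpp.pos hdvd1
  obtain ⟨k', hk'⟩ := hdvd2
  have hpk' : ¬ p ∣ k' := by
    rintro ⟨q, rfl⟩
    apply hζ1
    rw [hm, hk']
    have h1 : p ^ (n - 3) * (p * q) = p ^ (n - 2) * q := by
      rw [← mul_assoc, ← pow_succ]; congr 2; omega
    rw [h1, pow_mul, ← hc₀ord, pow_orderOf_eq_one, one_pow]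
  obtain ⟨z, hzdef⟩ : ∃ z : R, z = c₀ ^ k' := ⟨_, rfl⟩
  have hzC : z ∈ C := by rw [hzdef]; exact C.pow_mem hc₀C k'
  have hzζ : z ^ p ^ (n - 3) = ζ := by rw [hzdef, ← pow_mul, hm, hk', mul_comm]
  obtain ⟨m', hm'⟩ : ∃ m' : ℕ, (c₀ ^ k') ^ m' = c₀ := by
    apply exists_pow_eq_self_of_coprime
    rw [hc₀ord]
    exact Nat.Coprime.pow_right _ ((Nat.Prime.coprime_iff_not_dvd hpp).mpr hpk').symm
  refine ⟨hn3, a, b, z, ?_, hap, hbp, ?_, ?_, ?_, ?_⟩
  · rw [eq_top_iff]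
    intro g _
    have haM : a ∈ closure ({a, b, z} : Set R) := subset_closure (by simp)
    have hbM : b ∈ closure ({a, b, z} : Set R) := subset_closure (by simp)
    have hzM : z ∈ closure ({a, b, z} : Set R) := subset_closure (by simp)
    have hCM : ∀ k ∈ C, k ∈ closure ({a, b, z} : Set R) := by
      intro k hk
      obtain ⟨i, rfl⟩ := hCpow k hk
      rw [← hm', ← hzdef]
      exact pow_mem (pow_mem hzM m') i
    obtain ⟨w, hw, k, hk, rfl⟩ := hdec g
    obtain ⟨i, j, z', hz', rfl⟩ := hgen w hw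
    exact mul_mem (mul_mem (mul_mem (pow_mem haM i) (pow_mem hbM j)) (hCM z' (hZC hz')))
      (hCM k hk)
  · rw [hzdef, ← pow_mul, mul_comm, pow_mul, ← hc₀ord, pow_orderOf_eq_one, one_pow]
  · exact (hCmem z).mp hzC a ha
  · exact (hCmem z).mp hzC b hb
  · rw [hzζ, hζdef]; group

/-- The second family. -/
theorem famB {p : ℕ} [hp : Fact p.Prime] (hp2 : p ≠ 2) {R : Type u} [Group R] [Finite R] (n : ℕ)
    (hRc : Nat.card R = p ^ n) {W Z : Subgroup R} (c : Ctx p W Z)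
    (x r : R) (hxW : x ∈ W) (hy : ∀ g : R, ⁅⁅x, r⁆, g⁆ ∈ Z) (hry : r * ⁅x, r⁆ = ⁅x, r⁆ * r)
    (hxy : ⁅x, ⁅x, r⁆⁆ ≠ 1) :
    4 ≤ n ∧ ∃ (s : ℕ) (x y z : R), (s = 1 ∨ ¬ IsSquare (s : ZMod p)) ∧
        closure ({x, y, z} : Set R) = ⊤ ∧ x ^ p = 1 ∧ y ^ p = 1 ∧ z ^ p ^ (n - 2) = 1 ∧
        y * z = z * y ∧ x⁻¹ * y * x = y * z ^ (s * p ^ (n - 3)) ∧ x⁻¹ * z * x = y * z := by
  have hpp := hp.out
  have hR : IsPGroup p R := IsPGroup.of_card hRc
  obtain ⟨⟨hyW, hyZ, hz₁Z⟩, hgen, hB3, hB4, ⟨n₀, hn₀⟩, hCr, hrpC, hrW⟩ :=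
    bfacts hp2 hR c x r hxW hy hry hxy
  obtain ⟨y, hydef⟩ : ∃ y : R, y = ⁅x, r⁆ := ⟨_, rfl⟩
  rw [← hydef] at hy hry hxy hyW hyZ hz₁Z hgen hB3 hB4 hn₀
  obtain ⟨z₁, hz₁def⟩ : ∃ z₁ : R, z₁ = ⁅x, y⁆ := ⟨_, rfl⟩
  rw [← hz₁def] at hxy hz₁Z hB4 hn₀
  have hxp : x ^ p = 1 := c.hWp x hxW
  have hyp : y ^ p = 1 := c.hWp y hyW
  have hz₁p : z₁ ^ p = 1 := c.hWp z₁ (c.hZW hz₁Z)
  have hcry : Commute r y := hry
  obtain ⟨k, hk⟩ := (IsPGroup.iff_orderOf.mp hR) r
  have hrp1 : r ^ p ≠ 1 := by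
    intro h
    apply hxy
    rw [hn₀, h, one_pow]
  have hk2 : 2 ≤ k := by
    by_contra h
    apply hrp1
    have h1 : orderOf r ∣ p := by
      rw [hk]
      have : k ≤ 1 := by omega
      calc p ^ k ∣ p ^ 1 := pow_dvd_pow p this
        _ = p := pow_one p
    exact orderOf_dvd_iff_pow_eq_one.mp h1
  have hrpk : r ^ p ^ k = 1 := by rw [← hk]; exact pow_orderOf_eq_one r
  have hyr : y ∉ zpowers r := by
    intro h
    obtain ⟨j, hj⟩ := (mem_powers_iff_mem_zpowers).mpr h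
    have hj' : r ^ j = y := hj
    by_cases hpj : p ∣ j
    · obtain ⟨q, rfl⟩ := hpj
      apply hxy
      rw [hz₁def]
      apply commutatorElement_eq_one_iff_commute.mpr
      have c1 : Commute x (r ^ p) := hrpC x hxW
      have : y = (r ^ p) ^ q := by rw [← pow_mul]; exact hj'.symm
      rw [this]
      exact c1.pow_right q
    · apply hrW
      obtain ⟨m, hm⟩ : ∃ m : ℕ, (r ^ j) ^ m = r := by
        apply exists_pow_eq_self_of_coprime
        rw [hk]
        exact Nat.Coprime.pow_right _ ((Nat.Prime.coprime_iff_not_dvd hpp).mpr hpj).symm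
      rw [← hm, hj']
      exact W.pow_mem hyW m
  have hup : Nat.card R ≤ p * (p ^ k * p) := by
    let f : Fin p × Fin (p ^ k) × Fin p → R :=
      fun t => x ^ (t.1 : ℕ) * (r ^ (t.2.1 : ℕ) * y ^ (t.2.2 : ℕ))
    have hsurj : Function.Surjective f := by
      intro g
      obtain ⟨i, a, b, rfl⟩ := hgen g
      refine ⟨(⟨i % p, Nat.mod_lt _ hpp.pos⟩, ⟨a % p ^ k, Nat.mod_lt _ (pow_pos hpp.pos k)⟩,
        ⟨b % p, Nat.mod_lt _ hpp.pos⟩), ?_⟩
      show x ^ (i % p) * (r ^ (a % p ^ k) * y ^ (b % p)) = x ^ i * (r ^ a * y ^ b)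
      rw [← pow_eq_pow_mod i hxp, ← pow_eq_pow_mod a hrpk, ← pow_eq_pow_mod b hyp]
    have h1 := Nat.card_le_card_of_surjective f hsurj
    rw [Nat.card_prod, Nat.card_prod, Nat.card_fin, Nat.card_fin] at h1
    exact h1
  have hlow : p * (p * p ^ k) ≤ Nat.card R := by
    have hlt1 : zpowers r < zpowers r ⊔ zpowers y := by
      refine lt_of_le_of_ne le_sup_left ?_
      intro h
      apply hyr
      rw [h]
      exact mem_sup_right (mem_zpowers y)
    have hle : zpowers r ⊔ zpowers y ≤ centralizer ({y} : Set R) := by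
      apply sup_le
      · rw [zpowers_le, mem_centralizer_iff]
        intro h hh
        rw [Set.mem_singleton_iff] at hh
        rw [hh]
        exact hry.symm
      · rw [zpowers_le, mem_centralizer_iff]
        intro h hh
        rw [Set.mem_singleton_iff] at hh
        rw [hh]
    have hlt2 : centralizer ({y} : Set R) < ⊤ := by
      rw [lt_top_iff_ne_top]
      intro h
      have h1 : x ∈ centralizer ({y} : Set R) := h ▸ mem_top x
      apply hxy
      rw [hz₁def]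
      exact commutatorElement_eq_one_iff_commute.mpr (mem_centralizer_iff.mp h1 y rfl).symm
    have h1 := Cfsg.Agent.S0128.mul_card_le_of_lt hR hlt1
    rw [Nat.card_zpowers, hk] at h1
    have h2 := Subgroup.card_le_of_le hle
    have h3 := Cfsg.Agent.S0128.mul_card_le_of_lt hR hlt2
    rw [Subgroup.card_top] at h3
    exact (Nat.mul_le_mul_left _ (h1.trans h2)).trans h3
  have hnk : n = k + 2 := by
    rw [hRc] at hup hlow
    have h1 : p ^ n ≤ p ^ (k + 2) := by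
      calc p ^ n ≤ p * (p ^ k * p) := hup
        _ = p ^ (k + 2) := by ring
    have h2 : p ^ (k + 2) ≤ p ^ n := by
      calc p ^ (k + 2) = p * (p * p ^ k) := by ring
        _ ≤ p ^ n := hlow
    have h3 := (Nat.pow_le_pow_iff_right hpp.one_lt).mp h1
    have h4 := (Nat.pow_le_pow_iff_right hpp.one_lt).mp h2
    omega
  have hn4 : 4 ≤ n := by omega
  have hk' : n - 2 = k := by omega
  obtain ⟨s', hs'p, hs'⟩ : ∃ s' : ℕ, ¬ p ∣ s' ∧ z₁ = r ^ (s' * p ^ (n - 3)) := by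
    have hdvd1 : p ^ k ∣ p * n₀ * p := by
      rw [← hk]
      apply orderOf_dvd_of_pow_eq_one
      rw [pow_mul, pow_mul, ← hn₀, hz₁p]
    have h1 : p ^ k = p * p ^ (k - 2) * p := by
      have : k = (k - 2) + 1 + 1 := by omega
      conv_lhs => rw [this]
      rw [pow_succ, pow_succ']
    rw [h1] at hdvd1
    have hdvd2 : p ^ (k - 2) ∣ n₀ :=
      Nat.dvd_of_mul_dvd_mul_left hpp.pos (Nat.dvd_of_mul_dvd_mul_right hpp.pos hdvd1)
    obtain ⟨s', hs'⟩ := hdvd2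
    refine ⟨s', ?_, ?_⟩
    · rintro ⟨q, rfl⟩
      apply hxy
      rw [hn₀, hs', ← pow_mul]
      have h2 : p * (p ^ (k - 2) * (p * q)) = p ^ k * q := by
        rw [h1]; ring
      rw [h2, pow_mul, hrpk, one_pow]
    · rw [hn₀, hs', ← pow_mul]
      congr 1
      have h3 : n - 3 = (k - 2) + 1 := by omega
      rw [h3, pow_succ]; ring
  have key : ∀ a s : ℕ, ¬ p ∣ a → z₁ ^ (a * a) = r ^ (s * p ^ (n - 3)) →
      (s = 1 ∨ ¬ IsSquare (s : ZMod p)) →
      ∃ (s : ℕ) (x y z : R), (s = 1 ∨ ¬ IsSquare (s : ZMod p)) ∧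
        closure ({x, y, z} : Set R) = ⊤ ∧ x ^ p = 1 ∧ y ^ p = 1 ∧ z ^ p ^ (n - 2) = 1 ∧
        y * z = z * y ∧ x⁻¹ * y * x = y * z ^ (s * p ^ (n - 3)) ∧ x⁻¹ * z * x = y * z := by
    intro a s hpa hza hs
    obtain ⟨ζ, hζ, hy₂⟩ := hB3 a
    refine ⟨s, (x ^ a)⁻¹, ⁅x ^ a, r⁆, r, hs, ?_, ?_, ?_, ?_, ?_, ?_, ?_⟩
    · rw [eq_top_iff]
      intro g _
      have hXM : x ^ a ∈ closure ({(x ^ a)⁻¹, ⁅x ^ a, r⁆, r} : Set R) := by
        have : (x ^ a)⁻¹ ∈ closure ({(x ^ a)⁻¹, ⁅x ^ a, r⁆, r} : Set R) :=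
          subset_closure (by simp)
        simpa using inv_mem this
      have hrM : r ∈ closure ({(x ^ a)⁻¹, ⁅x ^ a, r⁆, r} : Set R) := subset_closure (by simp)
      obtain ⟨m, hm⟩ := exists_pow_back x hxp a hpa
      have hxM : x ∈ closure ({(x ^ a)⁻¹, ⁅x ^ a, r⁆, r} : Set R) := by
        have h := pow_mem hXM m
        rwa [hm] at h
      have hyM : y ∈ closure ({(x ^ a)⁻¹, ⁅x ^ a, r⁆, r} : Set R) := by
        rw [hydef, commutatorElement_def]
        exact mul_mem (mul_mem (mul_mem hxM hrM) (inv_mem hxM)) (inv_mem hrM)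
      obtain ⟨i, a', b, rfl⟩ := hgen g
      exact mul_mem (pow_mem hxM i) (mul_mem (pow_mem hrM a') (pow_mem hyM b))
    · rw [inv_pow, ← pow_mul, mul_comm, pow_mul, hxp, one_pow, inv_one]
    · apply c.hWp
      rw [hy₂]
      exact W.mul_mem (c.hZW hζ) (W.pow_mem hyW a)
    · rw [hk']; exact hrpk
    · rw [hy₂]
      have c1 : Commute ζ r := c.hZc ζ hζ r
      have c2 : Commute (y ^ a) r := (hcry.symm.pow_left a)
      exact (c1.mul_left c2).eq
    · rw [inv_inv]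
      have e1 : x ^ a * ⁅x ^ a, r⁆ * (x ^ a)⁻¹ = ⁅x ^ a, ⁅x ^ a, r⁆⁆ * ⁅x ^ a, r⁆ := by
        rw [commutatorElement_def (x ^ a) ⁅x ^ a, r⁆]; group
      have e2 : ⁅x ^ a, ⁅x ^ a, r⁆⁆ = z₁ ^ (a * a) := by
        rw [hy₂, comm_mul_right, hB4]
        have h1 : ⁅x ^ a, ζ⁆ = 1 :=
          commutatorElement_eq_one_iff_commute.mpr (c.hZc ζ hζ _).symm
        have h2 := c.hZc _ (Z.pow_mem hz₁Z (a * a)) ζ⁻¹
        rw [h1, one_mul, mul_assoc, h2, mul_inv_cancel_left]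
      rw [e1, e2, ← hza]
      exact c.hZc _ (Z.pow_mem hz₁Z (a * a)) _
    · rw [inv_inv, commutatorElement_def]; group
  refine ⟨hn4, ?_⟩
  by_cases hsq : IsSquare ((s' : ℕ) : ZMod p)
  · obtain ⟨β, hβ⟩ := hsq
    have hβ0 : β ≠ 0 := by
      rintro rfl
      apply hs'p
      rw [mul_zero] at hβ
      exact (ZMod.natCast_eq_zero_iff s' p).mp hβ
    obtain ⟨a, hadef⟩ : ∃ a : ℕ, a = (β⁻¹).val := ⟨_, rfl⟩
    have hacast : ((a : ℕ) : ZMod p) = β⁻¹ := by rw [hadef, ZMod.natCast_zmod_val]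
    have hpa : ¬ p ∣ a := by
      intro h
      have h0 : ((a : ℕ) : ZMod p) = 0 := (ZMod.natCast_eq_zero_iff a p).mpr h
      rw [hacast] at h0
      exact hβ0 (inv_eq_zero.mp h0)
    have hmod : s' * (a * a) ≡ 1 [MOD p] := by
      rw [← ZMod.natCast_eq_natCast_iff]
      push_cast
      rw [hβ, hacast, mul_mul_mul_comm, mul_inv_cancel₀ hβ0, mul_one]
    apply key a 1 hpa ?_ (Or.inl rfl)
    rw [hs', ← pow_mul, one_mul, pow_eq_pow_iff_modEq, hk, ← hk']
    have h1 : p ^ (n - 2) = p * p ^ (n - 3) := by rw [← pow_succ']; congr 1; omega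
    have h2 : s' * (a * a) * p ^ (n - 3) ≡ 1 * p ^ (n - 3) [MOD p * p ^ (n - 3)] :=
      Nat.ModEq.mul_right' (p ^ (n - 3)) hmod
    have h3 : s' * p ^ (n - 3) * (a * a) = s' * (a * a) * p ^ (n - 3) := by ring
    rw [one_mul] at h2
    rw [h1, h3]
    exact h2
  · apply key 1 s' (by rw [Nat.dvd_one]; exact hpp.one_lt.ne') ?_ (Or.inr hsq)
    rw [mul_one, pow_one]
    exact hs'

/-- If `W` is not self-centralizing, it contains all elements of order dividing `p`. -/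
theorem omegaI {p : ℕ} [hp : Fact p.Prime] (hp2 : p ≠ 2) {R : Type u} [Group R] [Finite R]
    (hR : IsPGroup p R) {W Z : Subgroup R} (c : Ctx p W Z)
    (hWna : ∃ a ∈ W, ∃ b ∈ W, a * b ≠ b * a)
    (k₀ : R) (hk₀ : ∀ w ∈ W, w * k₀ = k₀ * w) (hk₀W : k₀ ∉ W) :
    ∀ t : R, t ^ p = 1 → t ∈ W := by
  have hpp := hp.out
  rcases coreI hp2 hR c hWna with ⟨-, hdec⟩ | ⟨x, r, hxW, hy, hry, hxy⟩
  · intro t ht
    obtain ⟨w, hw, k, hk, rfl⟩ := hdec t
    obtain ⟨a, ha, b, hb, hab⟩ := hWna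
    have haZ : a ∉ Z := fun h => hab (c.hZc a h b)
    have hkw : ∀ w' ∈ W, w' * k = k * w' := fun w' hw' => mem_centralizer_iff.mp hk w' hw'
    have hc : Commute w k := hkw w hw
    rw [hc.mul_pow, c.hWp w hw, one_mul] at ht
    exact W.mul_mem hw (c.hrk a ha haZ k ht (hkw a ha).symm)
  · obtain ⟨⟨hyW, hyZ, hz₁Z⟩, hgen, -, -, -, hCr, hrpC, hrW⟩ :=
      bfacts hp2 hR c x r hxW hy hry hxy
    obtain ⟨y, hydef⟩ : ∃ y : R, y = ⁅x, r⁆ := ⟨_, rfl⟩
    rw [← hydef] at hry hyW hyZ hgen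
    have hcry : Commute r y := hry
    have hWnormal : W.Normal := ⟨fun w hw g => c.hWn w hw g⟩
    have hρ : (r ^ p) ^ p ≠ 1 := by
      intro h
      apply hk₀W
      obtain ⟨m, hm⟩ := hCr k₀ hk₀
      rw [hm]
      apply W.pow_mem
      exact c.hrk y hyW hyZ _ h ((hcry.pow_left p).eq)
    intro t ht
    obtain ⟨i, a, b, rfl⟩ := hgen t
    obtain ⟨e, hedef⟩ : ∃ e : R, e = x ^ i * y ^ b := ⟨_, rfl⟩
    have heW : e ∈ W := by
      rw [hedef]; exact W.mul_mem (W.pow_mem hxW i) (W.pow_mem hyW b)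
    have hteq : x ^ i * (r ^ a * y ^ b) = e * r ^ a := by
      rw [hedef, ((hcry.pow_left a).pow_right b).eq, mul_assoc]
    rw [hteq] at ht ⊢
    have h1 : (r ^ a) ^ p ∈ W := by
      have h2 : QuotientGroup.mk' W ((e * r ^ a) ^ p) = 1 := by rw [ht, map_one]
      have he1 : QuotientGroup.mk' W e = 1 := (QuotientGroup.eq_one_iff e).mpr heW
      rw [map_pow, map_mul, he1, one_mul, ← map_pow] at h2
      exact (QuotientGroup.eq_one_iff _).mp h2
    have h3 : (r ^ a) ^ p = (r ^ p) ^ a := by rw [← pow_mul, ← pow_mul, mul_comm]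
    have hcen : ∀ (m : ℕ), ∀ w ∈ W, w * (r ^ p) ^ m = (r ^ p) ^ m * w := by
      intro m w hw
      have c1 : Commute w (r ^ p) := hrpC w hw
      exact (c1.pow_right m).eq
    have h4 : ((r ^ p) ^ a) ^ p = 1 := by
      apply c.hWp
      rw [← h3]; exact h1
    have hpa : p ∣ a := by
      obtain ⟨k', hk'⟩ := (IsPGroup.iff_orderOf.mp hR) (r ^ p)
      have hk2 : 2 ≤ k' := by
        by_contra hlt
        apply hρ
        have h5 : orderOf (r ^ p) ∣ p := by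
          rw [hk']
          have : k' ≤ 1 := by omega
          calc p ^ k' ∣ p ^ 1 := pow_dvd_pow p this
            _ = p := pow_one p
        exact orderOf_dvd_iff_pow_eq_one.mp h5
      have h6 : p ^ k' ∣ a * p := by
        rw [← hk']
        apply orderOf_dvd_of_pow_eq_one
        rw [pow_mul]; exact h4
      have h7 : p ^ 2 ∣ a * p := (pow_dvd_pow p hk2).trans h6
      rw [pow_two] at h7
      exact Nat.dvd_of_mul_dvd_mul_right hpp.pos h7
    obtain ⟨a', rfl⟩ := hpa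
    have h8 : r ^ (p * a') = (r ^ p) ^ a' := pow_mul r p a'
    rw [h8] at ht ⊢
    have hc : Commute e ((r ^ p) ^ a') := hcen a' e heW
    rw [hc.mul_pow, c.hWp e heW, one_mul] at ht
    exact W.mul_mem heW (c.hrk y hyW hyZ _ ht (hcen a' y hyW).symm)

/-- **Structure theorem.** A `p`-group of rank at most two (`p` odd) with a normal subgroup of
order `p³` and exponent `p` belongs to one of the two explicit families. -/
theorem structI {p : ℕ} [hp : Fact p.Prime] (hp2 : p ≠ 2) {R : Type u} [Group R] [Finite R]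
    (n : ℕ) (hRc : Nat.card R = p ^ n) (hrk : Cfsg.PRankLE p 2 R) (W : Subgroup R) [W.Normal]
    (hWc : Nat.card W = p ^ 3) (hWp : ∀ w ∈ W, w ^ p = 1) :
    (3 ≤ n ∧ ∃ x y z : R, closure ({x, y, z} : Set R) = ⊤ ∧ x ^ p = 1 ∧ y ^ p = 1 ∧
        z ^ p ^ (n - 2) = 1 ∧ x * z = z * x ∧ y * z = z * y ∧
        x⁻¹ * y * x = y * z ^ p ^ (n - 3)) ∨
    (4 ≤ n ∧ ∃ (s : ℕ) (x y z : R), (s = 1 ∨ ¬ IsSquare (s : ZMod p)) ∧
        closure ({x, y, z} : Set R) = ⊤ ∧ x ^ p = 1 ∧ y ^ p = 1 ∧ z ^ p ^ (n - 2) = 1 ∧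
        y * z = z * y ∧ x⁻¹ * y * x = y * z ^ (s * p ^ (n - 3)) ∧ x⁻¹ * z * x = y * z) := by
  have hR : IsPGroup p R := IsPGroup.of_card hRc
  obtain ⟨Z, c, hWna⟩ := ctx_of hR hrk W hWc hWp
  rcases coreI hp2 hR c hWna with ⟨hcyc, hdec⟩ | ⟨x, r, hxW, hy, hry, hxy⟩
  · left
    obtain ⟨a, ha, b, hb, hab⟩ := hWna
    exact famA n hRc c a b ha hb hab hcyc hdec
  · right
    exact famB hp2 n hRc c x r hxW hy hry hxy

/-- A normal subgroup of order `p³` and exponent `p` which is not self-centralizing contains all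
elements of order dividing `p`. -/
theorem omega_of {p : ℕ} [hp : Fact p.Prime] (hp2 : p ≠ 2) {R : Type u} [Group R] [Finite R]
    (hR : IsPGroup p R) (hrk : Cfsg.PRankLE p 2 R) (W : Subgroup R) [W.Normal]
    (hWc : Nat.card W = p ^ 3) (hWp : ∀ w ∈ W, w ^ p = 1)
    (k₀ : R) (hk₀ : ∀ w ∈ W, w * k₀ = k₀ * w) (hk₀W : k₀ ∉ W) :
    ∀ t : R, t ^ p = 1 → t ∈ W := by
  obtain ⟨Z, c, hWna⟩ := ctx_of hR hrk W hWc hWp
  exact omegaI hp2 hR c hWna k₀ hk₀ hk₀W

end Cfsg.Agent.Lib.Helper70.Blackburn4
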