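import Mathlib
import Cfsg.Agent.S0639

set_option autoImplicit false

/-!
# Huppert's criterion

A finite `p`-group (`p` odd) in which the subgroup generated by the `p`-th powers has index at
most `p²` is metacyclic.
-/

namespace Cfsg.Agent.Lib.Helper70.Huppert

open Subgroup
open scoped commutatorElement
open Cfsg.Agent.Lib.Helper70.OmegaSmall

universe u

/-- The hypothesis of Huppert's criterion passes to quotients. -/
theorem hup_quot {p : ℕ} {R : Type u} [Group R] [Finite R] (T : Subgroup R) [T.Normal]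
    (h : Nat.card R ≤ p ^ 2 * Nat.card (Cfsg.powerClosure p 1 (⊤ : Subgroup R))) :
    Nat.card (R ⧸ T) ≤ p ^ 2 * Nat.card (Cfsg.powerClosure p 1 (⊤ : Subgroup (R ⧸ T))) := by
  obtain ⟨V, hV⟩ : ∃ V : Subgroup R, V = Cfsg.powerClosure p 1 (⊤ : Subgroup R) := ⟨_, rfl⟩
  rw [← hV] at h
  have hle : V.map (QuotientGroup.mk' T) ≤ Cfsg.powerClosure p 1 (⊤ : Subgroup (R ⧸ T)) := by
    rw [hV]
    unfold Cfsg.powerClosure
    rw [MonoidHom.map_closure, closure_le]
    rintro _ ⟨y, ⟨x, -, rfl⟩, rfl⟩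
    exact subset_closure ⟨QuotientGroup.mk' T x, mem_top _, by rw [map_pow]⟩
  have h1 : Nat.card ((V ⊔ T).map (QuotientGroup.mk' T)) * Nat.card T = Nat.card (V ⊔ T : Subgroup R) :=
    card_map_mk_mul T (V ⊔ T) le_sup_right
  have h2 : (V ⊔ T).map (QuotientGroup.mk' T) = V.map (QuotientGroup.mk' T) := by
    rw [Subgroup.map_sup, QuotientGroup.map_mk'_self, sup_bot_eq]
  rw [h2] at h1
  have h3 : Nat.card V ≤ Nat.card (V ⊔ T : Subgroup R) := Subgroup.card_le_of_le le_sup_left
  have h4 : Nat.card (V.map (QuotientGroup.mk' T)) ≤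
      Nat.card (Cfsg.powerClosure p 1 (⊤ : Subgroup (R ⧸ T))) := Subgroup.card_le_of_le hle
  have h5 : Nat.card R = Nat.card (R ⧸ T) * Nat.card T :=
    Subgroup.card_eq_card_quotient_mul_card_subgroup T
  have hT : 0 < Nat.card T := Nat.card_pos
  have h6 : Nat.card (R ⧸ T) * Nat.card T ≤
      p ^ 2 * Nat.card (Cfsg.powerClosure p 1 (⊤ : Subgroup (R ⧸ T))) * Nat.card T := by
    calc Nat.card (R ⧸ T) * Nat.card T = Nat.card R := h5.symm
      _ ≤ p ^ 2 * Nat.card V := h
      _ ≤ p ^ 2 * Nat.card (V ⊔ T : Subgroup R) := Nat.mul_le_mul_left _ h3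
      _ = p ^ 2 * (Nat.card (V.map (QuotientGroup.mk' T)) * Nat.card T) := by rw [h1]
      _ ≤ p ^ 2 * (Nat.card (Cfsg.powerClosure p 1 (⊤ : Subgroup (R ⧸ T))) * Nat.card T) :=
          Nat.mul_le_mul_left _ (Nat.mul_le_mul_right _ h4)
      _ = _ := by ring
  exact Nat.le_of_mul_le_mul_right h6 hT

/-- The main induction for Huppert's criterion. -/
theorem huppert_aux {p : ℕ} [hp : Fact p.Prime] (hp2 : p ≠ 2) :
    ∀ (n : ℕ) (R : Type u) [Group R] [Finite R], Nat.card R ≤ n → IsPGroup p R →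
      Nat.card R ≤ p ^ 2 * Nat.card (Cfsg.powerClosure p 1 (⊤ : Subgroup R)) →
      Cfsg.IsMetacyclic R := by
  intro n
  induction n with
  | zero =>
    intro R _ _ hn
    exact absurd hn (by have := Nat.card_pos (α := R); omega)
  | succ n ih =>
    intro R _ _ hn hR hH
    have hp3 : 3 ≤ p := by
      have := hp.out.two_le
      omega
    have hcR : IsCyclic (commutator R) := by
      apply Cfsg.Agent.S0639.cyclic_commutator hR
      intro T _ hT
      have hlt := Cfsg.Agent.S0639.card_quot_lt T hT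
      exact ih (R ⧸ T) (by omega) (hR.to_quotient T) (hup_quot T hH)
    have hcyc : ∀ H : Subgroup R, IsCyclic (commutator H) := by
      intro H
      have h1 : (commutator H).map H.subtype ≤ commutator R := by
        rw [commutator_def, Subgroup.map_commutator, commutator_def]
        exact Subgroup.commutator_mono le_top le_top
      have h2 : IsCyclic ((commutator H).map H.subtype) := Subgroup.isCyclic_of_le h1
      have e := (commutator H).equivMapOfInjective H.subtype H.subtype_injective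
      exact isCyclic_of_surjective e.symm.toMonoidHom e.symm.surjective
    have hreg : Cfsg.IsRegularPGroup p R := by
      rw [Cfsg.Agent.S0643.result hR]
      intro a b
      obtain ⟨H, hH⟩ : ∃ H : Subgroup R, H = closure ({a, b} : Set R) := ⟨_, rfl⟩
      rw [← hH]
      have haH : a ∈ H := by rw [hH]; exact Subgroup.subset_closure (by simp)
      have hbH : b ∈ H := by rw [hH]; exact Subgroup.subset_closure (by simp)
      obtain ⟨c, hc, hceq⟩ := Cfsg.Agent.S0639.reg_of_cyclic hp3 (hR.to_subgroup H) (hcyc H)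
        ⟨a, haH⟩ ⟨b, hbH⟩
      refine ⟨c, ?_, ?_⟩
      · have h1 : (commutator H).map H.subtype = ⁅H, H⁆ := by
          rw [commutator_def, Subgroup.map_commutator, ← MonoidHom.range_eq_map,
            Subgroup.range_subtype]
        rw [← h1]
        exact mem_map_of_mem H.subtype hc
      · have h2 := congrArg Subtype.val hceq
        simpa using h2
    obtain ⟨A, hAdef⟩ : ∃ A : Subgroup R, A = Cfsg.powerClosure p 1 (⊤ : Subgroup R) := ⟨_, rfl⟩
    rw [← hAdef] at hH
    have hA : ∀ y : R, y ∈ A ↔ ∃ x : R, y = x ^ p := by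
      intro y
      have h1 := (Cfsg.Agent.S0644.result hreg (⊤ : Subgroup R) 1).1
      have h2 : y ∈ (A : Set R) ↔ y ∈ {y : R | ∃ x ∈ (⊤ : Subgroup R), y = x ^ (p ^ 1)} := by
        rw [h1, hAdef]
      rw [← SetLike.mem_coe, h2]
      constructor
      · rintro ⟨x, -, hx⟩; exact ⟨x, by rw [hx, pow_one]⟩
      · rintro ⟨x, hx⟩; exact ⟨x, mem_top x, by rw [hx, pow_one]⟩
    obtain ⟨Ω, hΩ⟩ : ∃ Ω : Subgroup R, ∀ x : R, x ∈ Ω ↔ x ^ p = 1 := by
      refine ⟨Cfsg.Agent.Lib.Helper70.Regular.omega hreg 1, fun x => ?_⟩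
      rw [Cfsg.Agent.Lib.Helper70.Regular.mem_omega, pow_one]
    have hsurj : Nat.card A ≤ Nat.card (R ⧸ Ω) := by
      let f : R ⧸ Ω → A := fun q => ⟨q.out ^ p, (hA _).mpr ⟨q.out, rfl⟩⟩
      apply Nat.card_le_card_of_surjective f
      rintro ⟨y, hy⟩
      obtain ⟨x, rfl⟩ := (hA y).mp hy
      refine ⟨QuotientGroup.mk x, ?_⟩
      apply Subtype.ext
      show (QuotientGroup.mk x : R ⧸ Ω).out ^ p = x ^ p
      obtain ⟨h, hh, hout⟩ : ∃ h ∈ Ω, (QuotientGroup.mk x : R ⧸ Ω).out = x * h := by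
        have := QuotientGroup.mk_out_eq_mul Ω x
        obtain ⟨h, hh⟩ := this
        exact ⟨h, h.2, hh⟩
      have h3 : ((x * h) * x⁻¹) ^ p ^ 1 = 1 := by
        rw [pow_one, conj_pow, (hΩ h).mp hh, mul_one, mul_inv_cancel]
      have h4 := (Cfsg.Agent.Lib.Helper70.Regular.pow_eq_iff hreg (x * h) x 1).mpr h3
      rw [hout]
      simpa using h4
    have hΩcard : Nat.card Ω ≤ p ^ 2 := by
      have h1 : Nat.card R = Nat.card (R ⧸ Ω) * Nat.card Ω :=
        Subgroup.card_eq_card_quotient_mul_card_subgroup Ω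
      have hApos : 0 < Nat.card A := Nat.card_pos
      have h2 : Nat.card A * Nat.card Ω ≤ Nat.card A * p ^ 2 := by
        calc Nat.card A * Nat.card Ω ≤ Nat.card (R ⧸ Ω) * Nat.card Ω :=
              Nat.mul_le_mul_right _ hsurj
          _ = Nat.card R := h1.symm
          _ ≤ p ^ 2 * Nat.card A := hH
          _ = Nat.card A * p ^ 2 := mul_comm _ _
      exact Nat.le_of_mul_le_mul_left h2 hApos
    have hO : Nat.card (Cfsg.omegaOne p (⊤ : Subgroup R)) ≤ p ^ 2 := by
      have hle : Cfsg.omegaOne p (⊤ : Subgroup R) ≤ Ω := by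
        unfold Cfsg.omegaOne
        rw [closure_le]
        rintro x ⟨-, hx⟩
        exact (hΩ x).mpr hx
      exact (Subgroup.card_le_of_le hle).trans hΩcard
    exact Cfsg.Agent.S0639.partA hR hreg hO hcR

/-- **Huppert's criterion**: a finite `p`-group (`p` odd) whose `p`-th powers generate a subgroup
of index at most `p²` is metacyclic. -/
theorem huppert {p : ℕ} [hp : Fact p.Prime] (hp2 : p ≠ 2) {R : Type u} [Group R] [Finite R]
    (hR : IsPGroup p R)
    (hH : Nat.card R ≤ p ^ 2 * Nat.card (Cfsg.powerClosure p 1 (⊤ : Subgroup R))) :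
    Cfsg.IsMetacyclic R :=
  huppert_aux hp2 (Nat.card R) R le_rfl hR hH

end Cfsg.Agent.Lib.Helper70.Huppert
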