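import Mathlib
import Cfsg.Agent.Lib.Helper70.Blackburn
import Cfsg.Agent.Lib.Helper31.CoprimeGen

set_option autoImplicit false

/-!
# `p`-central groups

If every element of order dividing `p` of a finite `p`-group (`p` odd) is central, then
`x ^ p = y ^ p` implies `(x⁻¹ * y) ^ p = 1`.
-/

namespace Cfsg.Agent.Lib.Helper70.PCentral

open Subgroup
open scoped commutatorElement
open Cfsg.Agent.Lib.Helper70.Blackburn

universe u

/-- The power formula for two elements whose commutator is central. -/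
theorem mul_pow_central {G : Type u} [Group G] (a b : G)
    (hc : ∀ g : G, ⁅a, b⁆ * g = g * ⁅a, b⁆) (n : ℕ) :
    (a * b) ^ n = a ^ n * b ^ n * (⁅a, b⁆⁻¹) ^ (n.choose 2) := by
  have hci : ∀ g : G, ⁅a, b⁆⁻¹ * g = g * ⁅a, b⁆⁻¹ := by
    intro g
    have h := hc g
    calc ⁅a, b⁆⁻¹ * g = ⁅a, b⁆⁻¹ * (g * ⁅a, b⁆) * ⁅a, b⁆⁻¹ := by group
      _ = ⁅a, b⁆⁻¹ * (⁅a, b⁆ * g) * ⁅a, b⁆⁻¹ := by rw [h]
      _ = g * ⁅a, b⁆⁻¹ := by group
  induction n with
  | zero => simp
  | succ n ih =>
    have h1 : b ^ n * a = a * b ^ n * (⁅a, b⁆⁻¹) ^ n := by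
      have h2 : ⁅a, b ^ n⁆ = ⁅a, b⁆ ^ n := comm_pow_right a b hc n
      have h3 : b ^ n * a = ⁅a, b ^ n⁆⁻¹ * (a * b ^ n) := by
        rw [commutatorElement_def]; group
      rw [h3, h2, ← inv_pow]
      exact ((Commute.pow_left (hci (a * b ^ n)) n)).eq
    have hcomm : ∀ (k : ℕ) (g : G), (⁅a, b⁆⁻¹) ^ k * g = g * (⁅a, b⁆⁻¹) ^ k :=
      fun k g => (Commute.pow_left (hci g) k).eq
    have hch : (n + 1).choose 2 = n + n.choose 2 := by
      rw [Nat.choose_succ_succ, Nat.choose_one_right]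
    calc (a * b) ^ (n + 1) = (a * b) ^ n * (a * b) := pow_succ _ _
      _ = a ^ n * b ^ n * (⁅a, b⁆⁻¹) ^ (n.choose 2) * (a * b) := by rw [ih]
      _ = a ^ n * (b ^ n * a) * b * (⁅a, b⁆⁻¹) ^ (n.choose 2) := by
          rw [mul_assoc (a ^ n * b ^ n), hcomm]; simp only [mul_assoc]
      _ = a ^ n * (a * b ^ n * (⁅a, b⁆⁻¹) ^ n) * b * (⁅a, b⁆⁻¹) ^ (n.choose 2) := by rw [h1]
      _ = a ^ n * a * (b ^ n * b) * ((⁅a, b⁆⁻¹) ^ n * (⁅a, b⁆⁻¹) ^ (n.choose 2)) := by
          have h4 := hcomm n b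
          simp only [mul_assoc]
          rw [← mul_assoc (⁅a, b⁆⁻¹ ^ n) b, h4]
          simp only [mul_assoc]
      _ = a ^ (n + 1) * b ^ (n + 1) * (⁅a, b⁆⁻¹) ^ ((n + 1).choose 2) := by
          rw [← pow_succ, ← pow_succ, ← pow_add, hch]

/-- The main induction for `p`-central groups. -/
theorem pcentral_aux {p : ℕ} [hp : Fact p.Prime] (hp2 : p ≠ 2) :
    ∀ (n : ℕ) (G : Type u) [Group G] [Finite G], Nat.card G ≤ n → IsPGroup p G →
      (∀ u : G, u ^ p = 1 → ∀ g : G, u * g = g * u) →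
      ∀ x y : G, x ^ p = y ^ p → (x⁻¹ * y) ^ p = 1 := by
  intro n
  induction n with
  | zero =>
    intro G _ _ hn
    exact absurd hn (by have := Nat.card_pos (α := G); omega)
  | succ n ih =>
    intro G _ _ hn hG hcen x y hxy
    have hsub : ∀ M : Subgroup G, M ≠ ⊤ → ∀ a ∈ M, ∀ b ∈ M, a ^ p = b ^ p →
        (a⁻¹ * b) ^ p = 1 := by
      intro M hM a ha b hb hab
      have hcard : Nat.card M ≤ n := by
        have h1 : Nat.card M < Nat.card G := by
          by_contra hcon
          exact hM (Subgroup.eq_top_of_le_card M (not_lt.1 hcon))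
        omega
      have h2 := ih M hcard (hG.to_subgroup M)
        (fun u hu g => Subtype.ext (hcen u (by simpa using congrArg Subtype.val hu) g))
        ⟨a, ha⟩ ⟨b, hb⟩ (Subtype.ext (by simpa using hab))
      have h3 := congrArg Subtype.val h2
      simpa using h3
    by_cases hK : closure ({x, y * x * y⁻¹} : Set G) = ⊤
    · have : Group.IsNilpotent G := hG.isNilpotent
      have hsup : zpowers x ⊔ commutator G = ⊤ := by
        rw [eq_top_iff, ← hK, closure_le]
        rintro _ (rfl | rfl)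
        · exact mem_sup_left (mem_zpowers _)
        · have h1 : y * x * y⁻¹ = ⁅y, x⁆ * x := by rw [commutatorElement_def]; group
          rw [h1]
          refine mul_mem (mem_sup_right ?_) (mem_sup_left (mem_zpowers x))
          rw [commutator_def]
          exact commutator_mem_commutator (mem_top _) (mem_top _)
      have htop := Cfsg.Agent.Lib.Helper31.CoprimeGen.eq_top_of_sup_commutator_eq_top _ hsup
      have hy : y ∈ zpowers x := htop ▸ mem_top y
      obtain ⟨k, rfl⟩ := mem_zpowers_iff.mp hy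
      have hc : Commute x⁻¹ (x ^ k) := ((Commute.refl x).zpow_right k).inv_left
      rw [hc.mul_pow, inv_pow, hxy, inv_mul_cancel]
    · have hx' : x ^ p = (y * x * y⁻¹) ^ p := by
        rw [conj_pow, hxy]; group
      have h1 := hsub _ hK x (subset_closure (by simp)) (y * x * y⁻¹) (subset_closure (by simp))
        hx'
      have e : x⁻¹ * (y * x * y⁻¹) = ⁅x⁻¹, y⁆ := by rw [commutatorElement_def]; group
      rw [e] at h1
      have hc := hcen _ h1
      have hform := mul_pow_central x⁻¹ y hc p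
      have hdvd : p ∣ p.choose 2 :=
        Nat.Prime.dvd_choose_self hp.out (by norm_num) (by have := hp.out.two_le; omega)
      obtain ⟨q, hq⟩ := hdvd
      rw [hform, inv_pow x, hxy, inv_mul_cancel, one_mul, inv_pow, hq, pow_mul, h1, one_pow,
        inv_one]

/-- In a finite `p`-group (`p` odd) all of whose elements of order dividing `p` are central,
`x ^ p = y ^ p` implies `(x⁻¹ * y) ^ p = 1`. -/
theorem pcentral {p : ℕ} [hp : Fact p.Prime] (hp2 : p ≠ 2) {G : Type u} [Group G] [Finite G]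
    (hG : IsPGroup p G) (hcen : ∀ u : G, u ^ p = 1 → ∀ g : G, u * g = g * u) (x y : G)
    (hxy : x ^ p = y ^ p) : (x⁻¹ * y) ^ p = 1 :=
  pcentral_aux hp2 (Nat.card G) G le_rfl hG hcen x y hxy

end Cfsg.Agent.Lib.Helper70.PCentral
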