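import Mathlib
import Cfsg.Agent.Lib.Helper70.PCentral
import Cfsg.Agent.Lib.Helper70.Huppert
import Cfsg.Agent.S0112

set_option autoImplicit false

/-!
# `p`-groups whose elements of order dividing `p` form a normal subgroup of order `p²`

Such a group (`p` odd) is metacyclic or of maximal class.
-/

namespace Cfsg.Agent.Lib.Helper70.BlackburnBeta

open Subgroup
open scoped commutatorElement
open Cfsg.Agent.Lib.Helper70.OmegaSmall
open Cfsg.Agent.Lib.Helper70.Blackburn

universe u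

theorem beta {p : ℕ} [hp : Fact p.Prime] (hp2 : p ≠ 2) {G : Type u} [Group G] [Finite G] (n : ℕ)
    (hG : Nat.card G = p ^ n) (N : Subgroup G) [hNn : N.Normal] (hNc : Nat.card N = p ^ 2)
    (hNab : ∀ a ∈ N, ∀ b ∈ N, a * b = b * a) (hNp : ∀ t ∈ N, t ^ p = 1)
    (hN : ∀ t : G, t ^ p = 1 → t ∈ N) :
    Cfsg.IsMetacyclic G ∨ Group.nilpotencyClass G = n - 1 := by
  have hpp := hp.out
  have hGp : IsPGroup p G := IsPGroup.of_card hG
  obtain ⟨V, hVdef⟩ : ∃ V : Subgroup G, V = Cfsg.powerClosure p 1 (⊤ : Subgroup G) := ⟨_, rfl⟩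
  by_cases hH : Nat.card G ≤ p ^ 2 * Nat.card V
  · left
    rw [hVdef] at hH
    exact Cfsg.Agent.Lib.Helper70.Huppert.huppert hp2 hGp hH
  right
  have hpowV : ∀ g : G, g ^ p ∈ V := by
    intro g
    rw [hVdef]
    exact subset_closure ⟨g, mem_top g, by rw [pow_one]⟩
  obtain ⟨C, hCmem⟩ : ∃ C : Subgroup G, ∀ g, g ∈ C ↔ ∀ u ∈ N, u * g = g * u :=
    ⟨centralizer (N : Set G), fun g => mem_centralizer_iff⟩
  have hNC : N ≤ C := fun a ha => (hCmem a).mpr (fun u hu => hNab u hu a ha)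
  have hL1 : ∀ a ∈ C, ∀ b ∈ C, a ^ p = b ^ p → a⁻¹ * b ∈ N := by
    intro a ha b hb hab
    apply hN
    have h := Cfsg.Agent.Lib.Helper70.PCentral.pcentral hp2 (hGp.to_subgroup C)
      (fun u hu g => by
        have hu' : (u : G) ∈ N := hN _ (by simpa using congrArg Subtype.val hu)
        exact Subtype.ext ((hCmem g).mp g.2 _ hu'))
      ⟨a, ha⟩ ⟨b, hb⟩ (Subtype.ext (by simpa using hab))
    simpa using congrArg Subtype.val h
  obtain ⟨f, hf⟩ : ∃ f : C ⧸ N.subgroupOf C → V,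
      ∀ q, ((f q : V) : G) = ((q.out : C) : G) ^ p :=
    ⟨fun q => ⟨((q.out : C) : G) ^ p, hpowV _⟩, fun q => rfl⟩
  have hfinj : Function.Injective f := by
    intro q q' h
    have h1 : ((q.out : C) : G) ^ p = ((q'.out : C) : G) ^ p := by
      rw [← hf, ← hf, h]
    rw [← QuotientGroup.out_eq' q, ← QuotientGroup.out_eq' q', QuotientGroup.eq]
    rw [mem_subgroupOf]
    simpa using hL1 _ q.out.2 _ q'.out.2 h1
  have hinj : Nat.card (C ⧸ N.subgroupOf C) ≤ Nat.card V :=
    Nat.card_le_card_of_injective f hfinj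
  have hCcard : Nat.card C = Nat.card (C ⧸ N.subgroupOf C) * p ^ 2 := by
    have h := Subgroup.card_eq_card_quotient_mul_card_subgroup (N.subgroupOf C)
    rw [h]
    congr 1
    rw [← hNc]
    exact Nat.card_congr (Subgroup.subgroupOfEquivOfLe hNC).toEquiv
  have hCtop : C ≠ ⊤ := by
    intro h
    apply hH
    have h1 : Nat.card G = Nat.card C := by rw [h]; exact (Subgroup.card_top).symm
    rw [h1, hCcard, mul_comm]
    exact Nat.mul_le_mul_left _ hinj
  have hNne : N ≠ ⊥ := by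
    intro h
    rw [h, Subgroup.card_bot] at hNc
    have : 1 < p ^ 2 := Nat.one_lt_pow (by norm_num) hpp.one_lt
    omega
  obtain ⟨z₀, hz₀N, hz₀c, hz₀o⟩ := exists_central_of_normal hGp N hNne
  obtain ⟨Z₀, hZ₀def⟩ : ∃ Z₀ : Subgroup G, Z₀ = zpowers z₀ := ⟨_, rfl⟩
  have hZ₀card : Nat.card Z₀ = p := by rw [hZ₀def, Nat.card_zpowers, hz₀o]
  have hZ₀N : Z₀ ≤ N := by rw [hZ₀def, zpowers_le]; exact hz₀N
  have hZ₀c : ∀ z ∈ Z₀, ∀ g : G, z * g = g * z := by
    intro z hz g
    rw [hZ₀def] at hz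
    obtain ⟨k, rfl⟩ := mem_zpowers_iff.mp hz
    have c : Commute z₀ g := (mem_center_iff.mp hz₀c g).symm
    exact (c.zpow_left k).eq
  have hZ₀p : ∀ z ∈ Z₀, z ^ p = 1 := fun z hz => hNp z (hZ₀N hz)
  have hZ₀n : Z₀.Normal := ⟨fun z hz g => by
    rw [← hZ₀c z hz g, mul_inv_cancel_right]; exact hz⟩
  have hcomm : ∀ u ∈ N, ∀ g : G, ⁅g, u⁆ ∈ Z₀ := by
    have hT : (N.map (QuotientGroup.mk' Z₀)).Normal :=
      Subgroup.Normal.map hNn _ (QuotientGroup.mk'_surjective Z₀)
    have hTcard : Nat.card (N.map (QuotientGroup.mk' Z₀)) = p := by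
      have h1 := card_map_mk_mul Z₀ N hZ₀N
      rw [hZ₀card, hNc, pow_two] at h1
      exact Nat.eq_of_mul_eq_mul_right hpp.pos h1
    have hTne : N.map (QuotientGroup.mk' Z₀) ≠ ⊥ := by
      intro h
      rw [h, Subgroup.card_bot] at hTcard
      exact hpp.one_lt.ne hTcard
    obtain ⟨t, htT, htc, hto⟩ := exists_central_of_normal (hGp.to_quotient Z₀) _ hTne
    have ht1 : t ≠ 1 := by
      intro h
      rw [h, orderOf_one] at hto
      exact hpp.one_lt.ne hto
    have hle := Cfsg.Agent.S0637.le_of_mem_of_card _ _ hTcard t htT htc ht1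
    intro u hu g
    rw [← QuotientGroup.eq_one_iff]
    have h1 : ((⁅g, u⁆ : G) : G ⧸ Z₀)
        = ⁅(QuotientGroup.mk' Z₀ g), (QuotientGroup.mk' Z₀ u)⁆ := rfl
    rw [h1]
    exact commutatorElement_eq_one_iff_commute.mpr
      (mem_center_iff.mp (hle (mem_map_of_mem _ hu)) _)
  obtain ⟨g₀, hg₀⟩ : ∃ g₀ : G, g₀ ∉ C := by
    by_contra hcon
    push Not at hcon
    exact hCtop (eq_top_iff.mpr (fun g _ => hcon g))
  obtain ⟨u₁, hu₁N, hu₁g⟩ : ∃ u₁ ∈ N, u₁ * g₀ ≠ g₀ * u₁ := by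
    by_contra hcon
    push Not at hcon
    exact hg₀ ((hCmem g₀).mpr hcon)
  obtain ⟨χ, hχ⟩ := commHom Z₀ hZ₀c u₁ (hcomm u₁ hu₁N)
  have hu₁Z : u₁ ∉ Z₀ := fun h => hu₁g (hZ₀c u₁ h g₀)
  have hker : ∀ g, χ g = 1 ↔ g ∈ C := by
    intro g
    rw [hχ, commutatorElement_eq_one_iff_commute]
    constructor
    · intro hc
      have hlt : Z₀ < N ⊓ centralizer ({g} : Set G) := by
        refine lt_of_le_of_ne (le_inf hZ₀N ?_) ?_
        · intro z hz
          rw [mem_centralizer_iff]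
          intro h hh
          rw [Set.mem_singleton_iff] at hh
          rw [hh]
          exact (hZ₀c z hz g).symm
        · intro h
          apply hu₁Z
          rw [h]
          refine Subgroup.mem_inf.mpr ⟨hu₁N, ?_⟩
          rw [mem_centralizer_iff]
          intro h hh
          rw [Set.mem_singleton_iff] at hh
          rw [hh]
          exact hc.eq
      have h1 := Cfsg.Agent.S0128.mul_card_le_of_lt hGp hlt
      rw [hZ₀card] at h1
      have h2 : N ⊓ centralizer ({g} : Set G) = N := by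
        apply Subgroup.eq_of_le_of_card_ge inf_le_left
        rw [hNc, pow_two]
        exact h1
      rw [hCmem]
      intro u hu
      have h3 : u ∈ N ⊓ centralizer ({g} : Set G) := h2.symm ▸ hu
      exact (mem_centralizer_iff.mp h3.2 g rfl).symm
    · intro hg
      exact ((hCmem g).mp hg u₁ hu₁N).symm
  have hχker : χ.ker = C := by
    ext g
    rw [MonoidHom.mem_ker, hker]
  have hpowC : ∀ g : G, g ^ p ∈ C := by
    intro g
    rw [← hker, map_pow]
    have h1 : χ g ∈ Z₀ := by rw [hχ]; exact hcomm u₁ hu₁N g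
    exact hZ₀p _ h1
  have hidx : Nat.card G ≤ p * Nat.card C := by
    have h1 : χ.ker.index = Nat.card χ.range := Subgroup.index_ker χ
    have h2 : χ.range ≤ Z₀ := by
      rintro _ ⟨g, rfl⟩
      rw [hχ]
      exact hcomm u₁ hu₁N g
    have h3 : Nat.card χ.range ≤ p := hZ₀card ▸ Subgroup.card_le_of_le h2
    have h5 : Nat.card χ.ker * χ.ker.index = Nat.card G := Subgroup.card_mul_index _
    rw [h1, hχker] at h5
    rw [← h5, mul_comm]
    exact Nat.mul_le_mul_right _ h3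
  have hCn : C.Normal := by
    rw [← hχker]
    infer_instance
  have hVle : Nat.card V ≤ Nat.card (C ⧸ N.subgroupOf C) := by
    obtain ⟨a, ha⟩ := (IsPGroup.iff_card).mp (hGp.to_subgroup V)
    rw [ha, hG] at hH
    have hH' : p ^ (2 + a) < p ^ n := by
      rw [pow_add]
      exact not_le.mp hH
    have h1 : 2 + a < n := (Nat.pow_lt_pow_iff_right hpp.one_lt).mp hH'
    have h2 : p ^ (3 + a) ≤ p ^ n := Nat.pow_le_pow_right hpp.pos (by omega)
    have h3 : p ^ 3 * Nat.card V ≤ p ^ 3 * Nat.card (C ⧸ N.subgroupOf C) := by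
      calc p ^ 3 * Nat.card V = p ^ (3 + a) := by rw [ha, pow_add]
        _ ≤ p ^ n := h2
        _ = Nat.card G := hG.symm
        _ ≤ p * Nat.card C := hidx
        _ = p ^ 3 * Nat.card (C ⧸ N.subgroupOf C) := by rw [hCcard]; ring
    exact Nat.le_of_mul_le_mul_left h3 (pow_pos hpp.pos 3)
  have hfbij : Function.Bijective f := hfinj.bijective_of_nat_card_le hVle
  obtain ⟨q, hq⟩ := hfbij.2 ⟨g₀ ^ p, hpowV g₀⟩
  obtain ⟨c, hcC, hcp⟩ : ∃ c ∈ C, c ^ p = g₀ ^ p :=
    ⟨(q.out : C), q.out.2, by rw [← hf, hq]⟩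
  have hconj : g₀ * c * g₀⁻¹ ∈ C := hCn.conj_mem c hcC g₀
  have hcomm2 : ⁅c⁻¹, g₀⁆ ∈ N := by
    have h1 := hL1 c hcC _ hconj (by rw [conj_pow, hcp]; group)
    have e : ⁅c⁻¹, g₀⁆ = c⁻¹ * (g₀ * c * g₀⁻¹) := by rw [commutatorElement_def]; group
    rw [e]
    exact h1
  obtain ⟨t, htdef⟩ : ∃ t : G, t = g₀⁻¹ * c := ⟨_, rfl⟩
  have htC : t ∉ C := by
    intro h
    apply hg₀
    have : g₀ = c * t⁻¹ := by rw [htdef]; group
    rw [this]
    exact C.mul_mem hcC (C.inv_mem h)
  have htN : t ^ p ∈ N := by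
    have hc1 : Commute (QuotientGroup.mk' N c⁻¹) (QuotientGroup.mk' N g₀) :=
      Cfsg.Agent.Lib.Helper70.OmegaClass.mk_comm_of_mem N hcomm2
    rw [map_inv] at hc1
    have hc2 : Commute (QuotientGroup.mk' N g₀)⁻¹ (QuotientGroup.mk' N c) :=
      (Commute.inv_left_iff.mp hc1).symm.inv_left
    have h3 : QuotientGroup.mk' N (t ^ p) = 1 := by
      rw [map_pow, htdef, map_mul, map_inv, hc2.mul_pow, inv_pow, ← map_pow, ← map_pow, hcp,
        inv_mul_cancel]
    exact (QuotientGroup.eq_one_iff _).mp h3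
  have htp1 : t ^ p ≠ 1 := fun h => htC (hNC (hN t h))
  have htpp : t ^ p ^ (1 + 1) = 1 := by
    rw [pow_succ, pow_one, pow_mul]
    exact hNp _ htN
  have hto : orderOf t = p ^ 2 := orderOf_eq_prime_pow (by rwa [pow_one]) htpp
  obtain ⟨A, hAmem⟩ : ∃ A : Subgroup G, ∀ g, g ∈ A ↔ g * t = t * g := by
    refine ⟨centralizer {t}, fun g => ?_⟩
    rw [mem_centralizer_iff]
    constructor
    · intro h
      exact (h t rfl).symm
    · intro h x hx
      rw [Set.mem_singleton_iff] at hx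
      rw [hx]
      exact h.symm
  have htA : t ∈ A := (hAmem t).mpr rfl
  have hAcyc : IsCyclic A := by
    obtain ⟨u, huN, hut⟩ : ∃ u ∈ N, u * t ≠ t * u := by
      by_contra hcon
      push Not at hcon
      exact htC ((hCmem t).mpr hcon)
    have hlt : N ⊓ A < N := by
      refine lt_of_le_of_ne inf_le_left ?_
      intro h
      have h1 : u ∈ N ⊓ A := h.symm ▸ huN
      exact hut ((hAmem u).mp h1.2)
    have h1 := Cfsg.Agent.S0128.mul_card_le_of_lt hGp hlt
    rw [hNc, pow_two] at h1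
    have h2 : Nat.card (N ⊓ A : Subgroup G) ≤ p := Nat.le_of_mul_le_mul_left h1 hpp.pos
    apply cyclic_of_few hp2 (hGp.to_subgroup A) A.subtype A.subtype_injective (N ⊓ A) h2
    intro k hk
    have hk' : (k : G) ^ p = 1 := by simpa using congrArg Subtype.val hk
    exact ⟨hN _ hk', k.2⟩
  have hAeq : A = zpowers t := by
    apply le_antisymm
    · obtain ⟨a, ha⟩ := hAcyc.exists_generator
      obtain ⟨j, hj⟩ := (mem_powers_iff_mem_zpowers).mpr (ha ⟨t, htA⟩)
      have hj' : (a : G) ^ j = t := by simpa using congrArg Subtype.val hj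
      have hpj : ¬ p ∣ j := by
        rintro ⟨m, rfl⟩
        apply htC
        rw [← hj', mul_comm, pow_mul]
        exact hpowC _
      obtain ⟨s, hs⟩ := (IsPGroup.iff_orderOf.mp hGp) (a : G)
      obtain ⟨m, hm⟩ : ∃ m : ℕ, ((a : G) ^ j) ^ m = (a : G) := by
        apply exists_pow_eq_self_of_coprime
        rw [hs]
        exact Nat.Coprime.pow_right s ((Nat.Prime.coprime_iff_not_dvd hpp).mpr hpj).symm
      intro g hg
      obtain ⟨i, hi⟩ := mem_zpowers_iff.mp (ha ⟨g, hg⟩)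
      have hi' : (a : G) ^ i = g := by simpa using congrArg Subtype.val hi
      rw [← hi', ← hm, hj']
      exact zpow_mem (pow_mem (mem_zpowers t) m) i
    · rw [zpowers_le]
      exact htA
  have hcardA : Nat.card (zpowers t) = p ^ 2 := by rw [Nat.card_zpowers, hto]
  have hcen : centralizer ((zpowers t : Subgroup G) : Set G) = zpowers t := by
    ext g
    rw [mem_centralizer_iff]
    constructor
    · intro h
      rw [← hAeq, hAmem]
      exact (h t (mem_zpowers t)).symm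
    · intro hg h hh
      have hgA : g ∈ A := hAeq.symm ▸ hg
      obtain ⟨k, rfl⟩ := mem_zpowers_iff.mp hh
      have c : Commute g t := (hAmem g).mp hgA
      exact (c.zpow_right k).symm.eq
  exact Cfsg.Agent.S0112.result n hG (zpowers t) hcardA hcen

end Cfsg.Agent.Lib.Helper70.BlackburnBeta
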