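import Mathlib
import Cfsg.Agent.Lib.Helper70.Blackburn4
import Cfsg.Agent.Lib.Helper70.BlackburnBeta
import Cfsg.Agent.S3888

set_option autoImplicit false

/-!
# Generator rank of odd `p`-groups of rank at most two

A refined form of Blackburn's classification, and the consequence: if such a group `Q` has an
elementary abelian quotient `Q / Q₀` of order at least `p³`, then the elements of order dividing
`p` form a subgroup `W` with `Q₀ < W Q₀ < Q`.
-/

namespace Cfsg.Agent.Lib.Helper70.Blackburn5

open Subgroup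
open scoped commutatorElement
open Cfsg.Agent.Lib.Helper70.OmegaSmall
open Cfsg.Agent.Lib.Helper70.Blackburn
open Cfsg.Agent.Lib.Helper70.Blackburn3

universe u

/-- In a `p`-group of order `pⁿ` and class `n - 1`, the commutator subgroup has index at most
`p²`. -/
theorem maxclass_index {Q : Type u} [Group Q] [Finite Q] {p : ℕ} [hp : Fact p.Prime] (n : ℕ)
    (hQ : Nat.card Q = p ^ n) (hn : 2 ≤ n) (hcl : Group.nilpotencyClass Q = n - 1) :
    (commutator Q).index ≤ p ^ 2 := by
  have hpp := hp.out
  have hQp : IsPGroup p Q := IsPGroup.of_card hQ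
  have : Group.IsNilpotent Q := hQp.isNilpotent
  obtain ⟨L, hLdef⟩ : ∃ L : ℕ → Subgroup Q, L = (⊤ : Subgroup Q).lowerCentralSeries := ⟨_, rfl⟩
  have hLsucc : ∀ i, L (i + 1) = ⁅L i, (⊤ : Subgroup Q)⁆ := by
    intro i; rw [hLdef]; rfl
  have hLbot : ∀ i, L i = ⊥ ↔ n - 1 ≤ i := by
    intro i
    rw [hLdef, Subgroup.lowerCentralSeries_eq_bot_iff_nilpotencyClass_le, hcl]
  have hstab : ∀ i, L (i + 1) = L i → ∀ j, L (i + j) = L i := by
    intro i hi j
    induction j with
    | zero => rfl
    | succ j ih => rw [← add_assoc, hLsucc, ih, ← hLsucc, hi]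
  have hanti : ∀ i, L (i + 1) ≤ L i := by
    intro i
    rw [hLdef]
    exact Subgroup.lowerCentralSeries_antitone _ (Nat.le_succ i)
  have hlt : ∀ i, i < n - 1 → L (i + 1) < L i := by
    intro i hi
    refine lt_of_le_of_ne (hanti i) ?_
    intro h
    have h1 := hstab i h (n - 1 - i)
    have h2 : i + (n - 1 - i) = n - 1 := by omega
    rw [h2] at h1
    have h3 : L (n - 1) = ⊥ := (hLbot _).mpr le_rfl
    rw [h3] at h1
    have := (hLbot i).mp h1.symm
    omega
  have hcard : ∀ k, k ≤ n - 1 → p ^ k ≤ Nat.card (L (n - 1 - k)) := by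
    intro k
    induction k with
    | zero => intro _; rw [pow_zero]; exact Nat.card_pos
    | succ k ih =>
      intro hk
      have h1 := ih (by omega)
      have h2 := hlt (n - 1 - (k + 1)) (by omega)
      have h3 : n - 1 - (k + 1) + 1 = n - 1 - k := by omega
      rw [h3] at h2
      have h4 := Cfsg.Agent.S0128.mul_card_le_of_lt hQp h2
      calc p ^ (k + 1) = p * p ^ k := pow_succ' p k
        _ ≤ p * Nat.card (L (n - 1 - k)) := Nat.mul_le_mul_left _ h1
        _ ≤ _ := h4
  have h1 := hcard (n - 2) (by omega)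
  have h2 : n - 1 - (n - 2) = 1 := by omega
  rw [h2] at h1
  have h3 : L 1 = commutator Q := by rw [hLdef]; exact Subgroup.top_lowerCentralSeries_one
  rw [h3] at h1
  have h4 : Nat.card (commutator Q) * (commutator Q).index = Nat.card Q :=
    Subgroup.card_mul_index _
  rw [hQ] at h4
  have h5 : p ^ n = p ^ (n - 2) * p ^ 2 := by rw [← pow_add]; congr 1; omega
  have h6 : p ^ (n - 2) * (commutator Q).index ≤ p ^ (n - 2) * p ^ 2 := by
    rw [← h5, ← h4]
    exact Nat.mul_le_mul_right _ h1
  exact Nat.le_of_mul_le_mul_left h6 (pow_pos hpp.pos _)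

/-- If `Q / Q₀` has exponent `p` and is generated by the images of two elements whose powers
exhaust it, then it has order at most `p²`. -/
theorem two_gen_bound {Q : Type u} [Group Q] [Finite Q] {p : ℕ} [hp : Fact p.Prime]
    (Q₀ : Subgroup Q) [Q₀.Normal] (hpow : ∀ g : Q, g ^ p ∈ Q₀) (a b : Q)
    (h : ∀ g : Q, ∃ i j : ℤ, QuotientGroup.mk' Q₀ g =
      (QuotientGroup.mk' Q₀ a) ^ i * (QuotientGroup.mk' Q₀ b) ^ j) :
    Q₀.index ≤ p ^ 2 := by
  have hpp := hp.out
  have hap : (QuotientGroup.mk' Q₀ a) ^ p = 1 := by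
    rw [← map_pow]; exact (QuotientGroup.eq_one_iff _).mpr (hpow a)
  have hbp : (QuotientGroup.mk' Q₀ b) ^ p = 1 := by
    rw [← map_pow]; exact (QuotientGroup.eq_one_iff _).mpr (hpow b)
  let f : Fin p × Fin p → Q ⧸ Q₀ :=
    fun t => (QuotientGroup.mk' Q₀ a) ^ (t.1 : ℕ) * (QuotientGroup.mk' Q₀ b) ^ (t.2 : ℕ)
  have hsurj : Function.Surjective f := by
    intro v
    obtain ⟨g, rfl⟩ := QuotientGroup.mk'_surjective Q₀ v
    obtain ⟨i, j, hij⟩ := h g
    obtain ⟨i', hi'⟩ := zpow_to_pow hpp.pos _ hap i
    obtain ⟨j', hj'⟩ := zpow_to_pow hpp.pos _ hbp j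
    refine ⟨(⟨i' % p, Nat.mod_lt _ hpp.pos⟩, ⟨j' % p, Nat.mod_lt _ hpp.pos⟩), ?_⟩
    show (QuotientGroup.mk' Q₀ a) ^ (i' % p) * (QuotientGroup.mk' Q₀ b) ^ (j' % p) = _
    rw [hij, hi', hj', ← pow_eq_pow_mod i' hap, ← pow_eq_pow_mod j' hbp]
  have h1 := Nat.card_le_card_of_surjective f hsurj
  rw [Nat.card_prod, Nat.card_fin] at h1
  show Nat.card (Q ⧸ Q₀) ≤ p ^ 2
  rw [pow_two]
  exact h1

/-- **Refined classification.** An odd `p`-group of rank at most two is metacyclic, or of maximal
class, or its elements of order dividing `p` form a non-abelian normal subgroup of order `p³`. -/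
theorem refined {G : Type u} [Group G] [Finite G] {p : ℕ} [hp' : Fact p.Prime] (hp : p ≠ 2)
    (n : ℕ) (hG : Nat.card G = p ^ n) (hrk : Cfsg.PRankLE p 2 G) :
    Cfsg.IsMetacyclic G ∨ (2 ≤ n ∧ Group.nilpotencyClass G = n - 1) ∨
      (∃ W Z : Subgroup G, Ctx p W Z ∧ (∃ a ∈ W, ∃ b ∈ W, a * b ≠ b * a) ∧
        ∀ t : G, t ^ p = 1 → t ∈ W) := by
  classical
  have hpp : p.Prime := hp'.out
  have hGp : IsPGroup p G := IsPGroup.of_card hG
  have : Group.IsNilpotent G := hGp.isNilpotent
  by_cases h3 : 3 < p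
  · have hmul : ∀ g : G, g ∈ Subgroup.closure {x : G | x ^ p = 1} → g ^ p = 1 := fun g hg =>
      Cfsg.Agent.S0128.result h3 hGp (fun E hE => hrk E hE.1 hE.2) g hg
    obtain ⟨W, hWmem⟩ : ∃ W : Subgroup G, ∀ x : G, x ∈ W ↔ x ^ p = 1 :=
      ⟨Subgroup.closure {x : G | x ^ p = 1},
        fun x => ⟨hmul x, fun h => Subgroup.subset_closure h⟩⟩
    have hWle : Nat.card W ≤ p ^ 3 := by
      apply Cfsg.Agent.S3771.result (hGp.to_subgroup W)
        (Cfsg.Agent.S1335.pRankLE_of_injective p 2 W.subtype W.subtype_injective hrk)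
      intro x
      have := (hWmem x).mp x.2
      exact Subtype.ext (by simpa using this)
    by_cases hW2 : Nat.card W ≤ p ^ 2
    · left
      have hO : Nat.card (Cfsg.omegaOne p (⊤ : Subgroup G)) ≤ p ^ 2 := by
        have : Cfsg.omegaOne p (⊤ : Subgroup G) = W := by
          apply le_antisymm
          · unfold Cfsg.omegaOne
            rw [Subgroup.closure_le]
            rintro x ⟨-, hx⟩
            exact (hWmem x).mpr hx
          · intro x hx
            exact Subgroup.subset_closure ⟨Subgroup.mem_top x, (hWmem x).mp hx⟩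
        rw [this]; exact hW2
      exact Cfsg.Agent.S0639.result h3 hGp hO
    · have hWc : Nat.card W = p ^ 3 := by
        obtain ⟨k, hk⟩ := (IsPGroup.iff_card).mp (hGp.to_subgroup W)
        rw [hk] at hW2 hWle ⊢
        have hk3 : k ≤ 3 := (Nat.pow_le_pow_iff_right hpp.one_lt).mp hWle
        have hk2 : ¬ k ≤ 2 := fun h => hW2 (Nat.pow_le_pow_right hpp.pos h)
        have : k = 3 := by omega
        rw [this]
      have hWn : W.Normal := ⟨fun w hw g => by
        rw [hWmem, conj_pow, (hWmem w).mp hw, mul_one, mul_inv_cancel]⟩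
      obtain ⟨Z, c, hWna⟩ := ctx_of hGp hrk W hWc (fun w hw => (hWmem w).mp hw)
      exact Or.inr (Or.inr ⟨W, Z, c, hWna, fun t ht => (hWmem t).mpr ht⟩)
  · have hp3 : p = 3 := by
      have := hpp.two_le
      omega
    by_cases hE : ∃ E : Subgroup G, p ^ 3 ≤ Nat.card E ∧ ∀ x ∈ E, x ^ p = 1
    · obtain ⟨E, hEge, hEp⟩ := hE
      have hEc : Nat.card E = p ^ 3 := by
        refine le_antisymm ?_ hEge
        apply Cfsg.Agent.S3771.result (hGp.to_subgroup E)
          (Cfsg.Agent.S1335.pRankLE_of_injective p 2 E.subtype E.subtype_injective hrk)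
        intro x
        exact Subtype.ext (by simpa using hEp x x.2)
      have hn3 : 3 ≤ n := by
        have h1 : Nat.card E ≤ Nat.card G := Subgroup.card_le_card_group E
        rw [hEc, hG] at h1
        exact (Nat.pow_le_pow_iff_right hpp.one_lt).mp h1
      by_cases hcen : centralizer (E : Set G) ≤ E
      · right; left
        have hEna : ¬ IsMulCommutative E := by
          intro hcomm
          have h1 := hrk E hcomm hEp
          rw [hEc] at h1
          have h2 : p ^ 2 < p ^ 3 := Nat.pow_lt_pow_right hpp.one_lt (by norm_num)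
          omega
        exact ⟨by omega, Cfsg.Agent.S4143.result n hG E hEc hEna hcen⟩
      · obtain ⟨k₀, hk₀C, hk₀E⟩ := SetLike.not_le_iff_exists.mp hcen
        obtain ⟨H, hHdef⟩ : ∃ H : Subgroup G, H = normalizer (E : Set G) := ⟨_, rfl⟩
        have hEH : E ≤ H := by rw [hHdef]; exact le_normalizer
        have hΩ : ∀ t ∈ H, t ^ p = 1 → t ∈ E := by
          subst hHdef
          have : (E.subgroupOf (normalizer (E : Set G))).Normal :=
            Subgroup.normal_in_normalizer
          have hk₀H : k₀ ∈ normalizer (E : Set G) := centralizer_le_normalizer _ hk₀C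
          have hcard : Nat.card (E.subgroupOf (normalizer (E : Set G))) = p ^ 3 := by
            rw [← hEc]
            exact Nat.card_congr (Subgroup.subgroupOfEquivOfLe hEH).toEquiv
          have key := Cfsg.Agent.Lib.Helper70.Blackburn4.omega_of hp
            (hGp.to_subgroup (normalizer (E : Set G)))
            (Cfsg.Agent.S1335.pRankLE_of_injective p 2 (normalizer (E : Set G)).subtype
              (Subgroup.subtype_injective _) hrk)
            (E.subgroupOf (normalizer (E : Set G))) hcard
            (fun w hw => Subtype.ext (by simpa using hEp w (mem_subgroupOf.mp hw)))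
            ⟨k₀, hk₀H⟩
            (fun w hw => Subtype.ext (mem_centralizer_iff.mp hk₀C w (mem_subgroupOf.mp hw)))
            (fun h => hk₀E (mem_subgroupOf.mp h))
          intro t ht htp
          have := key ⟨t, ht⟩ (Subtype.ext (by simpa using htp))
          exact mem_subgroupOf.mp this
        have hNH : normalizer (H : Set G) = H := by
          refine le_antisymm ?_ le_normalizer
          intro g hg
          rw [hHdef]
          apply Cfsg.Agent.S0639.mem_normalizer_of_conj E g
          intro e he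
          have h1 : g * e * g⁻¹ ∈ H := (mem_normalizer_iff.mp hg e).mp (hEH he)
          exact hΩ _ h1 (by rw [conj_pow, hEp e he, mul_one, mul_inv_cancel])
        have hHtop : H = ⊤ :=
          normalizerCondition_iff_only_full_group_self_normalizing.mp
            Group.normalizerCondition_of_isNilpotent H hNH
        have hEn : E.Normal := by
          rw [← normalizer_eq_top_iff, ← hHdef]; exact hHtop
        obtain ⟨Z, c, hWna⟩ := ctx_of hGp hrk E hEc hEp
        refine Or.inr (Or.inr ⟨E, Z, c, hWna, fun t ht => hΩ t ?_ ht⟩)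
        rw [hHtop]; exact mem_top t
    · by_cases hcyc : IsCyclic G
      · left
        exact ⟨⊤, inferInstance, inferInstance,
          isCyclic_of_surjective (QuotientGroup.mk' ⊤) (QuotientGroup.mk'_surjective ⊤)⟩
      · obtain ⟨N, hNn, ⟨hNcomm, hNp⟩, hNc⟩ := Cfsg.Agent.S0126.result hp hGp hcyc
        have hNab : ∀ a ∈ N, ∀ b ∈ N, a * b = b * a := by
          intro a ha b hb
          have := hNcomm.is_comm.comm ⟨a, ha⟩ ⟨b, hb⟩
          exact congrArg Subtype.val this
        have hn2 : 2 ≤ n := by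
          have h1 : Nat.card N ≤ Nat.card G := Subgroup.card_le_card_group N
          rw [hNc, hG] at h1
          exact (Nat.pow_le_pow_iff_right hpp.one_lt).mp h1
        have hNall : ∀ t : G, t ^ p = 1 → t ∈ N := by
          intro t ht
          by_contra htN
          apply hE
          refine ⟨N ⊔ zpowers t, ?_, ?_⟩
          · have hlt : N < N ⊔ zpowers t := by
              refine lt_of_le_of_ne le_sup_left ?_
              intro h
              apply htN
              rw [h]
              exact mem_sup_right (mem_zpowers t)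
            have h1 := Cfsg.Agent.S0128.mul_card_le_of_lt hGp hlt
            rw [hNc] at h1
            calc p ^ 3 = p * p ^ 2 := by ring
              _ ≤ _ := h1
          · intro x hx
            have hx' : x ∈ ((N ⊔ zpowers t : Subgroup G) : Set G) := hx
            rw [Subgroup.normal_mul] at hx'
            obtain ⟨u, hu, v, hv, rfl⟩ := Set.mem_mul.mp hx'
            obtain ⟨k, rfl⟩ := mem_zpowers_iff.mp hv
            obtain ⟨hc, hcp⟩ := Cfsg.Agent.S3888.comm_central hGp N hNc hNp u hu (t ^ k)
            have hform := Cfsg.Agent.Lib.Helper70.PCentral.mul_pow_central u (t ^ k) hc p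
            have hdvd : p ∣ p.choose 2 :=
              Nat.Prime.dvd_choose_self hpp (by norm_num) (by have := hpp.two_le; omega)
            obtain ⟨q, hq⟩ := hdvd
            have htk : (t ^ k) ^ p = 1 := by
              rw [← zpow_natCast, ← zpow_mul, mul_comm, zpow_mul, zpow_natCast, ht, one_zpow]
            rw [hform, hNp u hu, htk, inv_pow, hq, pow_mul, hcp, one_pow, inv_one, mul_one,
              mul_one]
        rcases Cfsg.Agent.Lib.Helper70.BlackburnBeta.beta hp n hG N hNc hNab hNp hNall with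
          h | h
        · left; exact h
        · right; left
          exact ⟨hn2, h⟩

/-- **Generator rank.** If an odd `p`-group `Q` of rank at most two has an elementary abelian
quotient `Q / Q₀` of order at least `p³`, then the elements of order dividing `p` form a
subgroup `W` with `W ≰ Q₀` and `W Q₀ ≠ Q`. -/
theorem rankR {Q : Type u} [Group Q] [Finite Q] {p : ℕ} [hp' : Fact p.Prime] (hp : p ≠ 2)
    (hQ : IsPGroup p Q) (hrk : Cfsg.PRankLE p 2 Q) (Q₀ : Subgroup Q) [Q₀.Normal]
    (hpow : ∀ g : Q, g ^ p ∈ Q₀) (hcomm : ∀ a b : Q, ⁅a, b⁆ ∈ Q₀) (hidx : p ^ 3 ≤ Q₀.index) :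
    ∃ W : Subgroup Q, (∀ t : Q, t ∈ W ↔ t ^ p = 1) ∧ ¬ W ≤ Q₀ ∧ W ⊔ Q₀ ≠ ⊤ := by
  have hpp := hp'.out
  have hlt : p ^ 2 < p ^ 3 := Nat.pow_lt_pow_right hpp.one_lt (by norm_num)
  obtain ⟨n, hn⟩ := IsPGroup.iff_card.mp hQ
  have hmk1 : ∀ g : Q, g ∈ Q₀ → QuotientGroup.mk' Q₀ g = 1 :=
    fun g hg => (QuotientGroup.eq_one_iff g).mpr hg
  rcases refined hp n hn hrk with hmeta | ⟨hn2, hcl⟩ | ⟨W, Z, c, hWna, hall⟩
  · exfalso
    obtain ⟨a, b, hgen, -⟩ := Cfsg.Agent.S0639.metacyclic_gens hmeta
    have h1 := two_gen_bound Q₀ hpow b a (fun g => by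
      obtain ⟨j, i, hji⟩ := hgen g
      exact ⟨j, i, by rw [hji, map_mul, map_zpow, map_zpow]⟩)
    omega
  · exfalso
    have h1 := maxclass_index n hn hn2 hcl
    have hle : commutator Q ≤ Q₀ := by
      rw [commutator_def, Subgroup.commutator_le]
      intro a _ b _
      exact hcomm a b
    have h2 := Subgroup.index_dvd_of_le hle
    have h3 := Nat.le_of_dvd (Nat.pos_of_ne_zero (Subgroup.index_ne_zero_of_finite)) h2
    omega
  · rcases coreI hp hQ c hWna with ⟨hcyc, hdec⟩ | ⟨x, r, hxW, hy, hry, hxy⟩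
    · refine ⟨W, fun t => ⟨c.hWp t, hall t⟩, ?_, ?_⟩
      · intro hWQ
        obtain ⟨⟨c₀, hc₀C⟩, hc₀gen⟩ := hcyc.exists_generator
        have h1 := two_gen_bound Q₀ hpow c₀ 1 (fun g => by
          obtain ⟨w, hw, k, hk, rfl⟩ := hdec g
          obtain ⟨m, hm⟩ := mem_zpowers_iff.mp (hc₀gen ⟨k, hk⟩)
          have hm' : c₀ ^ m = k := by
            have := congrArg Subtype.val hm
            simpa using this
          refine ⟨m, 0, ?_⟩
          rw [map_mul, hmk1 w (hWQ hw), one_mul, ← hm', map_zpow, zpow_zero, mul_one])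
        omega
      · intro htop
        obtain ⟨a, ha, b, hb, hab⟩ := hWna
        have hgen := gen' hQ c a b ha hb hab
        have hZQ : Z ≤ Q₀ := by
          apply Cfsg.Agent.S0637.le_of_mem_of_card Z Q₀ c.hZcard ⁅a, b⁆ (c.hWW a ha b hb)
            (hcomm a b)
          intro h
          exact hab (commutatorElement_eq_one_iff_commute.mp h)
        have h1 := two_gen_bound Q₀ hpow a b (fun g => by
          have hg : g ∈ ((W ⊔ Q₀ : Subgroup Q) : Set Q) := by rw [htop]; trivial
          rw [Subgroup.mul_normal] at hg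
          obtain ⟨w, hw, q, hq, rfl⟩ := Set.mem_mul.mp hg
          obtain ⟨i, j, z, hz, rfl⟩ := hgen w hw
          refine ⟨i, j, ?_⟩
          rw [map_mul, map_mul, map_mul, hmk1 q hq, hmk1 z (hZQ hz), mul_one, mul_one, map_pow,
            map_pow, zpow_natCast, zpow_natCast])
        omega
    · exfalso
      obtain ⟨-, hgen, -⟩ := bfacts hp hQ c x r hxW hy hry hxy
      have h1 := two_gen_bound Q₀ hpow x r (fun g => by
        obtain ⟨i, a, b, rfl⟩ := hgen g
        refine ⟨i, a, ?_⟩
        rw [map_mul, map_mul, map_pow, map_pow, map_pow, hmk1 _ (hcomm x r), one_pow, mul_one,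
          zpow_natCast, zpow_natCast])
      omega

end Cfsg.Agent.Lib.Helper70.Blackburn5
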