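import Mathlib
import Cfsg.Agent.Lib.Helper32.D8Stmt

/-! S3716 piece INVCL: the involutions of `N` are `N`-conjugate to `a`, `w` or `a * b`. -/

set_option autoImplicit false
universe u

namespace Cfsg.Agent.Lib.Helper70.D8INVCL

open Cfsg Cfsg.Agent.Lib.Helper32.D8Stmt

theorem main (hNF : Cfsg.Agent.Lib.Helper32.D8Stmt.NF.{u}) :
    Cfsg.Agent.Lib.Helper32.D8Stmt.INVCL.{u} := by
  intro G _ _ T N x y a b w hC u huN hu2
  obtain ⟨-, hNF2, hNF3, hNF4, -, -, -⟩ := hNF hC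
  obtain ⟨i0, j0, k0, l0, m0, hu0⟩ := (hNF2 u).1 huN
  have hu : ∃ i j k l m : ℕ, k < 2 ∧ l < 2 ∧ m < 2 ∧ u = x ^ i * y ^ j * a ^ k * b ^ l * w ^ m :=
    ⟨i0, j0, k0 % 2, l0 % 2, m0 % 2, Nat.mod_lt _ (by norm_num), Nat.mod_lt _ (by norm_num),
      Nat.mod_lt _ (by norm_num), by
        rw [hu0, ← pow_eq_pow_mod k0 hC.a2, ← pow_eq_pow_mod l0 hC.b2, ← pow_eq_pow_mod m0 hC.w2]⟩
  obtain ⟨i, j, k, l, m, hk, hl, hm, hu⟩ := hu
  have hnfc : ∀ i j k l m i' j' k' l' m' : ℕ, i % 3 = i' % 3 → j % 3 = j' % 3 → k % 2 = k' % 2 →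
      l % 2 = l' % 2 → m % 2 = m' % 2 →
      x ^ i * y ^ j * a ^ k * b ^ l * w ^ m = x ^ i' * y ^ j' * a ^ k' * b ^ l' * w ^ m' := by
    intro i j k l m i' j' k' l' m' h1 h2 h3 h4 h5
    have e1 : x ^ i = x ^ i' := by rw [pow_eq_pow_mod i hC.x3, pow_eq_pow_mod i' hC.x3, h1]
    have e2 : y ^ j = y ^ j' := by rw [pow_eq_pow_mod j hC.y3, pow_eq_pow_mod j' hC.y3, h2]
    have e3 : a ^ k = a ^ k' := by rw [pow_eq_pow_mod k hC.a2, pow_eq_pow_mod k' hC.a2, h3]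
    have e4 : b ^ l = b ^ l' := by rw [pow_eq_pow_mod l hC.b2, pow_eq_pow_mod l' hC.b2, h4]
    have e5 : w ^ m = w ^ m' := by rw [pow_eq_pow_mod m hC.w2, pow_eq_pow_mod m' hC.w2, h5]
    rw [e1, e2, e3, e4, e5]
  have h1 : x ^ 0 * y ^ 0 * a ^ 0 * b ^ 0 * w ^ 0 = 1 := by simp
  have hca : x ^ 0 * y ^ 0 * a ^ 1 * b ^ 0 * w ^ 0 = a := by simp
  have hcw : x ^ 0 * y ^ 0 * a ^ 0 * b ^ 0 * w ^ 1 = w := by simp
  have hcab : x ^ 0 * y ^ 0 * a ^ 1 * b ^ 1 * w ^ 0 = a * b := by simp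
  have esq := hNF4 i j k l m i j k l m
  rw [← hu, ← pow_two, hu2] at esq
  interval_cases k <;> interval_cases l <;> interval_cases m
  · -- (0,0,0)
    simp only [Nat.reduceMod, one_ne_zero, ↓reduceIte] at esq
    have c := hNF3 0 0 0 0 0 _ _ _ _ _ (h1.trans esq)
    left
    rw [hu, ← h1]
    exact hnfc _ _ _ _ _ _ _ _ _ _ (by omega) (by omega) rfl rfl rfl
  · -- (0,0,1)
    simp only [Nat.reduceMod, one_ne_zero, ↓reduceIte] at esq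
    have c := hNF3 0 0 0 0 0 _ _ _ _ _ (h1.trans esq)
    have eL := hNF4 i j 0 0 1 i 0 0 0 0
    have eR := hNF4 i 0 0 0 0 0 0 0 0 1
    simp only [Nat.reduceMod, one_ne_zero, ↓reduceIte] at eL eR
    right; right; left
    refine ⟨x ^ i * y ^ 0 * a ^ 0 * b ^ 0 * w ^ 0, (hNF2 _).2 ⟨_, _, _, _, _, rfl⟩, ?_⟩
    rw [hcw] at eR
    rw [eq_mul_inv_iff_mul_eq, hu, eL, eR]
    exact hnfc _ _ _ _ _ _ _ _ _ _ (by omega) (by omega) (by omega) (by omega) (by omega)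
  · -- (0,1,0)
    simp only [Nat.reduceMod, one_ne_zero, ↓reduceIte] at esq
    have c := hNF3 0 0 0 0 0 _ _ _ _ _ (h1.trans esq)
    have eL := hNF4 i j 0 1 0 0 (2 * j) 0 0 1
    have eR := hNF4 0 (2 * j) 0 0 1 0 0 1 0 0
    simp only [Nat.reduceMod, one_ne_zero, ↓reduceIte] at eL eR
    right; left
    refine ⟨x ^ 0 * y ^ (2 * j) * a ^ 0 * b ^ 0 * w ^ 1, (hNF2 _).2 ⟨_, _, _, _, _, rfl⟩, ?_⟩
    rw [hca] at eR
    rw [eq_mul_inv_iff_mul_eq, hu, eL, eR]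
    exact hnfc _ _ _ _ _ _ _ _ _ _ (by omega) (by omega) (by omega) (by omega) (by omega)
  · -- (0,1,1)
    simp only [Nat.reduceMod, one_ne_zero, ↓reduceIte] at esq
    have c := hNF3 0 0 0 0 0 _ _ _ _ _ (h1.trans esq)
    omega
  · -- (1,0,0)
    simp only [Nat.reduceMod, one_ne_zero, ↓reduceIte] at esq
    have c := hNF3 0 0 0 0 0 _ _ _ _ _ (h1.trans esq)
    have eL := hNF4 i j 1 0 0 (2 * i) 0 0 0 0
    have eR := hNF4 (2 * i) 0 0 0 0 0 0 1 0 0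
    simp only [Nat.reduceMod, one_ne_zero, ↓reduceIte] at eL eR
    right; left
    refine ⟨x ^ (2 * i) * y ^ 0 * a ^ 0 * b ^ 0 * w ^ 0, (hNF2 _).2 ⟨_, _, _, _, _, rfl⟩, ?_⟩
    rw [hca] at eR
    rw [eq_mul_inv_iff_mul_eq, hu, eL, eR]
    exact hnfc _ _ _ _ _ _ _ _ _ _ (by omega) (by omega) (by omega) (by omega) (by omega)
  · -- (1,0,1)
    simp only [Nat.reduceMod, one_ne_zero, ↓reduceIte] at esq
    have c := hNF3 0 0 0 0 0 _ _ _ _ _ (h1.trans esq)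
    omega
  · -- (1,1,0)
    have eL := hNF4 i j 1 1 0 (2 * i) (2 * j) 0 0 0
    have eR := hNF4 (2 * i) (2 * j) 0 0 0 0 0 1 1 0
    simp only [Nat.reduceMod, one_ne_zero, ↓reduceIte] at eL eR
    right; right; right
    refine ⟨x ^ (2 * i) * y ^ (2 * j) * a ^ 0 * b ^ 0 * w ^ 0, (hNF2 _).2 ⟨_, _, _, _, _, rfl⟩, ?_⟩
    rw [hcab] at eR
    rw [eq_mul_inv_iff_mul_eq, hu, eL, eR]
    exact hnfc _ _ _ _ _ _ _ _ _ _ (by omega) (by omega) (by omega) (by omega) (by omega)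
  · -- (1,1,1)
    simp only [Nat.reduceMod, one_ne_zero, ↓reduceIte] at esq
    have c := hNF3 0 0 0 0 0 _ _ _ _ _ (h1.trans esq)
    have eL := hNF4 i j 1 1 1 i 0 1 0 0
    have eR := hNF4 i 0 1 0 0 0 0 0 0 1
    simp only [Nat.reduceMod, one_ne_zero, ↓reduceIte] at eL eR
    right; right; left
    refine ⟨x ^ i * y ^ 0 * a ^ 1 * b ^ 0 * w ^ 0, (hNF2 _).2 ⟨_, _, _, _, _, rfl⟩, ?_⟩
    rw [hcw] at eR
    rw [eq_mul_inv_iff_mul_eq, hu, eL, eR]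
    exact hnfc _ _ _ _ _ _ _ _ _ _ (by omega) (by omega) (by omega) (by omega) (by omega)

end Cfsg.Agent.Lib.Helper70.D8INVCL
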