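import Mathlib
import Cfsg.Agent.Lib.Helper26.J3Stmt
import Cfsg.Agent.Lib.Helper70.J3T2
import Cfsg.Agent.Lib.Helper4.MixTools

/-! S3366 piece KEX: `K = T ⟨d⟩` is a complement of `R` centralizing `t`. -/

set_option autoImplicit false
universe u

namespace Cfsg.Agent.Lib.Helper70.J3KEX

open Cfsg.Agent.Lib.Helper26.J3Stmt
open Cfsg.Agent.Lib.Helper70.J3T2

theorem main : Cfsg.Agent.Lib.Helper26.J3Stmt.KEX.{u} := by
  intro X _ hH hZ t hT T hT8 hTt hTn d hdt hdR hd3
  obtain ⟨hfin, -, hR27, hexp, -, -, -⟩ := hH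
  obtain ⟨hZ3, hZR, hcomm, hcen, hZc⟩ := hZ
  obtain ⟨ht, htR, htx, hinvt⟩ := hT
  have := hfin
  have hd1 : d ≠ 1 := by
    rintro rfl
    exact hdR (one_mem _)
  have hord : orderOf d = 3 := orderOf_eq_prime hd3 hd1
  have hD3 : Nat.card (Subgroup.zpowers d) = 3 := by rw [Nat.card_zpowers, hord]
  have hdt' : d⁻¹ * t = t * d⁻¹ := by
    have : d⁻¹ * (d * t) * d⁻¹ = d⁻¹ * (t * d) * d⁻¹ := by rw [hdt]
    simpa [mul_assoc] using this.symm
  have hDN : Subgroup.zpowers d ≤ Subgroup.normalizer (T : Set X) := by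
    rw [Subgroup.zpowers_le, Subgroup.mem_normalizer_iff]
    intro h
    constructor
    · intro hh; exact hTn d hdt h hh
    · intro hh
      have := hTn d⁻¹ hdt' _ hh
      have e : d⁻¹ * (d * h * d⁻¹) * d⁻¹⁻¹ = h := by group
      rw [e] at this; exact this
  refine ⟨T ⊔ Subgroup.zpowers d, ?_, ?_, ?_⟩
  · -- `K ≤ C(t)`
    have hle : T ⊔ Subgroup.zpowers d ≤ Subgroup.centralizer {t} := by
      refine sup_le ?_ ?_
      · intro τ hτ; rw [mem_cent_single]; exact (hTt τ hτ).symm
      · rw [Subgroup.zpowers_le, mem_cent_single]; exact hdt.symm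
    intro k hk
    have := hle hk
    rw [mem_cent_single] at this
    exact this.symm
  · -- `K ⊓ R = ⊥`
    have hK24 : Nat.card (T ⊔ Subgroup.zpowers d : Subgroup X) ∣ 24 := by
      have := Cfsg.Agent.Lib.Helper4.MixTools.card_sup_dvd T (Subgroup.zpowers d) hDN
      rw [hT8, hD3] at this; exact this
    have hKt : ∀ k ∈ (T ⊔ Subgroup.zpowers d : Subgroup X), k * t = t * k := by
      have hle : T ⊔ Subgroup.zpowers d ≤ Subgroup.centralizer {t} := by
        refine sup_le ?_ ?_
        · intro τ hτ; rw [mem_cent_single]; exact (hTt τ hτ).symm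
        · rw [Subgroup.zpowers_le, mem_cent_single]; exact hdt.symm
      intro k hk
      have := hle hk
      rw [mem_cent_single] at this
      exact this.symm
    rw [Subgroup.eq_bot_iff_forall]
    intro x hx
    obtain ⟨hxK, hxR⟩ := Subgroup.mem_inf.1 hx
    by_contra hx1
    have hx3 : x ^ 3 = 1 := hexp x hxR
    have hxZ : x ∈ Zc X := by
      have h1 := hinvt x hxR
      have h2 : t * x * t⁻¹ = x := by
        rw [← hKt x hxK]; group
      rw [h2] at h1
      have h3 : x = (x * x) * (x * x) := by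
        calc x = x ^ 3 * x := by rw [hx3, one_mul]
          _ = (x * x) * (x * x) := by simp [pow_succ, mul_assoc]
      rw [h3]; exact mul_mem h1 h1
    have hxc : ∀ y : X, y * x = x * y := hZc x hxZ
    have hordx : orderOf x = 3 := orderOf_eq_prime hx3 hx1
    have hX3 : Nat.card (Subgroup.zpowers x) = 3 := by rw [Nat.card_zpowers, hordx]
    have hxN : Subgroup.zpowers x ≤ Subgroup.normalizer (Subgroup.zpowers d : Set X) := by
      rw [Subgroup.zpowers_le, Subgroup.mem_normalizer_iff]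
      intro h
      have e : x * h * x⁻¹ = h := by rw [← hxc h]; group
      rw [e]
    have hP9 : Nat.card (Subgroup.zpowers d ⊔ Subgroup.zpowers x : Subgroup X) ∣ 9 := by
      have := Cfsg.Agent.Lib.Helper4.MixTools.card_sup_dvd (Subgroup.zpowers d) (Subgroup.zpowers x) hxN
      rw [hD3, hX3] at this; exact this
    have hPK : Subgroup.zpowers d ⊔ Subgroup.zpowers x ≤ T ⊔ Subgroup.zpowers d :=
      sup_le le_sup_right (Subgroup.zpowers_le.2 hxK)
    have hP24 : Nat.card (Subgroup.zpowers d ⊔ Subgroup.zpowers x : Subgroup X) ∣ 24 :=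
      (Subgroup.card_dvd_of_le hPK).trans hK24
    have hP3 : Nat.card (Subgroup.zpowers d ⊔ Subgroup.zpowers x : Subgroup X) ≤ 3 := by
      have := Nat.dvd_gcd hP9 hP24
      exact Nat.le_of_dvd (by norm_num) this
    have hDP : Subgroup.zpowers d = Subgroup.zpowers d ⊔ Subgroup.zpowers x :=
      Subgroup.eq_of_le_of_card_ge le_sup_left (by rw [hD3]; exact hP3)
    have hxD : Subgroup.zpowers x ≤ Subgroup.zpowers d := by
      rw [hDP]; exact le_sup_right
    have hxD' : Subgroup.zpowers x = Subgroup.zpowers d :=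
      Subgroup.eq_of_le_of_card_ge hxD (by rw [hD3, hX3])
    have hdx : d ∈ Subgroup.zpowers x := by
      rw [hxD']; exact Subgroup.mem_zpowers d
    exact hdR (hZR ((Subgroup.zpowers_le.2 hxZ) hdx))
  · -- `|K| = 24`
    have hK24 : Nat.card (T ⊔ Subgroup.zpowers d : Subgroup X) ∣ 24 := by
      have := Cfsg.Agent.Lib.Helper4.MixTools.card_sup_dvd T (Subgroup.zpowers d) hDN
      rw [hT8, hD3] at this; exact this
    have h8 : 8 ∣ Nat.card (T ⊔ Subgroup.zpowers d : Subgroup X) := by
      have := Subgroup.card_dvd_of_le (le_sup_left : T ≤ T ⊔ Subgroup.zpowers d)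
      rw [hT8] at this; exact this
    have h3 : 3 ∣ Nat.card (T ⊔ Subgroup.zpowers d : Subgroup X) := by
      have := Subgroup.card_dvd_of_le (le_sup_right : Subgroup.zpowers d ≤ T ⊔ Subgroup.zpowers d)
      rw [hD3] at this; exact this
    have h24 : 8 * 3 ∣ Nat.card (T ⊔ Subgroup.zpowers d : Subgroup X) :=
      Nat.Coprime.mul_dvd_of_dvd_of_dvd (by norm_num) h8 h3
    exact Nat.dvd_antisymm hK24 h24

end Cfsg.Agent.Lib.Helper70.J3KEX
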