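import Mathlib
import Cfsg.Agent.Lib.Helper2.Kul

/-! Hall's enumeration principle modulo `p²` over the subgroups of index `p` (any prime `p`),
extracted from the proof of Kulakoff's theorem in `Helper2.Kul`. -/

set_option autoImplicit false
universe u

namespace Cfsg.Agent.Lib.Helper70.Kul2A
open Subgroup
open Cfsg.Agent.Lib.Helper2.Kul

/-- For a noncyclic `p`-group of order `p^m` and `a + 2 ≤ m`: the sum over the subgroups `M` of
index `p` of the numbers of subgroups of order `p^a` of `M` is `≡ s_a(P) + p (mod p²)`. -/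
theorem enum {p : ℕ} [hp : Fact p.Prime] {P : Type u} [Group P] [Finite P]
    (hP : IsPGroup p P) (hnc : ¬ IsCyclic P) {m a : ℕ} (hm : Nat.card P = p ^ m) (ham2 : a + 2 ≤ m)
    (Γ : Finset (Subgroup P)) (hΓ' : ∀ M, M ∈ Γ ↔ M.index = p) :
    ∑ M ∈ Γ, Nat.card {H : Subgroup M // Nat.card H = p ^ a} ≡
      Nat.card {H : Subgroup P // Nat.card H = p ^ a} + p [MOD p ^ 2] := by
  classical
  haveI := Fintype.ofFinite (Subgroup P)
  haveI := Fintype.ofFinite (Subgroup (Dl p P))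
  have ham : a + 1 ≤ m := by omega
  have hΓ : Γ = Finset.univ.filter (fun M : Subgroup P => M.index = p) := by
    ext M; simp [hΓ']
  set 𝒮 : Finset (Subgroup P) := Finset.univ.filter (fun H => Nat.card H = p ^ a) with h𝒮
  set 𝔈 : Finset (Subgroup (Dl p P)) := Finset.univ.filter (fun E => Nat.card E = p ^ 2)
    with h𝔈
  have h𝒮card : 𝒮.card = Nat.card {H : Subgroup P // Nat.card H = p ^ a} := card_filter_eq _
  let ε : Subgroup P → ℕ := fun H => if p ^ 2 ∣ Nat.card (DH p H) then 1 else 0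
  have hdc : ∑ M ∈ Γ, (𝒮.filter (fun H => H ≤ M)).card =
      ∑ H ∈ 𝒮, (Γ.filter (fun M => H ≤ M)).card :=
    Finset.sum_card_bipartiteAbove_eq_sum_card_bipartiteBelow (fun M H => H ≤ M)
  have hstep2 : ∑ H ∈ 𝒮, (Γ.filter (fun M => H ≤ M)).card ≡
      ∑ H ∈ 𝒮, (1 + p * ε H) [MOD p ^ 2] := by
    apply Nat.ModEq.sum
    intro H hH
    simp only [h𝒮, Finset.mem_filter, Finset.mem_univ, true_and] at hH
    have h := mu_modEq hP hm ham H hH
    have e : (Γ.filter (fun M => H ≤ M)).card =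
        Nat.card {M : Subgroup P // M.index = p ∧ H ≤ M} := by
      rw [hΓ, Finset.filter_filter]; exact card_filter_eq _
    rw [e]
    exact h
  have hstep3 : ∑ H ∈ 𝒮, ε H ≡ 1 [MOD p] := by
    have hdc2 : ∑ H ∈ 𝒮, (𝔈.filter (fun E => E ≤ DH p H)).card =
        ∑ E ∈ 𝔈, (𝒮.filter (fun H => E ≤ DH p H)).card :=
      Finset.sum_card_bipartiteAbove_eq_sum_card_bipartiteBelow (fun H E => E ≤ DH p H)
    have hl : ∑ H ∈ 𝒮, (𝔈.filter (fun E => E ≤ DH p H)).card ≡ ∑ H ∈ 𝒮, ε H [MOD p] := by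
      apply Nat.ModEq.sum
      intro H hH
      have e : (𝔈.filter (fun E => E ≤ DH p H)).card =
          Nat.card {E : Subgroup (Dl p P) // Nat.card E = p ^ 2 ∧ E ≤ DH p H} := by
        rw [h𝔈, Finset.filter_filter]; exact card_filter_eq _
      rw [e]
      by_cases hd : p ^ 2 ∣ Nat.card (DH p H)
      · have : ε H = 1 := if_pos hd
        rw [this]
        exact card_le_modEq_one p 2 hp.out (DH p H) hd
      · have : ε H = 0 := if_neg hd
        rw [this]
        have hempty : IsEmpty {E : Subgroup (Dl p P) // Nat.card E = p ^ 2 ∧ E ≤ DH p H} := by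
          refine ⟨fun E => hd ?_⟩
          rw [← E.2.1]
          exact Subgroup.card_dvd_of_le E.2.2
        rw [Nat.card_of_isEmpty]
    have hr : ∑ E ∈ 𝔈, (𝒮.filter (fun H => E ≤ DH p H)).card ≡ ∑ E ∈ 𝔈, 1 [MOD p] := by
      apply Nat.ModEq.sum
      intro E hE
      simp only [h𝔈, Finset.mem_filter, Finset.mem_univ, true_and] at hE
      have e : (𝒮.filter (fun H => E ≤ DH p H)).card =
          Nat.card {H : Subgroup P // Nat.card H = p ^ a ∧ H ≤ KE E} := by
        rw [h𝒮, Finset.filter_filter, card_filter_eq]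
        refine Nat.card_congr (Equiv.subtypeEquivRight fun H => ?_)
        rw [le_DH_iff]
      rw [e]
      exact card_le_modEq_one p a hp.out (KE E) (pow_dvd_card_KE hP hm ham2 E hE)
    have h𝔈card : 𝔈.card ≡ 1 [MOD p] := by
      rw [h𝔈, card_filter_eq]
      apply Cfsg.Agent.Lib.Helper91.SubCount.card_subgroups_modEq_one (Dl p P) p 2 hp.out
      have h1 := sq_dvd_card_DH_bot hP hnc
      exact h1.trans (Subgroup.card_subgroup_dvd_card _)
    have hr' : ∑ E ∈ 𝔈, (1 : ℕ) = 𝔈.card := by simp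
    rw [hr'] at hr
    exact (hl.symm.trans (hdc2 ▸ hr)).trans h𝔈card
  have hstep4 : ∑ M ∈ Γ, (𝒮.filter (fun H => H ≤ M)).card =
      ∑ M ∈ Γ, Nat.card {H : Subgroup M // Nat.card H = p ^ a} := by
    apply Finset.sum_congr rfl
    intro M _
    rw [h𝒮, Finset.filter_filter, card_filter_eq, card_le_equiv]
  have hsum1 : ∑ H ∈ 𝒮, (1 + p * ε H) = 𝒮.card + p * ∑ H ∈ 𝒮, ε H := by
    rw [Finset.sum_add_distrib, Finset.mul_sum]; simp
  have hpp : p ^ 2 = p * p := by ring
  have hA : p * ∑ H ∈ 𝒮, ε H ≡ p * 1 [MOD p ^ 2] := by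
    rw [hpp]; exact Nat.ModEq.mul_left' p hstep3
  rw [← hstep4, hdc, ← h𝒮card]
  calc ∑ H ∈ 𝒮, (Γ.filter (fun M => H ≤ M)).card ≡ ∑ H ∈ 𝒮, (1 + p * ε H) [MOD p ^ 2] := hstep2
    _ = 𝒮.card + p * ∑ H ∈ 𝒮, ε H := hsum1
    _ ≡ 𝒮.card + p * 1 [MOD p ^ 2] := Nat.ModEq.add_left _ hA
    _ = 𝒮.card + p := by rw [mul_one]

end Cfsg.Agent.Lib.Helper70.Kul2A
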