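import Mathlib
import Cfsg.Agent.Lib.Helper9.Narrow1
import Cfsg.Agent.Lib.Helper66.FrobCount
import Cfsg.Agent.Lib.Helper2.Kul

/-! Involution counts in `2`-groups with a normal four-subgroup. -/

set_option autoImplicit false
universe u

namespace Cfsg.Agent.Lib.Helper70.Kul2B
open Subgroup
open Cfsg.Agent.Lib.Helper2.Kul

/-- subgroups of order `2` correspond to involutions -/
theorem card_inv (G : Type u) [Group G] [Finite G] :
    Nat.card {H : Subgroup G // Nat.card H = 2} + 1 = Nat.card {g : G // g * g = 1} := by
  classical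
  have := Fintype.ofFinite G
  have e1 : Nat.card {g : G // g * g = 1} = (Finset.univ.filter (fun g : G => g * g = 1)).card :=
    (card_filter_eq _).symm
  have e2 : Nat.card {g : G // g * g = 1 ∧ g ≠ 1} =
      (Finset.univ.filter (fun g : G => g * g = 1 ∧ g ≠ 1)).card := (card_filter_eq _).symm
  have e3 : Finset.univ.filter (fun g : G => g * g = 1 ∧ g ≠ 1) =
      (Finset.univ.filter (fun g : G => g * g = 1)).erase 1 := by
    ext g
    simp only [Finset.mem_filter, Finset.mem_univ, true_and, Finset.mem_erase]
    tauto
  have e4 : Nat.card {H : Subgroup G // Nat.card H = 2} = Nat.card {g : G // g * g = 1 ∧ g ≠ 1} := by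
    symm
    have hord : ∀ g : G, g * g = 1 → g ≠ 1 → orderOf g = 2 := by
      intro g hg hg1
      exact orderOf_eq_prime (by rw [pow_two]; exact hg) hg1
    refine Nat.card_congr (Equiv.ofBijective
      (fun g : {g : G // g * g = 1 ∧ g ≠ 1} =>
        (⟨zpowers g.1, by rw [Nat.card_zpowers, hord g.1 g.2.1 g.2.2]⟩ :
          {H : Subgroup G // Nat.card H = 2})) ⟨?_, ?_⟩)
    · rintro ⟨g, hg, hg1⟩ ⟨g', hg', hg1'⟩ h
      have h1 : zpowers g = zpowers g' := congrArg Subtype.val h
      have h2 : g' ∈ zpowers g := by rw [h1]; exact mem_zpowers g'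
      obtain ⟨k, hk⟩ := mem_zpowers_iff.mp h2
      apply Subtype.ext
      show g = g'
      rcases Int.emod_two_eq_zero_or_one k with h0 | h0
      · exfalso
        obtain ⟨j, hj⟩ : ∃ j, k = 2 * j := ⟨k / 2, by omega⟩
        apply hg1'
        rw [← hk, hj, zpow_mul, zpow_ofNat, pow_two, hg, one_zpow]
      · obtain ⟨j, hj⟩ : ∃ j, k = 2 * j + 1 := ⟨k / 2, by omega⟩
        rw [← hk, hj, zpow_add, zpow_mul, zpow_ofNat, pow_two, hg, one_zpow, one_mul, zpow_one]
    · rintro ⟨H, hH⟩
      have hnt : H ≠ ⊥ := by
        rintro rfl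
        rw [Subgroup.card_bot] at hH
        omega
      obtain ⟨⟨g, hgH⟩, hg'⟩ := (Subgroup.ne_bot_iff_exists_ne_one (H := H)).mp hnt
      have hg1 : g ≠ 1 := fun h => hg' (Subtype.ext h)
      have hdvd : orderOf g ∣ 2 := by
        rw [← hH]
        have := Subgroup.orderOf_dvd_natCard H hgH
        exact this
      have hord : orderOf g = 2 := by
        rcases (Nat.dvd_prime Nat.prime_two).mp hdvd with h | h
        · exact absurd (orderOf_eq_one_iff.mp h) hg1
        · exact h
      have hgg : g * g = 1 := by
        rw [← pow_two, ← hord]; exact pow_orderOf_eq_one g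
      refine ⟨⟨g, hgg, hg1⟩, ?_⟩
      apply Subtype.ext
      show zpowers g = H
      apply Subgroup.eq_of_le_of_card_ge (zpowers_le.mpr hgH)
      rw [hH, Nat.card_zpowers, hord]
  rw [e4, e2, e1, e3, Finset.card_erase_of_mem (by simp)]
  have hpos : 0 < (Finset.univ.filter (fun g : G => g * g = 1)).card :=
    Finset.card_pos.mpr ⟨1, by simp⟩
  omega

/-- In a `2`-group with a normal four-subgroup `E`, the number of solutions of `g² = 1` is
divisible by `4`, unless the group is nonabelian of order `8`. -/
theorem four_dvd_of_normal_four {G : Type u} [Group G] [Finite G] (hG : IsPGroup 2 G)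
    (E : Subgroup G) [hEn : E.Normal] (hE : Nat.card E = 4) (hexp : ∀ ε ∈ E, ε * ε = 1) :
    4 ∣ Nat.card {g : G // g * g = 1} ∨ (Nat.card G = 8 ∧ ∃ a b : G, a * b ≠ b * a) := by
  classical
  have := Fintype.ofFinite G
  have : Fact (Nat.Prime 2) := ⟨Nat.prime_two⟩
  have hEbot : E ≠ ⊥ := by
    rintro rfl
    rw [Subgroup.card_bot] at hE
    omega
  obtain ⟨z, hzE, hzc', hzo⟩ := Cfsg.Agent.Lib.Helper9.Narrow1.exists_central hG E hEbot
  have hzc : ∀ g : G, g * z = z * g := Subgroup.mem_center_iff.mp hzc'
  have hz2 : z * z = 1 := by rw [← pow_two, ← hzo]; exact pow_orderOf_eq_one z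
  have hz1 : z ≠ 1 := by
    intro h
    rw [h, orderOf_one] at hzo
    omega
  -- a second generator
  obtain ⟨e, heE, hez⟩ : ∃ e ∈ E, e ∉ zpowers z := by
    by_contra hcon
    push Not at hcon
    have hle : E ≤ zpowers z := hcon
    have := Subgroup.card_le_of_le hle
    rw [hE, Nat.card_zpowers, hzo] at this
    omega
  have he1 : e ≠ 1 := fun h => hez (by rw [h]; exact one_mem _)
  have hezz : e ≠ z := fun h => hez (by rw [h]; exact mem_zpowers z)
  have he2 : e * e = 1 := hexp e heE
  have hze : z * e = e * z := (hzc e).symm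
  -- enumeration of E
  have henum : ∀ ε ∈ E, ε = 1 ∨ ε = z ∨ ε = e ∨ ε = e * z := by
    have hF : zpowers z ⊔ zpowers e = E := by
      apply Subgroup.eq_of_le_of_card_ge (sup_le (zpowers_le.mpr hzE) (zpowers_le.mpr heE))
      have hlt : zpowers z < zpowers z ⊔ zpowers e := by
        refine lt_of_le_of_ne le_sup_left ?_
        intro h
        apply hez
        rw [h]
        exact (le_sup_right : zpowers e ≤ zpowers z ⊔ zpowers e) (mem_zpowers e)
      have h1 := Cfsg.Agent.Lib.Helper9.Narrow1.card_lt hG hlt
      rw [Nat.card_zpowers, hzo] at h1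
      rw [hE]
      exact h1
    intro ε hε
    rw [← hF] at hε
    have : (zpowers z).Normal := by
      constructor
      intro n hn g
      obtain ⟨k, rfl⟩ := mem_zpowers_iff.mp hn
      have : g * z ^ k * g⁻¹ = z ^ k := by
        have h1 : Commute g z := hzc g
        rw [(h1.zpow_right k).eq, mul_inv_cancel_right]
      rw [this]; exact hn
    rw [← SetLike.mem_coe, Subgroup.normal_mul, Set.mem_mul] at hε
    obtain ⟨a, ha, b, hb, rfl⟩ := hε
    have ha' : a = 1 ∨ a = z := by
      obtain ⟨k, rfl⟩ := mem_zpowers_iff.mp ha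
      rcases Int.emod_two_eq_zero_or_one k with h0 | h0
      · left
        obtain ⟨j, hj⟩ : ∃ j, k = 2 * j := ⟨k / 2, by omega⟩
        rw [hj, zpow_mul, zpow_ofNat, pow_two, hz2, one_zpow]
      · right
        obtain ⟨j, hj⟩ : ∃ j, k = 2 * j + 1 := ⟨k / 2, by omega⟩
        rw [hj, zpow_add, zpow_mul, zpow_ofNat, pow_two, hz2, one_zpow, one_mul, zpow_one]
    have hb' : b = 1 ∨ b = e := by
      obtain ⟨k, rfl⟩ := mem_zpowers_iff.mp hb
      rcases Int.emod_two_eq_zero_or_one k with h0 | h0
      · left
        obtain ⟨j, hj⟩ : ∃ j, k = 2 * j := ⟨k / 2, by omega⟩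
        rw [hj, zpow_mul, zpow_ofNat, pow_two, he2, one_zpow]
      · right
        obtain ⟨j, hj⟩ : ∃ j, k = 2 * j + 1 := ⟨k / 2, by omega⟩
        rw [hj, zpow_add, zpow_mul, zpow_ofNat, pow_two, he2, one_zpow, one_mul, zpow_one]
    rcases ha' with rfl | rfl <;> rcases hb' with rfl | rfl
    · left; rw [mul_one]
    · right; right; left; rw [one_mul]
    · right; left; rw [mul_one]
    · right; right; right; exact hze
  -- the centralizer of e
  set T : Subgroup G := centralizer ({e} : Set G) with hT
  have hTmem : ∀ g : G, g ∈ T ↔ g * e = e * g := by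
    intro g
    rw [hT, Subgroup.mem_centralizer_singleton_iff]
  have hout : ∀ g : G, g ∉ T → g * e = e * z * g := by
    intro g hg
    have h1 : g * e * g⁻¹ ∈ E := hEn.conj_mem e heE g
    rcases henum _ h1 with h | h | h | h
    · exfalso
      apply he1
      have : e = g⁻¹ * (g * e * g⁻¹) * g := by group
      rw [this, h]; group
    · exfalso
      apply hezz
      have : e = g⁻¹ * (g * e * g⁻¹) * g := by group
      rw [this, h, mul_assoc, ← hzc g, inv_mul_cancel_left]
    · exfalso
      apply hg
      rw [hTmem]
      have : g * e = (g * e * g⁻¹) * g := by group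
      rw [this, h]
    · have : g * e = (g * e * g⁻¹) * g := by group
      rw [this, h]
  have hET : ∀ ε ∈ E, ∀ x ∈ T, ε * x = x * ε := by
    intro ε hε x hx
    have hxe := (hTmem x).mp hx
    rcases henum ε hε with rfl | rfl | rfl | rfl
    · rw [one_mul, mul_one]
    · exact (hzc x).symm
    · exact hxe.symm
    · calc e * z * x = e * (z * x) := by group
        _ = e * (x * z) := by rw [hzc x]
        _ = (e * x) * z := by group
        _ = (x * e) * z := by rw [hxe]
        _ = x * (e * z) := by group
  have hEleT : E ≤ T := by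
    intro ε hε
    rw [hTmem]
    rcases henum ε hε with rfl | rfl | rfl | rfl
    · rw [one_mul, mul_one]
    · exact hze
    · rfl
    · rw [mul_assoc, hze]
  set Ω : Finset G := Finset.univ.filter (fun g : G => g * g = 1) with hΩ
  have hΩcard : Nat.card {g : G // g * g = 1} = Ω.card := (card_filter_eq _).symm
  set ΩT : Finset G := Ω.filter (fun g => g ∈ T) with hΩT
  set I : Finset G := Ω.filter (fun g => g ∉ T) with hI
  have hsplit : ΩT.card + I.card = Ω.card := Finset.card_filter_add_card_filter_not _
  have h4T : 4 ∣ ΩT.card := by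
    rw [← hE]
    apply Cfsg.Agent.Lib.Helper66.FrobCount.card_dvd_of_mul_mem E ΩT
    intro ε hε x hx
    simp only [hΩT, hΩ, Finset.mem_filter, Finset.mem_univ, true_and] at hx ⊢
    refine ⟨?_, T.mul_mem (hEleT hε) hx.2⟩
    have hc := hET ε hε x hx.2
    calc ε * x * (ε * x) = ε * (x * ε) * x := by group
      _ = ε * (ε * x) * x := by rw [hc]
      _ = (ε * ε) * (x * x) := by group
      _ = 1 := by rw [hexp ε hε, hx.1, one_mul]
  rcases I.eq_empty_or_nonempty with hIe | ⟨t₀, ht₀⟩
  · left
    rw [hΩcard, ← hsplit, hIe, Finset.card_empty, add_zero]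
    exact h4T
  simp only [hI, hΩ, Finset.mem_filter, Finset.mem_univ, true_and] at ht₀
  obtain ⟨ht₀2, ht₀T⟩ := ht₀
  -- the coset outside T
  set Co : Finset G := Finset.univ.filter (fun g : G => g ∉ T) with hCo
  set Tf : Finset G := Finset.univ.filter (fun g : G => g ∈ T) with hTf
  have hTfcard : Tf.card = Nat.card T := card_filter_eq _
  have hinvout : ∀ g : G, g ∉ T → g⁻¹ ∉ T := fun g hg h => hg (by simpa using T.inv_mem h)
  have hprod : ∀ g h : G, g ∉ T → h ∉ T → g⁻¹ * h ∈ T := by
    intro g h hg hh
    rw [hTmem]
    have h1 := hout h hh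
    have h2 := hout g⁻¹ (hinvout g hg)
    calc g⁻¹ * h * e = g⁻¹ * (h * e) := by group
      _ = g⁻¹ * (e * z * h) := by rw [h1]
      _ = (g⁻¹ * e) * z * h := by group
      _ = e * z * g⁻¹ * z * h := by rw [h2]
      _ = e * z * (g⁻¹ * z) * h := by group
      _ = e * z * (z * g⁻¹) * h := by rw [hzc g⁻¹]
      _ = e * (z * z) * g⁻¹ * h := by group
      _ = e * (g⁻¹ * h) := by rw [hz2]; group
  have hCocard : Co.card = Tf.card := by
    have : Co = Tf.image (fun c => t₀ * c) := by
      ext g
      simp only [hCo, hTf, Finset.mem_filter, Finset.mem_univ, true_and, Finset.mem_image]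
      constructor
      · intro hg
        exact ⟨t₀⁻¹ * g, hprod t₀ g ht₀T hg, by group⟩
      · rintro ⟨c, hc, rfl⟩ h
        apply ht₀T
        have : t₀ = (t₀ * c) * c⁻¹ := by group
        rw [this]
        exact T.mul_mem h (T.inv_mem hc)
    rw [this, Finset.card_image_of_injective _ (mul_right_injective t₀)]
  have hGcard : Nat.card G = 2 * Nat.card T := by
    have h1 : Tf.card + Co.card = (Finset.univ : Finset G).card :=
      Finset.card_filter_add_card_filter_not _
    rw [Finset.card_univ, ← Nat.card_eq_fintype_card, hCocard, hTfcard] at h1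
    omega
  set X : Finset G := Co.filter (fun g => g * g ∉ E) with hX
  set S' : Finset G := Co.filter (fun g => g * g ∈ E) with hS'
  have hXS : S'.card + X.card = Co.card := Finset.card_filter_add_card_filter_not _
  -- S' has twice as many elements as I
  have hsq : ∀ g : G, g ∉ T → g * g ∈ E → g * g = 1 ∨ g * g = z := by
    intro g hg hgg
    rcases henum _ hgg with h | h | h | h
    · left; exact h
    · right; exact h
    · exfalso
      apply hg
      rw [hTmem, ← h]
      group
    · exfalso
      apply hg
      rw [hTmem]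
      have h1 : g * (e * z) = (e * z) * g := by rw [← h]; group
      have h2 : g * e = g * (e * z) * z := by rw [mul_assoc, mul_assoc, hz2, mul_one]
      rw [h2, h1, mul_assoc, mul_assoc, hzc g, ← mul_assoc z, hz2, one_mul]
  have hS'card : S'.card = 2 * I.card := by
    have hdisj : Disjoint I (I.image (fun t => t * e)) := by
      rw [Finset.disjoint_left]
      intro t ht ht'
      simp only [hI, hΩ, Finset.mem_filter, Finset.mem_univ, true_and, Finset.mem_image] at ht ht'
      obtain ⟨t', ⟨ht'2, ht'T⟩, rfl⟩ := ht'
      have h1 := hout t' ht'T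
      have h2 : t' * e * (t' * e) = z := by
        calc t' * e * (t' * e) = (t' * e) * t' * e := by group
          _ = (e * z * t') * t' * e := by rw [h1]
          _ = e * z * (t' * t') * e := by group
          _ = e * (z * e) := by rw [ht'2]; group
          _ = e * (e * z) := by rw [hze]
          _ = z := by rw [← mul_assoc, he2, one_mul]
      rw [h2] at ht
      exact hz1 ht.1
    have hunion : S' = I ∪ I.image (fun t => t * e) := by
      ext g
      simp only [hS', hCo, hI, hΩ, Finset.mem_filter, Finset.mem_univ, true_and, Finset.mem_union,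
        Finset.mem_image]
      constructor
      · rintro ⟨hgT, hgg⟩
        rcases hsq g hgT hgg with h | h
        · left; exact ⟨h, hgT⟩
        · right
          have h1 := hout g hgT
          refine ⟨g * e, ⟨?_, ?_⟩, ?_⟩
          · calc g * e * (g * e) = (g * e) * g * e := by group
              _ = (e * z * g) * g * e := by rw [h1]
              _ = e * z * (g * g) * e := by group
              _ = e * z * z * e := by rw [h]
              _ = e * (z * z) * e := by group
              _ = 1 := by rw [hz2, mul_one, he2]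
          · intro h2
            apply hgT
            have : g = (g * e) * e⁻¹ := by group
            rw [this]
            exact T.mul_mem h2 (T.inv_mem (hEleT heE))
          · rw [mul_assoc, he2, mul_one]
      · rintro (⟨h, hgT⟩ | ⟨t, ⟨ht2, htT⟩, rfl⟩)
        · exact ⟨hgT, by rw [h]; exact E.one_mem⟩
        · have h1 := hout t htT
          refine ⟨?_, ?_⟩
          · intro h2
            apply htT
            have : t = (t * e) * e⁻¹ := by group
            rw [this]
            exact T.mul_mem h2 (T.inv_mem (hEleT heE))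
          · have h2 : t * e * (t * e) = z := by
              calc t * e * (t * e) = (t * e) * t * e := by group
                _ = (e * z * t) * t * e := by rw [h1]
                _ = e * z * (t * t) * e := by group
                _ = e * (z * e) := by rw [ht2]; group
                _ = e * (e * z) := by rw [hze]
                _ = z := by rw [← mul_assoc, he2, one_mul]
            rw [h2]; exact hzE
    rw [hunion, Finset.card_union_of_disjoint hdisj,
      Finset.card_image_of_injective _ (mul_left_injective e)]
    omega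
  -- X has a multiple of 8 elements
  have h8X : 8 ∣ X.card := by
    let Y : Set (G ⧸ E) := {q | q * q ≠ 1 ∧ q ∉ T.map (QuotientGroup.mk' E)}
    have hXY : ∀ g : G, g ∈ X ↔ (QuotientGroup.mk g : G ⧸ E) ∈ Y := by
      intro g
      simp only [hX, hCo, Finset.mem_filter, Finset.mem_univ, true_and]
      show _ ↔ ((QuotientGroup.mk g : G ⧸ E) * QuotientGroup.mk g ≠ 1 ∧
        (QuotientGroup.mk g : G ⧸ E) ∉ T.map (QuotientGroup.mk' E))
      have h1 : ((QuotientGroup.mk g : G ⧸ E) * QuotientGroup.mk g = 1) ↔ g * g ∈ E := by
        rw [← QuotientGroup.mk_mul, QuotientGroup.eq_one_iff]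
      have h2 : (QuotientGroup.mk g : G ⧸ E) ∈ T.map (QuotientGroup.mk' E) ↔ g ∈ T := by
        constructor
        · rintro ⟨t, ht, h⟩
          have h3 : t⁻¹ * g ∈ E := QuotientGroup.eq.mp h
          have : g = t * (t⁻¹ * g) := by group
          rw [this]
          exact T.mul_mem ht (hEleT h3)
        · intro h
          exact ⟨g, h, rfl⟩
      rw [Ne, h1, h2]
      tauto
    have hcard1 : X.card = Nat.card (QuotientGroup.mk ⁻¹' Y : Set G) := by
      have : X = Finset.univ.filter (fun g : G => (QuotientGroup.mk g : G ⧸ E) ∈ Y) := by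
        ext g
        rw [hXY]
        simp
      rw [this]
      exact card_filter_eq _
    have hcard2 : Nat.card (QuotientGroup.mk ⁻¹' Y : Set G) = Nat.card E * Nat.card Y := by
      rw [Nat.card_congr (QuotientGroup.preimageMkEquivSubgroupProdSet E Y), Nat.card_prod]
    have heven : 2 ∣ Nat.card Y := by
      have : Fintype Y := Fintype.ofFinite Y
      let σ : Equiv.Perm Y :=
        { toFun := fun q => ⟨q.1⁻¹, by
            obtain ⟨q, hq1, hq2⟩ := q
            refine ⟨?_, ?_⟩
            · intro h
              apply hq1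
              have : q * q = (q⁻¹ * q⁻¹)⁻¹ := by rw [mul_inv_rev, inv_inv]
              rw [this, h, inv_one]
            · intro h
              apply hq2
              have := (T.map (QuotientGroup.mk' E)).inv_mem h
              simpa using this⟩
          invFun := fun q => ⟨q.1⁻¹, by
            obtain ⟨q, hq1, hq2⟩ := q
            refine ⟨?_, ?_⟩
            · intro h
              apply hq1
              have : q * q = (q⁻¹ * q⁻¹)⁻¹ := by rw [mul_inv_rev, inv_inv]
              rw [this, h, inv_one]
            · intro h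
              apply hq2
              have := (T.map (QuotientGroup.mk' E)).inv_mem h
              simpa using this⟩
          left_inv := fun q => Subtype.ext (inv_inv _)
          right_inv := fun q => Subtype.ext (inv_inv _) }
      have hσ2 : σ ^ 2 = 1 := by
        ext q
        show ((q.1⁻¹)⁻¹ : G ⧸ E) = q.1
        exact inv_inv _
      have h1 := Equiv.Perm.two_dvd_card_support hσ2
      have h2 : σ.support = Finset.univ := by
        rw [Finset.eq_univ_iff_forall]
        intro q
        rw [Equiv.Perm.mem_support]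
        intro h
        have h3 : (q.1⁻¹ : G ⧸ E) = q.1 := congrArg Subtype.val h
        apply q.2.1
        nth_rewrite 1 [← h3]
        exact inv_mul_cancel _
      rw [h2, Finset.card_univ, ← Nat.card_eq_fintype_card] at h1
      exact h1
    rw [hcard1, hcard2, hE]
    obtain ⟨k, hk⟩ := heven
    exact ⟨k, by rw [hk]; ring⟩
  by_cases h16 : 16 ∣ Nat.card G
  · left
    have h8T : 8 ∣ Nat.card T := by
      rw [hGcard] at h16
      obtain ⟨k, hk⟩ := h16
      exact ⟨k, by omega⟩
    have h8 : 8 ∣ 2 * I.card := by
      rw [← hS'card]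
      have : S'.card = Nat.card T - X.card := by omega
      rw [this]
      exact Nat.dvd_sub h8T h8X
    have h4I : 4 ∣ I.card := by
      obtain ⟨k, hk⟩ := h8
      exact ⟨k, by omega⟩
    rw [hΩcard, ← hsplit]
    exact dvd_add h4T h4I
  · right
    obtain ⟨k, hk⟩ := IsPGroup.iff_card.mp hG
    obtain ⟨j, hj⟩ := IsPGroup.iff_card.mp (hG.to_subgroup T)
    have hEle := Subgroup.card_le_of_le hEleT
    rw [hE, hj] at hEle
    have hj2 : 2 ≤ j := by
      by_contra hj2
      have : j = 0 ∨ j = 1 := by omega
      rcases this with rfl | rfl <;> omega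
    have hk' : 2 ^ k = 2 ^ (j + 1) := by rw [← hk, hGcard, hj, pow_succ]; ring
    have hkj : k = j + 1 := Nat.pow_right_injective (le_refl 2) hk'
    have hk3 : k ≤ 3 := by
      by_contra hk3
      apply h16
      rw [hk]
      exact Dvd.dvd.trans (by norm_num : 16 ∣ 2 ^ 4) (pow_dvd_pow 2 (by omega))
    have hk3' : k = 3 := by omega
    refine ⟨by rw [hk, hk3']; norm_num, t₀, e, ?_⟩
    intro h
    exact ht₀T ((hTmem t₀).mpr h)

/-- In a `2`-group of order at least `16` with a normal four-subgroup, the number of subgroups of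
order `2` is `≡ 3 (mod 4)`. -/
theorem card_two_modEq_three {G : Type u} [Group G] [Finite G] (hG : IsPGroup 2 G)
    (E : Subgroup G) [hEn : E.Normal] (hE : Nat.card E = 4) (hexp : ∀ ε ∈ E, ε * ε = 1)
    (h : Nat.card G ≠ 8 ∨ ∀ a b : G, a * b = b * a) :
    Nat.card {H : Subgroup G // Nat.card H = 2} ≡ 3 [MOD 4] := by
  have h1 := card_inv G
  rcases four_dvd_of_normal_four hG E hE hexp with h4 | ⟨h8, a, b, hab⟩
  · obtain ⟨k, hk⟩ := h4
    rw [hk] at h1
    have hk0 : k ≠ 0 := by
      rintro rfl
      omega
    have : Nat.card {H : Subgroup G // Nat.card H = 2} = 3 + 4 * (k - 1) := by omega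
    rw [this]
    exact ((Nat.modEq_iff_dvd' (by omega)).mpr ⟨k - 1, by omega⟩).symm
  · rcases h with h | h
    · exact absurd h8 h
    · exact absurd (h a b) hab

end Cfsg.Agent.Lib.Helper70.Kul2B
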