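import Mathlib
import Cfsg.Agent.Lib.Helper70.Kul2B
import Cfsg.Agent.Lib.Helper54.CyclicNormal
import Cfsg.Agent.Lib.Helper54.MaxClass
import Cfsg.Agent.S3919

/-! Cyclic maximal subgroups of `2`-groups and the count of involutions mod 4. -/

set_option autoImplicit false
universe u

namespace Cfsg.Agent.Lib.Helper70.Kul2C
open Subgroup
open scoped commutatorElement
open Cfsg.Agent.Lib.Helper2.Kul
open Cfsg.Agent.Lib.Helper54.UniqueSubgroup
open Cfsg.Agent.Lib.Helper54.CyclicNormal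
open Cfsg.Agent.Lib.Helper70.Kul2B

variable {G : Type u} [Group G] [Finite G]

/-- a noncyclic normal abelian subgroup of a `2`-group contains a normal four-subgroup -/
theorem exists_four (hG : IsPGroup 2 G) (A : Subgroup G) (hAn : A.Normal)
    (hAc : ∀ x ∈ A, ∀ y ∈ A, x * y = y * x) (hAnc : ¬ IsCyclic A) :
    ∃ E : Subgroup G, E.Normal ∧ Nat.card E = 4 ∧ ∀ ε ∈ E, ε * ε = 1 := by
  have : Fact (Nat.Prime 2) := ⟨Nat.prime_two⟩
  let W : Subgroup G :=
    { carrier := {x | x ∈ A ∧ x * x = 1}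
      mul_mem' := by
        rintro x y ⟨hx, hx2⟩ ⟨hy, hy2⟩
        refine ⟨A.mul_mem hx hy, ?_⟩
        calc x * y * (x * y) = x * (y * x) * y := by group
          _ = x * (x * y) * y := by rw [hAc y hy x hx]
          _ = (x * x) * (y * y) := by group
          _ = 1 := by rw [hx2, hy2, one_mul]
      one_mem' := ⟨A.one_mem, one_mul 1⟩
      inv_mem' := by
        rintro x ⟨hx, hx2⟩
        refine ⟨A.inv_mem hx, ?_⟩
        rw [← mul_inv_rev, hx2, inv_one] }
  have hWn : W.Normal := by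
    constructor
    rintro x ⟨hx, hx2⟩ g
    refine ⟨hAn.conj_mem x hx g, ?_⟩
    calc g * x * g⁻¹ * (g * x * g⁻¹) = g * (x * x) * g⁻¹ := by group
      _ = 1 := by rw [hx2]; group
  have hnui : ¬ UI 2 A := fun h =>
    hAnc (isCyclic_of_comm (hG.to_subgroup A) h
      (fun x y => Subtype.ext (hAc x x.2 y y.2)))
  unfold UI at hnui
  push Not at hnui
  obtain ⟨g, h, hg2, hh2, hg1, hhg⟩ := hnui
  have hgW : (g : G) ∈ W := ⟨g.2, by
    have := congrArg Subtype.val hg2
    rw [pow_two] at this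
    exact this⟩
  have hhW : (h : G) ∈ W := ⟨h.2, by
    have := congrArg Subtype.val hh2
    rw [pow_two] at this
    exact this⟩
  have hg1' : (g : G) ≠ 1 := fun h1 => hg1 (Subtype.ext h1)
  have hord : orderOf (g : G) = 2 :=
    orderOf_eq_prime (by rw [pow_two]; exact hgW.2) hg1'
  have hlt : zpowers (g : G) < W := by
    refine lt_of_le_of_ne (zpowers_le.mpr hgW) ?_
    intro heq
    apply hhg
    have h1 : (h : G) ∈ zpowers (g : G) := by rw [heq]; exact hhW
    obtain ⟨k, hk⟩ := mem_zpowers_iff.mp h1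
    exact mem_zpowers_iff.mpr ⟨k, Subtype.ext (by simpa using hk)⟩
  have hWcard : 4 ≤ Nat.card W := by
    have := Cfsg.Agent.Lib.Helper9.Narrow1.card_lt hG hlt
    rw [Nat.card_zpowers, hord] at this
    exact this
  have hWbot : (⊥ : Subgroup G) < W := by
    rw [bot_lt_iff_ne_bot]
    rintro h0
    rw [h0, Subgroup.card_bot] at hWcard
    omega
  obtain ⟨M₁, hM₁n, -, hM₁W, hM₁c, -⟩ :=
    Cfsg.Agent.Lib.Helper9.Narrow1.exists_step hG ⊥ W hWbot
  rw [Subgroup.card_bot, mul_one] at hM₁c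
  have hM₁lt : M₁ < W := by
    refine lt_of_le_of_ne hM₁W ?_
    rintro rfl
    omega
  obtain ⟨M₂, hM₂n, -, hM₂W, hM₂c, -⟩ :=
    Cfsg.Agent.Lib.Helper9.Narrow1.exists_step hG M₁ W hM₁lt
  rw [hM₁c] at hM₂c
  exact ⟨M₂, hM₂n, by rw [hM₂c], fun ε hε => (hM₂W hε).2⟩

/-- the dihedral / quaternion / semidihedral data -/
def MaxData (G : Type u) [Group G] (a x : G) (n : ℕ) : Prop :=
  1 ≤ n ∧ orderOf a = 2 ^ (n + 1) ∧ (zpowers a).Normal ∧ Nat.card G = 2 ^ (n + 2) ∧
    x ∉ zpowers a ∧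
    ((x * a * x⁻¹ = a⁻¹ ∧ (x * x = 1 ∨ x * x = a ^ 2 ^ n)) ∨
     (2 ≤ n ∧ x * a * x⁻¹ = a⁻¹ * a ^ 2 ^ n ∧ x * x = 1))

theorem exists_data (hG : IsPGroup 2 G) (hnc : ¬ IsCyclic G)
    (hno4 : ¬ ∃ E : Subgroup G, E.Normal ∧ Nat.card E = 4 ∧ ∀ ε ∈ E, ε * ε = 1) :
    ∃ (a x : G) (n : ℕ), MaxData G a x n := by
  have : Fact (Nat.Prime 2) := ⟨Nat.prime_two⟩
  have hn : ∀ A : Subgroup G, A.Normal → IsMulCommutative A → IsCyclic A := by
    intro A hAn hAc
    by_contra hAnc
    exact hno4 (exists_four hG A hAn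
      (fun x hx y hy => congrArg Subtype.val (mul_comm' (⟨x, hx⟩ : A) ⟨y, hy⟩)) hAnc)
  rcases cyclic_or_two hG hn with h | ⟨-, a, x, n, hn1, ha, hN, -, hcard, hx, hrel⟩
  · exact absurd h hnc
  · exact ⟨a, x, n, hn1, ha, hN, hcard, hx, hrel⟩

theorem class_of_data {a x : G} {n : ℕ} (h : MaxData G a x n) :
    Group.nilpotencyClass G = n + 1 := by
  have : Fact (Nat.Prime 2) := ⟨Nat.prime_two⟩
  obtain ⟨hn1, ha, hN, hcard, hx, hrel⟩ := h
  have hG : IsPGroup 2 G := IsPGroup.of_card hcard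
  have : Group.IsNilpotent G := hG.isNilpotent
  have h1 : (⊤ : Subgroup G).lowerCentralSeries n ≠ ⊥ := by
    apply Cfsg.Agent.S3919.lcs_ne_bot_of_data hG ha hN hn1 (x := x)
    rcases hrel with ⟨h, -⟩ | ⟨h2, h, -⟩
    · left; exact h
    · right; exact ⟨h2, h⟩
  have h2 : (⊤ : Subgroup G).lowerCentralSeries (n + 2 - 1) = ⊥ :=
    Cfsg.Agent.Lib.Helper54.MaxClass.lcs_eq_bot_of_card (p := 2) (n + 2) G hcard (by omega)
  have h1' : ¬ Group.nilpotencyClass G ≤ n := fun h =>
    h1 (Subgroup.lowerCentralSeries_eq_bot_iff_nilpotencyClass_le.mpr h)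
  rw [Subgroup.lowerCentralSeries_eq_bot_iff_nilpotencyClass_le] at h2
  omega

/-- A noncyclic `2`-group of order `2^m` whose class is not `m - 1` has `≡ 3 (mod 4)`
involutions. -/
theorem card_two_of_not_class {m : ℕ} (hm : Nat.card G = 2 ^ m) (hnc : ¬ IsCyclic G)
    (hcl : Group.nilpotencyClass G ≠ m - 1) :
    Nat.card {H : Subgroup G // Nat.card H = 2} ≡ 3 [MOD 4] := by
  have : Fact (Nat.Prime 2) := ⟨Nat.prime_two⟩
  have hG : IsPGroup 2 G := IsPGroup.of_card hm
  have : Group.IsNilpotent G := hG.isNilpotent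
  by_cases h4 : ∃ E : Subgroup G, E.Normal ∧ Nat.card E = 4 ∧ ∀ ε ∈ E, ε * ε = 1
  · obtain ⟨E, hEn, hE, hexp⟩ := h4
    apply card_two_modEq_three hG E hE hexp
    by_cases h8 : Nat.card G = 8
    · right
      by_contra hna
      push Not at hna
      obtain ⟨a, b, hab⟩ := hna
      apply hcl
      have hm3 : m = 3 := by
        have : 2 ^ m = 2 ^ 3 := by rw [← hm, h8]; norm_num
        exact Nat.pow_right_injective (le_refl 2) this
      subst hm3
      have h2 : (⊤ : Subgroup G).lowerCentralSeries (3 - 1) = ⊥ :=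
        Cfsg.Agent.Lib.Helper54.MaxClass.lcs_eq_bot_of_card (p := 2) 3 G hm (by omega)
      have h1 : (⊤ : Subgroup G).lowerCentralSeries 1 ≠ ⊥ := by
        intro h0
        apply hab
        have h3 : ⁅a, b⁆ ∈ (⊤ : Subgroup G).lowerCentralSeries (0 + 1) := by
          rw [Subgroup.lowerCentralSeries_succ]
          exact Subgroup.commutator_mem_commutator (Subgroup.mem_top a) (Subgroup.mem_top b)
        rw [zero_add, h0, Subgroup.mem_bot] at h3
        exact commutatorElement_eq_one_iff_mul_comm.mp h3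
      have h1' : ¬ Group.nilpotencyClass G ≤ 1 := fun h =>
        h1 (Subgroup.lowerCentralSeries_eq_bot_iff_nilpotencyClass_le.mpr h)
      rw [Subgroup.lowerCentralSeries_eq_bot_iff_nilpotencyClass_le] at h2
      omega
    · left; exact h8
  · exfalso
    obtain ⟨a, x, n, hdata⟩ := exists_data hG hnc h4
    have hc := class_of_data hdata
    have hmn : m = n + 2 := by
      have : 2 ^ m = 2 ^ (n + 2) := by rw [← hm, hdata.2.2.2.1]
      exact Nat.pow_right_injective (le_refl 2) this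
    apply hcl
    rw [hc, hmn]
    omega

/-- with the data and order at least `16`, the only cyclic subgroup of index `2` is `zpowers a` -/
theorem cyclic_max_of_data {a x : G} {n : ℕ} (h : MaxData G a x n) (hn2 : 2 ≤ n)
    (M : Subgroup G) (hM : M.index = 2) (hMc : IsCyclic M) : M = zpowers a := by
  have : Fact (Nat.Prime 2) := ⟨Nat.prime_two⟩
  obtain ⟨hn1, ha, hN, hcard, hx, hrel⟩ := h
  have hAidx : (zpowers a).index = 2 :=
    index_of_card (p := 2) hcard (by omega) (by rw [Nat.card_zpowers, ha]; congr 1)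
  have hMcard : Nat.card M = 2 ^ (n + 1) := by
    have := (card_of_index (p := 2) hcard hM).2
    rw [this]; congr 1
  -- elements outside `zpowers a` have order dividing 4
  have hout : ∀ y : G, y ∉ zpowers a → y ^ 4 = 1 := by
    intro y hy
    have hb : x⁻¹ * y ∈ zpowers a := by
      rw [Subgroup.mul_mem_iff_of_index_two hAidx]
      constructor
      · intro h1
        exact absurd (by simpa using (zpowers a).inv_mem h1) hx
      · intro h1
        exact absurd h1 hy
    set b := x⁻¹ * y with hbdef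
    have hyb : y = x * b := by rw [hbdef]; group
    have hsq : y * y = x * b * x⁻¹ * (x * x) * b := by rw [hyb]; group
    have hcomm : ∀ c ∈ zpowers a, c * b = b * c := fun c hc =>
      (commute_of_mem_zpowers hc hb).eq
    have h4 : y ^ 4 = (y * y) * (y * y) := by
      rw [show (4 : ℕ) = 2 * 2 from rfl, pow_mul, pow_two, pow_two]
    rw [h4]
    rcases hrel with ⟨h1, h2⟩ | ⟨-, h1, h2⟩
    · have hconj : x * b * x⁻¹ = b⁻¹ := by
        have h1' : x * a * x⁻¹ = a ^ (-1 : ℤ) := by rw [h1, zpow_neg_one]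
        rw [conj_mem_of_conj h1' hb, zpow_neg_one]
      have hxx : x * x ∈ zpowers a := by
        rcases h2 with h2 | h2
        · rw [h2]; exact one_mem _
        · rw [h2]; exact pow_mem (mem_zpowers a) _
      have hyy : y * y = x * x := by
        rw [hsq, hconj, mul_assoc, hcomm _ hxx, inv_mul_cancel_left]
      rw [hyy]
      rcases h2 with h2 | h2
      · rw [h2, one_mul]
      · rw [h2, ← pow_two]
        exact pow_pow_eq_one ha
    · have hconj : x * b * x⁻¹ = b⁻¹ * b ^ 2 ^ n := by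
        have h1' : x * a * x⁻¹ = a ^ (-1 + (2 ^ n : ℕ) : ℤ) := by
          rw [h1, zpow_add, zpow_neg_one, zpow_natCast]
        rw [conj_mem_of_conj h1' hb, zpow_add, zpow_neg_one, zpow_natCast]
      have hyy : y * y = b ^ 2 ^ n := by
        rw [hsq, hconj, h2, mul_one, mul_assoc, ← pow_succ, pow_succ', inv_mul_cancel_left]
      rw [hyy, ← pow_two, ← pow_mul, ← pow_succ]
      exact pow_mem_eq_one ha hb
  obtain ⟨⟨y, hyM⟩, hgen⟩ := hMc.exists_generator
  have hle : M ≤ zpowers y := by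
    intro u hu
    obtain ⟨k, hk⟩ := mem_zpowers_iff.mp (hgen ⟨u, hu⟩)
    exact mem_zpowers_iff.mpr ⟨k, by simpa using congrArg Subtype.val hk⟩
  have hyord : 2 ^ (n + 1) ≤ orderOf y := by
    rw [← hMcard, ← Nat.card_zpowers]
    exact Subgroup.card_le_of_le hle
  by_cases hyA : y ∈ zpowers a
  · apply Subgroup.eq_of_le_of_card_ge (hle.trans (zpowers_le.mpr hyA))
    rw [hMcard, Nat.card_zpowers, ha]
  · exfalso
    have h1 := orderOf_dvd_of_pow_eq_one (hout y hyA)
    have h2 := Nat.le_of_dvd (by norm_num) h1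
    have h3 : 2 ^ 3 ≤ 2 ^ (n + 1) := Nat.pow_le_pow_right (by norm_num) (by omega)
    omega

end Cfsg.Agent.Lib.Helper70.Kul2C
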