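import Mathlib
import Cfsg.Agent.Lib.Helper70.Kul2A
import Cfsg.Agent.Lib.Helper70.Kul2C

/-! Cyclic maximal subgroups of `2`-groups: parity of their number. -/

set_option autoImplicit false
universe u

namespace Cfsg.Agent.Lib.Helper70.Kul2D
open Subgroup
open Cfsg.Agent.Lib.Helper2.Kul
open Cfsg.Agent.Lib.Helper54.CyclicNormal
open Cfsg.Agent.Lib.Helper70.Kul2B
open Cfsg.Agent.Lib.Helper70.Kul2C

variable {G : Type u} [Group G] [Finite G]

omit [Finite G] in
theorem sq_one_zpowers {w : G} (hw : w * w = 1) : ∀ g ∈ zpowers w, g = 1 ∨ g = w := by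
  intro g hg
  obtain ⟨k, hk⟩ := mem_zpowers_iff.mp hg
  rcases Int.emod_two_eq_zero_or_one k with h | h
  · left
    rw [← hk, ← Int.emod_add_mul_ediv k 2, h, zero_add, zpow_mul, zpow_two, hw, one_zpow]
  · right
    rw [← hk]
    conv_lhs => rw [← Int.emod_add_mul_ediv k 2, h]
    rw [zpow_add, zpow_one, zpow_mul, zpow_two, hw, one_zpow, mul_one]

theorem good_cyclic_max {m : ℕ} (hm : Nat.card G = 2 ^ m) (hm3 : 3 ≤ m)
    (h4 : 4 ∣ Nat.card {g : G // g * g = 1}) {a : G} (hA : (zpowers a).index = 2) :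
    ∃ t : G, t ∉ zpowers a ∧ t * t = 1 ∧
      ∀ M : Subgroup G, M.index = 2 → (IsCyclic M ↔ t ∉ M) := by
  classical
  have : Fact (Nat.Prime 2) := ⟨Nat.prime_two⟩
  have hG : IsPGroup 2 G := IsPGroup.of_card hm
  have hAn : (zpowers a).Normal := Subgroup.normal_of_index_eq_two hA
  have hAcard : Nat.card (zpowers a) = 2 ^ (m - 1) := (card_of_index (p := 2) hm hA).2
  have ha : orderOf a = 2 ^ ((m - 2) + 1) := by
    rw [← Nat.card_zpowers, hAcard]; congr 1; omega
  set z := a ^ 2 ^ (m - 2) with hz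
  have hz2 : z * z = 1 := by rw [← pow_two]; exact pow_pow_eq_one ha
  have hz1 : z ≠ 1 := pow_ne_one ha
  have hzA : z ∈ zpowers a := pow_mem (mem_zpowers a) _
  have hsolA : ∀ g ∈ zpowers a, g * g = 1 → g = 1 ∨ g = z := by
    intro g hg hg2
    exact sq_one_zpowers hz2 g
      (mem_zpowers_pow_of_pow_eq_one ha hg (by rw [pow_two]; exact hg2))
  have hS : Nat.card {g : G // g * g = 1} = Set.ncard {g : G | g * g = 1} :=
    Nat.card_coe_set_eq _
  -- existence of `t`
  have hex : ∃ t : G, t ∉ zpowers a ∧ t * t = 1 := by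
    by_contra hno
    push Not at hno
    have hsub : {g : G | g * g = 1} ⊆ {1, z} := by
      intro g hg
      have hgA : g ∈ zpowers a := by
        by_contra hgA
        exact hno g hgA hg
      rcases hsolA g hgA hg with h | h
      · rw [h]; simp
      · rw [h]; simp
    have hcard : Nat.card {g : G // g * g = 1} ≤ 2 := by
      rw [hS]
      calc Set.ncard {g : G | g * g = 1} ≤ Set.ncard ({1, z} : Set G) :=
            Set.ncard_le_ncard hsub (Set.toFinite _)
        _ = 2 := Set.ncard_pair hz1.symm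
    have hpos : 0 < Nat.card {g : G // g * g = 1} :=
      Nat.card_pos_iff.mpr ⟨⟨⟨1, one_mul 1⟩⟩, inferInstance⟩
    obtain ⟨c, hc⟩ := h4
    omega
  obtain ⟨t, htA, ht2⟩ := hex
  have ht' : t⁻¹ = t := inv_eq_of_mul_eq_one_left ht2
  have hcommA : ∀ b ∈ zpowers a, ∀ c ∈ zpowers a, b * c = c * b := fun b hb c hc =>
    (commute_of_mem_zpowers hb hc).eq
  let K : Subgroup G :=
    { carrier := {b | b ∈ zpowers a ∧ t * b * t⁻¹ = b⁻¹}
      mul_mem' := by
        rintro b c ⟨hb, hb'⟩ ⟨hc, hc'⟩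
        refine ⟨mul_mem hb hc, ?_⟩
        calc t * (b * c) * t⁻¹ = (t * b * t⁻¹) * (t * c * t⁻¹) := by group
          _ = b⁻¹ * c⁻¹ := by rw [hb', hc']
          _ = (c * b)⁻¹ := by rw [mul_inv_rev]
          _ = (b * c)⁻¹ := by rw [hcommA b hb c hc]
      one_mem' := ⟨one_mem _, by group⟩
      inv_mem' := by
        rintro b ⟨hb, hb'⟩
        refine ⟨inv_mem hb, ?_⟩
        calc t * b⁻¹ * t⁻¹ = (t * b * t⁻¹)⁻¹ := by group
          _ = b⁻¹⁻¹ := by rw [hb'] }
  have hKmem : ∀ b : G, b ∈ K ↔ b ∈ zpowers a ∧ t * b * t⁻¹ = b⁻¹ := fun b => Iff.rfl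
  have hcount : Nat.card {g : G // g * g = 1} = 2 + Nat.card K := by
    have h2 : {g : G | g * g = 1} = {1, z} ∪ (fun b => t * b) '' (K : Set G) := by
      ext g
      simp only [Set.mem_ofPred_eq, Set.mem_union, Set.mem_insert_iff, Set.mem_singleton_iff,
        Set.mem_image, SetLike.mem_coe]
      constructor
      · intro hg
        by_cases hgA : g ∈ zpowers a
        · left; exact hsolA g hgA hg
        · right
          have hb : t⁻¹ * g ∈ zpowers a := by
            rw [Subgroup.mul_mem_iff_of_index_two hA]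
            constructor
            · intro h; exact absurd (by simpa using inv_mem h) htA
            · intro h; exact absurd h hgA
          refine ⟨t⁻¹ * g, (hKmem _).mpr ⟨hb, ?_⟩, by group⟩
          have hg' : g⁻¹ = g := inv_eq_of_mul_eq_one_left hg
          rw [mul_inv_rev, inv_inv, hg', ht', ← mul_assoc, ht2, one_mul]
      · rintro ((h | h) | ⟨b, hbK, rfl⟩)
        · rw [h, one_mul]
        · rw [h]; exact hz2
        · obtain ⟨hb, hb'⟩ := (hKmem b).mp hbK
          calc t * b * (t * b) = (t * b * t⁻¹) * (t * t) * b := by group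
            _ = 1 := by rw [hb', ht2, mul_one, inv_mul_cancel]
    have hdisj : Disjoint ({1, z} : Set G) ((fun b => t * b) '' (K : Set G)) := by
      rw [Set.disjoint_left]
      rintro g hg ⟨b, hb, rfl⟩
      have hgA : t * b ∈ zpowers a := by
        rcases hg with h | h
        · have h' : t * b = 1 := h
          rw [h']; exact one_mem _
        · have h' : t * b = z := h
          rw [h']; exact hzA
      exact htA (by simpa using mul_mem hgA (inv_mem ((hKmem b).mp hb).1))
    rw [hS, h2, Set.ncard_union_eq hdisj (Set.toFinite _) (Set.toFinite _),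
      Set.ncard_pair hz1.symm, Set.ncard_image_of_injective _ (mul_right_injective t)]
    congr 1
  obtain ⟨j, hj⟩ := IsPGroup.iff_card.mp (hG.to_subgroup K)
  have hK2 : Nat.card K = 2 := by
    rw [hcount, hj] at h4
    rcases j with _ | _ | j
    · norm_num at h4
    · rw [hj]; norm_num
    · exfalso
      rw [pow_succ, pow_succ] at h4
      omega
  set c := a ^ 2 ^ (m - 3) with hc
  have hcc : c * c = z := by
    rw [hc, hz, ← pow_add, ← two_mul, ← pow_succ']; congr 2; omega
  have hcK : ¬ (t * c * t⁻¹ = c⁻¹) := by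
    intro hck
    have hcK : c ∈ K := (hKmem c).mpr ⟨pow_mem (mem_zpowers a) _, hck⟩
    have h1 : (⟨c, hcK⟩ : K) ^ Nat.card K = 1 := pow_card_eq_one'
    rw [hK2] at h1
    have h2 := congrArg Subtype.val h1
    simp only [Subgroup.coe_pow, Subgroup.coe_one] at h2
    rw [pow_two, hcc] at h2
    exact hz1 h2
  have hconjA : ∀ b ∈ zpowers a, t * b * t⁻¹ ∈ zpowers a := fun b hb => hAn.conj_mem b hb t
  have hu : ¬ ((t * a) ^ 2 ^ (m - 2) = 1) := by
    intro hu
    apply hcK
    have h1 : (t * a) ^ 2 ^ (m - 2) = ((t * a * t⁻¹) * a) ^ 2 ^ (m - 3) := by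
      have : 2 ^ (m - 2) = 2 * 2 ^ (m - 3) := by rw [← pow_succ']; congr 1; omega
      rw [this, pow_mul, pow_two]
      congr 1
      rw [ht']; group
    have h2 : ((t * a * t⁻¹) * a) ^ 2 ^ (m - 3) =
        (t * a * t⁻¹) ^ 2 ^ (m - 3) * a ^ 2 ^ (m - 3) :=
      (commute_of_mem_zpowers (hconjA a (mem_zpowers a)) (mem_zpowers a)).mul_pow _
    have h3 : (t * a * t⁻¹) ^ 2 ^ (m - 3) = t * c * t⁻¹ := by
      rw [hc]; exact conj_pow
    rw [h1, h2, h3] at hu
    exact eq_inv_of_mul_eq_one_left hu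
  have huord : 2 ^ (m - 1) ≤ orderOf (t * a) := by
    have h1 : orderOf (t * a) ∣ 2 ^ m := by rw [← hm]; exact orderOf_dvd_natCard _
    obtain ⟨j, hjm, hj⟩ := (Nat.dvd_prime_pow Nat.prime_two).mp h1
    rw [hj]
    apply Nat.pow_le_pow_right (by norm_num)
    by_contra hlt
    apply hu
    have : 2 ^ (m - 2) = 2 ^ j * 2 ^ (m - 2 - j) := by rw [← pow_add]; congr 1; omega
    rw [this, pow_mul, ← hj, pow_orderOf_eq_one, one_pow]
  refine ⟨t, htA, ht2, fun M hM => ?_⟩
  have hMcard : Nat.card M = 2 ^ (m - 1) := (card_of_index (p := 2) hm hM).2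
  constructor
  · intro hMc htM
    obtain ⟨⟨y, hyM⟩, hgen⟩ := hMc.exists_generator
    have hle : M ≤ zpowers y := by
      intro u hu
      obtain ⟨k, hk⟩ := mem_zpowers_iff.mp (hgen ⟨u, hu⟩)
      exact mem_zpowers_iff.mpr ⟨k, by simpa using congrArg Subtype.val hk⟩
    have hMy : M = zpowers y := le_antisymm hle (zpowers_le.mpr hyM)
    have hy : orderOf y = 2 ^ ((m - 2) + 1) := by
      rw [← Nat.card_zpowers, ← hMy, hMcard]; congr 1; omega
    have hzM : z ∈ M := by
      rw [← hcc]; exact Subgroup.mul_self_mem_of_index_two hM c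
    have h1 : t ∈ zpowers (y ^ 2 ^ (m - 2)) :=
      mem_zpowers_pow_of_pow_eq_one hy (hle htM) (by rw [pow_two]; exact ht2)
    have h2 : z ∈ zpowers (y ^ 2 ^ (m - 2)) :=
      mem_zpowers_pow_of_pow_eq_one hy (hle hzM) (by rw [pow_two]; exact hz2)
    have hw2 : (y ^ 2 ^ (m - 2)) * (y ^ 2 ^ (m - 2)) = 1 := by
      rw [← pow_two]; exact pow_pow_eq_one hy
    rcases sq_one_zpowers hw2 t h1 with h | h
    · exact htA (by rw [h]; exact one_mem _)
    · rcases sq_one_zpowers hw2 z h2 with h' | h'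
      · exact hz1 h'
      · exact htA (by rw [h, ← h']; exact hzA)
  · intro htM
    by_cases haM : a ∈ M
    · have : zpowers a = M :=
        Subgroup.eq_of_le_of_card_ge (zpowers_le.mpr haM) (by rw [hMcard, hAcard])
      rw [← this]; infer_instance
    · have huM : t * a ∈ M := by
        rw [Subgroup.mul_mem_iff_of_index_two hM]
        exact ⟨fun h => absurd h htM, fun h => absurd h haM⟩
      have : zpowers (t * a) = M :=
        Subgroup.eq_of_le_of_card_ge (zpowers_le.mpr huM)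
          (by rw [hMcard, Nat.card_zpowers]; exact huord)
      rw [← this]; infer_instance

theorem cyc_one {m : ℕ} (hm : Nat.card G = 2 ^ m) (hm4 : 4 ≤ m) (hnc : ¬ IsCyclic G)
    (hs : ¬ Nat.card {H : Subgroup G // Nat.card H = 2} ≡ 3 [MOD 4]) :
    Nat.card {M : Subgroup G // M.index = 2 ∧ IsCyclic M} = 1 := by
  have : Fact (Nat.Prime 2) := ⟨Nat.prime_two⟩
  have hG : IsPGroup 2 G := IsPGroup.of_card hm
  have hno4 : ¬ ∃ E : Subgroup G, E.Normal ∧ Nat.card E = 4 ∧ ∀ ε ∈ E, ε * ε = 1 := by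
    rintro ⟨E, hEn, hE, hexp⟩
    apply hs
    apply card_two_modEq_three hG E hE hexp
    left
    rw [hm]
    intro h8
    have h9 : 2 ^ m = 2 ^ 3 := by rw [h8]; norm_num
    have := Nat.pow_right_injective (le_refl 2) h9
    omega
  obtain ⟨a, x, n, hdata⟩ := exists_data hG hnc hno4
  have h9 : 2 ^ m = 2 ^ (n + 2) := by rw [← hm, hdata.2.2.2.1]
  have hmn : m = n + 2 := Nat.pow_right_injective (le_refl 2) h9
  have hAidx : (zpowers a).index = 2 :=
    index_of_card (p := 2) hm (by omega) (by rw [Nat.card_zpowers, hdata.2.1]; congr 1; omega)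
  rw [Nat.card_eq_one_iff_unique]
  refine ⟨⟨fun M N => Subtype.ext ?_⟩, ⟨⟨zpowers a, hAidx, inferInstance⟩⟩⟩
  rw [cyclic_max_of_data hdata (by omega) M.1 M.2.1 M.2.2,
    cyclic_max_of_data hdata (by omega) N.1 N.2.1 N.2.2]

theorem cyc_even {m : ℕ} (hm : Nat.card G = 2 ^ m) (hm3 : 3 ≤ m) (hnc : ¬ IsCyclic G)
    (hs : Nat.card {H : Subgroup G // Nat.card H = 2} ≡ 3 [MOD 4]) :
    Even (Nat.card {M : Subgroup G // M.index = 2 ∧ IsCyclic M}) := by
  classical
  have : Fact (Nat.Prime 2) := ⟨Nat.prime_two⟩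
  have hG : IsPGroup 2 G := IsPGroup.of_card hm
  by_cases hex : ∃ M : Subgroup G, M.index = 2 ∧ IsCyclic M
  · obtain ⟨M₀, hM₀, hM₀c⟩ := hex
    obtain ⟨⟨y, hyM⟩, hgen⟩ := hM₀c.exists_generator
    have hle : M₀ ≤ zpowers y := by
      intro u hu
      obtain ⟨k, hk⟩ := mem_zpowers_iff.mp (hgen ⟨u, hu⟩)
      exact mem_zpowers_iff.mpr ⟨k, by simpa using congrArg Subtype.val hk⟩
    have hMy : M₀ = zpowers y := le_antisymm hle (zpowers_le.mpr hyM)
    rw [hMy] at hM₀
    have h4 : 4 ∣ Nat.card {g : G // g * g = 1} := by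
      rw [← card_inv G]
      have := hs
      unfold Nat.ModEq at this
      omega
    obtain ⟨t, htA, ht2, hiff⟩ := good_cyclic_max hm hm3 h4 hM₀
    have := Fintype.ofFinite (Subgroup G)
    have e1 : Nat.card {M : Subgroup G // M.index = 2 ∧ zpowers t ≤ M} +
        Nat.card {M : Subgroup G // M.index = 2 ∧ IsCyclic M} =
        Nat.card {M : Subgroup G // M.index = 2} := by
      rw [← card_filter_eq, ← card_filter_eq, ← card_filter_eq]
      have h1 : (Finset.univ.filter (fun M : Subgroup G => M.index = 2 ∧ IsCyclic M)) =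
          (Finset.univ.filter (fun M : Subgroup G => M.index = 2)).filter
            (fun M => ¬ (zpowers t ≤ M)) := by
        ext M
        simp only [Finset.mem_filter, Finset.mem_univ, true_and]
        constructor
        · rintro ⟨h1, h2⟩
          exact ⟨h1, fun h => (hiff M h1).mp h2 (h (mem_zpowers t))⟩
        · rintro ⟨h1, h2⟩
          exact ⟨h1, (hiff M h1).mpr (fun h => h2 (zpowers_le.mpr h))⟩
      have h2 : (Finset.univ.filter (fun M : Subgroup G => M.index = 2 ∧ zpowers t ≤ M)) =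
          (Finset.univ.filter (fun M : Subgroup G => M.index = 2)).filter
            (fun M => (zpowers t ≤ M)) := by
        rw [Finset.filter_filter]
      rw [h1, h2]
      exact Finset.card_filter_add_card_filter_not _
    have h3 : Nat.card {M : Subgroup G // M.index = 2} ≡ 3 [MOD 4] := max_card_modEq hG hnc
    have h5 := mu_one hG (zpowers t)
    obtain ⟨c, hc⟩ := IsPGroup.iff_card.mp
      ((isPGroup_Dl 2 (P := G)).to_subgroup (DH 2 (zpowers t)))
    have ht1 : t ≠ 1 := fun h => htA (by rw [h]; exact one_mem _)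
    have hto : orderOf t = 2 := orderOf_eq_prime (by rw [pow_two]; exact ht2) ht1
    obtain ⟨M₁, hM₁, hM₁t⟩ := exists_max_ge (p := 2) hm (a := 1) (by omega) (zpowers t)
      (by rw [Nat.card_zpowers, hto]; rfl)
    have hpos : 0 < Nat.card {M : Subgroup G // M.index = 2 ∧ zpowers t ≤ M} :=
      Nat.card_pos_iff.mpr ⟨⟨⟨M₁, hM₁, hM₁t⟩⟩, inferInstance⟩
    have h6 : (2 - 1 : ℕ) = 1 := rfl
    rw [hc, h6, mul_one] at h5
    have hodd : Nat.card {M : Subgroup G // M.index = 2 ∧ zpowers t ≤ M} % 2 = 1 := by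
      rcases c with _ | c
      · rw [pow_zero] at h5; omega
      · rw [pow_succ] at h5; omega
    unfold Nat.ModEq at h3
    rw [Nat.even_iff]
    omega
  · have : IsEmpty {M : Subgroup G // M.index = 2 ∧ IsCyclic M} :=
      ⟨fun M => hex ⟨M.1, M.2⟩⟩
    rw [Nat.card_of_isEmpty]; exact ⟨0, rfl⟩

end Cfsg.Agent.Lib.Helper70.Kul2D
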