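import Mathlib
import Cfsg.Agent.Lib.Helper70.Kul2D

/-! Kulakoff's theorem for `p = 2`: the main induction. -/

set_option autoImplicit false
universe u

namespace Cfsg.Agent.Lib.Helper70.Kul2E
open Subgroup
open Cfsg.Agent.Lib.Helper2.Kul
open Cfsg.Agent.Lib.Helper70.Kul2B
open Cfsg.Agent.Lib.Helper70.Kul2C
open Cfsg.Agent.Lib.Helper70.Kul2D

/-- In a noncyclic `2`-group of order `2^m` the number of subgroups of order `2^a`,
`1 ≤ a ≤ m - 2`, is congruent mod `4` to the number of subgroups of order `2`. -/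
theorem main : ∀ (n : ℕ) (P : Type u) [Group P] [Finite P], Nat.card P = n → ¬ IsCyclic P →
    ∀ m : ℕ, Nat.card P = 2 ^ m → ∀ a : ℕ, 1 ≤ a → a + 2 ≤ m →
      Nat.card {H : Subgroup P // Nat.card H = 2 ^ a} ≡
        Nat.card {H : Subgroup P // Nat.card H = 2 ^ 1} [MOD 4] := by
  intro n
  induction n using Nat.strong_induction_on with
  | _ n ih =>
  intro P _ _ hn hnc m hm a ha ham
  classical
  have : Fact (Nat.Prime 2) := ⟨Nat.prime_two⟩
  have hP : IsPGroup 2 P := IsPGroup.of_card hm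
  have := Fintype.ofFinite (Subgroup P)
  set Γ : Finset (Subgroup P) := Finset.univ.filter (fun M => M.index = 2) with hΓ
  have hΓ' : ∀ M, M ∈ Γ ↔ M.index = 2 := by
    intro M; simp [hΓ]
  have hΓcard : Γ.card = Nat.card {M : Subgroup P // M.index = 2} := card_filter_eq _
  have e_a : ∑ M ∈ Γ, Nat.card {H : Subgroup M // Nat.card H = 2 ^ a} ≡
      Nat.card {H : Subgroup P // Nat.card H = 2 ^ a} + 2 [MOD 4] :=
    Kul2A.enum hP hnc hm ham Γ hΓ'
  have e_1 : ∑ M ∈ Γ, Nat.card {H : Subgroup M // Nat.card H = 2 ^ 1} ≡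
      Nat.card {H : Subgroup P // Nat.card H = 2 ^ 1} + 2 [MOD 4] :=
    Kul2A.enum hP hnc hm (a := 1) (by omega) Γ hΓ'
  suffices hsum : ∑ M ∈ Γ, Nat.card {H : Subgroup M // Nat.card H = 2 ^ a} ≡
      ∑ M ∈ Γ, Nat.card {H : Subgroup M // Nat.card H = 2 ^ 1} [MOD 4] by
    exact Nat.ModEq.add_right_cancel' 2 (e_a.symm.trans (hsum.trans e_1))
  by_cases hcase : a + 3 ≤ m
  · apply Nat.ModEq.sum
    intro M hM
    rw [hΓ'] at hM
    have hcM := (card_of_index (p := 2) hm hM).2
    by_cases hc : IsCyclic M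
    · rw [cyclic_count hc a (by rw [hcM]; exact pow_dvd_pow 2 (by omega)),
        cyclic_count hc 1 (by rw [hcM]; exact pow_dvd_pow 2 (by omega))]
    · have hlt : Nat.card M < n := by
        rw [hcM, ← hn, hm]; exact Nat.pow_lt_pow_right (by norm_num) (by omega)
      exact ih (Nat.card M) hlt M rfl hc (m - 1) hcM a ha (by omega)
  by_cases ha1 : a = 1
  · subst ha1; exact Nat.ModEq.refl _
  have hma : m = a + 2 := by omega
  have ha2 : 2 ≤ a := by omega
  -- the local data
  let f : Subgroup P → ℕ := fun M => Nat.card {H : Subgroup M // Nat.card H = 2 ^ a}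
  let g : Subgroup P → ℕ := fun M => Nat.card {H : Subgroup M // Nat.card H = 2 ^ 1}
  have hcyc : ∀ M ∈ Γ, IsCyclic M → f M = 1 ∧ g M = 1 := by
    intro M hM hc
    rw [hΓ'] at hM
    have hcM := (card_of_index (p := 2) hm hM).2
    exact ⟨cyclic_count hc a (by rw [hcM]; exact pow_dvd_pow 2 (by omega)),
      cyclic_count hc 1 (by rw [hcM]; exact pow_dvd_pow 2 (by omega))⟩
  have hnoncyc : ∀ M ∈ Γ, ¬ IsCyclic M → f M % 4 = 3 := by
    intro M hM hc
    rw [hΓ'] at hM
    have hcM := (card_of_index (p := 2) hm hM).2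
    have e : Nat.card {H : Subgroup M // Nat.card H = 2 ^ a} =
        Nat.card {H : Subgroup M // H.index = 2} := by
      refine Nat.card_congr (Equiv.subtypeEquivRight fun H => ?_)
      constructor
      · intro h
        exact index_of_card (p := 2) hcM (by omega) (by rw [h]; congr 1; omega)
      · intro h
        rw [(card_of_index (p := 2) hcM h).2]; congr 1; omega
    have h3 : Nat.card {H : Subgroup M // H.index = 2} ≡ 3 [MOD 4] :=
      max_card_modEq (hP.to_subgroup M) hc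
    show Nat.card {H : Subgroup M // Nat.card H = 2 ^ a} % 4 = 3
    rw [e]
    exact h3
  have hgodd : ∀ M ∈ Γ, g M % 2 = 1 := by
    intro M hM
    rw [hΓ'] at hM
    have hcM := (card_of_index (p := 2) hm hM).2
    have h1 : Nat.card {H : Subgroup M // Nat.card H = 2 ^ 1} ≡ 1 [MOD 2] :=
      Cfsg.Agent.Lib.Helper91.SubCount.card_subgroups_modEq_one M 2 1 Nat.prime_two
        (by rw [hcM]; exact pow_dvd_pow 2 (by omega))
    exact h1
  -- the three finsets
  set B : Finset (Subgroup P) := Γ.filter (fun M => g M % 4 = 1) with hB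
  set C : Finset (Subgroup P) := Γ.filter (fun M => IsCyclic M) with hC
  set D : Finset (Subgroup P) := Γ.filter (fun M => g M % 4 = 1 ∧ ¬ IsCyclic M) with hD
  have hBCD : B.card = C.card + D.card := by
    have h1 : B.filter (fun M : Subgroup P => IsCyclic M) = C := by
      ext M
      simp only [hB, hC, Finset.mem_filter]
      constructor
      · rintro ⟨⟨h1, -⟩, h2⟩; exact ⟨h1, h2⟩
      · rintro ⟨h1, h2⟩
        refine ⟨⟨h1, ?_⟩, h2⟩
        rw [(hcyc M h1 h2).2]
    have h2 : B.filter (fun M : Subgroup P => ¬ IsCyclic M) = D := by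
      ext M
      simp only [hB, hD, Finset.mem_filter]
      tauto
    rw [← h1, ← h2]
    exact (Finset.card_filter_add_card_filter_not _).symm
  have hsumf : ∑ M ∈ Γ, f M ≡ ∑ M ∈ Γ, g M + 2 * D.card [MOD 4] := by
    have h1 : ∑ M ∈ Γ, g M + 2 * D.card =
        ∑ M ∈ Γ, (g M + 2 * (if (g M % 4 = 1 ∧ ¬ IsCyclic M) then 1 else 0)) := by
      have hDc : D.card = ∑ M ∈ Γ, (if (g M % 4 = 1 ∧ ¬ IsCyclic M) then 1 else 0) :=
        Finset.card_filter _ _
      rw [Finset.sum_add_distrib, ← Finset.mul_sum, ← hDc]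
    rw [h1]
    apply Nat.ModEq.sum
    intro M hM
    have hg := hgodd M hM
    by_cases hc : IsCyclic M
    · obtain ⟨h1, h2⟩ := hcyc M hM hc
      rw [if_neg (by tauto), h1, h2]
    · have hf := hnoncyc M hM hc
      by_cases h41 : g M % 4 = 1
      · rw [if_pos ⟨h41, hc⟩]
        unfold Nat.ModEq
        omega
      · rw [if_neg (by tauto)]
        unfold Nat.ModEq
        omega
  have hsumg : ∑ M ∈ Γ, g M ≡ 3 * Γ.card + 2 * B.card [MOD 4] := by
    have h1 : 3 * Γ.card + 2 * B.card =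
        ∑ M ∈ Γ, (3 + 2 * (if g M % 4 = 1 then 1 else 0)) := by
      have hBc : B.card = ∑ M ∈ Γ, (if g M % 4 = 1 then 1 else 0) := Finset.card_filter _ _
      rw [Finset.sum_add_distrib, ← Finset.mul_sum, ← hBc, Finset.sum_const,
        smul_eq_mul, mul_comm]
    rw [h1]
    apply Nat.ModEq.sum
    intro M hM
    have hg := hgodd M hM
    by_cases h41 : g M % 4 = 1
    · rw [if_pos h41]
      unfold Nat.ModEq
      omega
    · rw [if_neg h41]
      unfold Nat.ModEq
      omega
  have hΓmod : Γ.card ≡ 3 [MOD 4] := by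
    rw [hΓcard]; exact max_card_modEq hP hnc
  have hCcard : C.card = Nat.card {M : Subgroup P // M.index = 2 ∧ IsCyclic M} := by
    rw [hC, hΓ, Finset.filter_filter]; exact card_filter_eq _
  have hs1odd : Nat.card {H : Subgroup P // Nat.card H = 2 ^ 1} ≡ 1 [MOD 2] :=
    Cfsg.Agent.Lib.Helper91.SubCount.card_subgroups_modEq_one P 2 1 Nat.prime_two
      (by rw [hm]; exact pow_dvd_pow 2 (by omega))
  have hDeven : D.card % 2 = 0 := by
    have e_1' : ∑ M ∈ Γ, g M ≡
        Nat.card {H : Subgroup P // Nat.card H = 2 ^ 1} + 2 [MOD 4] := e_1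
    by_cases hs : Nat.card {H : Subgroup P // Nat.card H = 2} ≡ 3 [MOD 4]
    · have hce := cyc_even hm (by omega) hnc hs
      rw [← hCcard, Nat.even_iff] at hce
      have hs' : Nat.card {H : Subgroup P // Nat.card H = 2 ^ 1} ≡ 3 [MOD 4] := hs
      unfold Nat.ModEq at hs' e_1' hsumg hΓmod
      omega
    · have hc1 := cyc_one hm (by omega) hnc hs
      rw [← hCcard] at hc1
      have hs' : ¬ Nat.card {H : Subgroup P // Nat.card H = 2 ^ 1} ≡ 3 [MOD 4] := hs
      unfold Nat.ModEq at hs' e_1' hsumg hΓmod hs1odd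
      omega
  show ∑ M ∈ Γ, f M ≡ ∑ M ∈ Γ, g M [MOD 4]
  unfold Nat.ModEq at hsumf ⊢
  omega

end Cfsg.Agent.Lib.Helper70.Kul2E
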