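import Mathlib
import Cfsg.Agent.Lib.Helper56.PEStmt

/-!
# S2276: small tools for the explicit pieces (helper70)
-/

set_option autoImplicit false

namespace Cfsg.Agent.Lib.Helper70.PELib

open Equiv Equiv.Perm Cfsg.Agent.Lib.Helper56.PEStmt

/-- Non-solvability of `closure {a, b}` from a certificate given by three elements. -/
theorem ns_closure {G : Type} [Group G] (hNS : NSCert) (a b x y z : G)
    (hx : x ∈ Subgroup.closure ({a, b} : Set G)) (hy : y ∈ Subgroup.closure ({a, b} : Set G))
    (hz : z ∈ Subgroup.closure ({a, b} : Set G)) (hx1 : x ≠ 1)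
    (key : x = z * (x * (y * x * y⁻¹) * x⁻¹ * (y * x * y⁻¹)⁻¹) * z⁻¹) :
    ¬ Group.IsSolvable ↥(Subgroup.closure ({a, b} : Set G)) :=
  hNS _ x y z hx hy hz hx1 key

theorem mem_a {G : Type} [Group G] (a b : G) : a ∈ Subgroup.closure ({a, b} : Set G) :=
  Subgroup.subset_closure (by simp)

theorem mem_b {G : Type} [Group G] (a b : G) : b ∈ Subgroup.closure ({a, b} : Set G) :=
  Subgroup.subset_closure (by simp)

/-- An element `x ≠ 1` with `x ^ m = 1`, `m` prime to `p`, does not have `p`-power order. -/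
theorem not_pow {G : Type} [Group G] (p : ℕ) (x : G) (m : ℕ) (hm : x ^ m = 1)
    (hco : Nat.Coprime p m) (hx : x ≠ 1) : ¬ ∃ k : ℕ, orderOf x = p ^ k := by
  rintro ⟨k, hk⟩
  have h1 : orderOf x ∣ m := orderOf_dvd_of_pow_eq_one hm
  rw [hk] at h1
  have h2 : p ^ k = 1 := (Nat.Coprime.pow_left k hco).eq_one_of_dvd h1
  rw [h2] at hk
  exact hx (orderOf_eq_one_iff.mp hk)

/-- Extension of a permutation along an injection: same cycle type, trivial off the range. -/
theorem exists_ext {γ β : Type} [Fintype γ] [DecidableEq γ] [Fintype β] [DecidableEq β]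
    (ι : γ → β) (hι : Function.Injective ι) (g : Perm γ) :
    ∃ T : Perm β, (∀ b, T (ι b) = ι (g b)) ∧ (∀ y, y ∉ Set.range ι → T y = y) ∧
      T.cycleType = g.cycleType := by
  classical
  refine ⟨g.extendDomain (Equiv.ofInjective ι hι), ?_, ?_, ?_⟩
  · intro b
    have h := Equiv.Perm.extendDomain_apply_image g (Equiv.ofInjective ι hι) b
    simpa using h
  · intro y hy
    exact Equiv.Perm.extendDomain_apply_not_subtype g (Equiv.ofInjective ι hι) hy
  · exact Equiv.Perm.cycleType_extendDomain (Equiv.ofInjective ι hι)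

/-- A permutation of prescribed cycle type fixing a given finite set pointwise. -/
theorem exists_rho {β : Type} [Fintype β] [DecidableEq β] (s : Finset β) (μ : Multiset ℕ)
    (h2 : ∀ a ∈ μ, 2 ≤ a) (hs : s.card + μ.sum ≤ Fintype.card β) :
    ∃ ρ : Perm β, ρ.cycleType = μ ∧ ∀ y ∈ s, ρ y = y := by
  classical
  have hcard : Fintype.card {y // ¬ y ∈ s} = Fintype.card β - s.card := by
    rw [Fintype.card_subtype_compl, Fintype.card_coe]
  obtain ⟨g, hg⟩ := (Equiv.Perm.exists_with_cycleType_iff (α := {y // ¬ y ∈ s})).mpr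
    ⟨by omega, h2⟩
  refine ⟨Equiv.Perm.ofSubtype g, ?_, ?_⟩
  · rw [Equiv.Perm.cycleType_ofSubtype, hg]
  · intro y hy
    exact Equiv.Perm.ofSubtype_apply_of_not_mem g (by simpa using hy)

/-- Two candidates whose products with `c` have fixed point sets differing by one point:
one of the products is not a `p`-element. -/
theorem two_cand (hFix : FixCert) {β : Type} [DecidableEq β] [Fintype β] (p : ℕ) (hp : p.Prime)
    (c T1 T2 : Perm β) (z : β) (h1 : (c * T2) z = z) (h2 : (c * T1) z ≠ z)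
    (h3 : ∀ y, y ≠ z → ((c * T1) y = y ↔ (c * T2) y = y)) :
    (¬ ∃ k : ℕ, orderOf (c * T1) = p ^ k) ∨ (¬ ∃ k : ℕ, orderOf (c * T2) = p ^ k) := by
  by_contra hcon
  push Not at hcon
  obtain ⟨hk1, hk2⟩ := hcon
  have e1 := hFix p hp (c * T1) hk1
  have e2 := hFix p hp (c * T2) hk2
  have e3 : Finset.univ.filter (fun x => (c * T2) x = x) =
      insert z (Finset.univ.filter (fun x => (c * T1) x = x)) := by
    ext y
    simp only [Finset.mem_filter, Finset.mem_univ, true_and, Finset.mem_insert]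
    by_cases hy : y = z
    · subst hy
      simp [h1]
    · rw [h3 y hy]
      simp [hy]
  have e4 : z ∉ Finset.univ.filter (fun x => (c * T1) x = x) := by
    simp only [Finset.mem_filter, Finset.mem_univ, true_and]
    exact h2
  rw [e3, Finset.card_insert_of_notMem e4] at e2
  have e5 : (Finset.univ.filter (fun x => (c * T1) x = x)).card + 1 ≡
      (Finset.univ.filter (fun x => (c * T1) x = x)).card + 0 [MOD p] := by
    simpa using e2.trans e1.symm
  have e6 : 1 ≡ 0 [MOD p] := Nat.ModEq.add_left_cancel' _ e5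
  have e7 : p ∣ 1 := (Nat.modEq_zero_iff_dvd.mp e6)
  exact hp.one_lt.ne' (Nat.dvd_one.mp e7)

/-- Points of a full cycle: `c ^ i x₀ = c ^ j x₀` iff `i ≡ j` modulo the number of points. -/
theorem pt_eq_iff (hCyc : CycPts) {β : Type} [DecidableEq β] [Fintype β] (c : Perm β)
    (hc : c.IsCycle) (hs : c.support = Finset.univ) (x₀ : β) (i j : ℕ) :
    (c ^ i) x₀ = (c ^ j) x₀ ↔ i % Fintype.card β = j % Fintype.card β := by
  obtain ⟨h1, h2, -⟩ := hCyc c hc hs
  have hpos : 0 < Fintype.card β := Fintype.card_pos_iff.mpr ⟨x₀⟩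
  rw [pow_eq_pow_mod i h1, pow_eq_pow_mod j h1]
  constructor
  · intro h
    exact h2 x₀ _ _ (Nat.mod_lt _ hpos) (Nat.mod_lt _ hpos) h
  · intro h
    rw [h]

/-- A 3-cycle `a ↦ b ↦ d ↦ a`. -/
theorem three {α : Type} [Fintype α] [DecidableEq α] {a b d : α} (hab : a ≠ b) (had : a ≠ d)
    (hbd : b ≠ d) : (swap a b * swap b d).cycleType = {3} := by
  rw [swap_comm a b]
  exact isThreeCycle_swap_mul_swap_same hab.symm hbd had

end Cfsg.Agent.Lib.Helper70.PELib
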