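import Mathlib
import Cfsg.Agent.Lib.Helper56.PEStmt
import Cfsg.Agent.Lib.Helper70.PELib

/-!
# S2276 piece C5 (helper70)
-/

set_option autoImplicit false

namespace Cfsg.Agent.Lib.Helper70.PEC5

open Equiv Equiv.Perm Cfsg.Agent.Lib.Helper56.PEStmt Cfsg.Agent.Lib.Helper70.PELib

theorem main (hNS : NSCert) : C5 := by
  refine ⟨not_pow 3 _ 5 (by decide +kernel) (by decide) (by decide), ?_⟩
  -- x = a⁻¹, y = b⁻¹ * a * b⁻¹, z = b⁻¹
  refine ns_closure hNS (swap (0 : Fin 5) 1 * swap 1 2) (swap 2 3 * swap 3 4)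
    (swap (0 : Fin 5) 1 * swap 1 2)⁻¹
    ((swap (2 : Fin 5) 3 * swap 3 4)⁻¹ * (swap (0 : Fin 5) 1 * swap 1 2) *
      (swap (2 : Fin 5) 3 * swap 3 4)⁻¹)
    (swap (2 : Fin 5) 3 * swap 3 4)⁻¹
    (Subgroup.inv_mem _ (mem_a _ _))
    (Subgroup.mul_mem _ (Subgroup.mul_mem _ (Subgroup.inv_mem _ (mem_b _ _)) (mem_a _ _))
      (Subgroup.inv_mem _ (mem_b _ _)))
    (Subgroup.inv_mem _ (mem_b _ _)) ?_ ?_
  · decide
  · decide +kernel

end Cfsg.Agent.Lib.Helper70.PEC5
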