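import Mathlib
import Cfsg.Agent.Lib.Helper56.PEStmt
import Cfsg.Agent.Lib.Helper70.PELib

/-!
# S2276 piece C6A (helper70)
-/

set_option autoImplicit false

namespace Cfsg.Agent.Lib.Helper70.PEC6A

open Equiv Equiv.Perm Cfsg.Agent.Lib.Helper56.PEStmt Cfsg.Agent.Lib.Helper70.PELib

theorem main (hNS : NSCert) : C6A := by
  refine ⟨not_pow 3 _ 4 (by unfold f6; decide +kernel) (by decide) (by unfold f6; decide), ?_⟩
  -- x = a⁻¹, y = b⁻¹, z = b * a⁻¹ * b⁻¹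
  refine ns_closure hNS f6 (swap 0 1 * swap 1 3) f6⁻¹ (swap 0 1 * swap 1 3)⁻¹
    ((swap 0 1 * swap 1 3) * f6⁻¹ * (swap 0 1 * swap 1 3)⁻¹)
    (Subgroup.inv_mem _ (mem_a _ _)) (Subgroup.inv_mem _ (mem_b _ _))
    (Subgroup.mul_mem _ (Subgroup.mul_mem _ (mem_b _ _)
      (Subgroup.inv_mem _ (mem_a _ _))) (Subgroup.inv_mem _ (mem_b _ _))) ?_ ?_
  · unfold f6; decide
  · unfold f6; decide +kernel

end Cfsg.Agent.Lib.Helper70.PEC6A
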