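import Mathlib
import Cfsg.Agent.Lib.Helper56.PEStmt
import Cfsg.Agent.Lib.Helper70.PELib

/-!
# S2276 piece C6B (helper70)
-/

set_option autoImplicit false

namespace Cfsg.Agent.Lib.Helper70.PEC6B

open Equiv Equiv.Perm Cfsg.Agent.Lib.Helper56.PEStmt Cfsg.Agent.Lib.Helper70.PELib

theorem main (hNS : NSCert) : C6B := by
  refine ⟨not_pow 3 _ 5 (by unfold f6; decide +kernel) (by decide) (by unfold f6; decide), ?_⟩
  -- x = a⁻¹, y = b⁻¹ * a * b⁻¹, z = b⁻¹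
  refine ns_closure hNS f6 (swap 0 1 * swap 1 3 * (swap 2 5 * swap 5 4)) f6⁻¹
    ((swap 0 1 * swap 1 3 * (swap 2 5 * swap 5 4))⁻¹ * f6 *
      (swap 0 1 * swap 1 3 * (swap 2 5 * swap 5 4))⁻¹)
    (swap 0 1 * swap 1 3 * (swap 2 5 * swap 5 4))⁻¹
    (Subgroup.inv_mem _ (mem_a _ _))
    (Subgroup.mul_mem _ (Subgroup.mul_mem _ (Subgroup.inv_mem _ (mem_b _ _)) (mem_a _ _))
      (Subgroup.inv_mem _ (mem_b _ _)))
    (Subgroup.inv_mem _ (mem_b _ _)) ?_ ?_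
  · unfold f6; decide
  · unfold f6; decide +kernel

end Cfsg.Agent.Lib.Helper70.PEC6B
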