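import Mathlib
import Cfsg.Agent.Lib.Helper56.PEStmt
import Cfsg.Agent.Lib.Helper70.PELib

/-!
# S2276 piece K45 (helper70): `p = 3`, a 3-cycle plus anything leaving three more points free
-/

set_option autoImplicit false

namespace Cfsg.Agent.Lib.Helper70.PEK45

open Equiv Equiv.Perm Cfsg.Agent.Lib.Helper56.PEStmt Cfsg.Agent.Lib.Helper70.PELib

/-- `(0 3 1)` on `Fin 6`. -/
def σ6 : Perm (Fin 6) := swap 0 3 * swap 3 1

/-- `(1 3 0)` on `Fin 6`. -/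
def σ6' : Perm (Fin 6) := swap 1 3 * swap 3 0

theorem hf6 : ∀ b : Fin 6, f6 b = ![1, 2, 0, 4, 5, 3] b := by unfold f6; decide

theorem hσ : ∀ b : Fin 6, σ6 b = ![3, 0, 2, 1, 4, 5] b := by unfold σ6; decide

theorem hσ' : ∀ b : Fin 6, σ6' b = ![1, 3, 2, 0, 4, 5] b := by
  unfold σ6'; decide

theorem hσinv : ∀ b : Fin 6, σ6⁻¹ b = σ6' b := by
  unfold σ6 σ6'; decide

/-- The indices of the six points `x₀, x_m, x_{2m}, x₁, x_{m+1}, x_{2m+1}`. -/
def idx (m : ℕ) : Fin 6 → ℕ := ![0, m, 2 * m, 1, m + 1, 2 * m + 1]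

theorem idx_lt (m : ℕ) (hm : 3 ≤ m) (b : Fin 6) : idx m b + 1 < 3 * m := by
  fin_cases b <;> simp [idx] <;> omega

theorem idx_inj (m : ℕ) (hm : 3 ≤ m) (a b : Fin 6) (h : idx m a = idx m b) : a = b := by
  fin_cases a <;> fin_cases b <;> simp [idx] at h ⊢ <;> omega

theorem idx_f6 (m : ℕ) (b : Fin 6) :
    m + idx m b = idx m (f6 b) ∨ m + idx m b = idx m (f6 b) + 3 * m := by
  rw [hf6]
  fin_cases b <;> simp [idx] <;> omega

theorem idx_A2 (m : ℕ) (hm : 3 ≤ m) (b : Fin 6) (hb : b ≠ 3) :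
    idx m (σ6 b) + 1 = idx m b ↔
      idx m (σ6' b) + 1 = idx m b := by
  rw [hσ, hσ']
  fin_cases b <;> simp [idx] at hb ⊢ <;> omega

theorem idx_A3 (m : ℕ) : idx m (σ6' 3) + 1 = idx m 3 := by
  rw [hσ']
  simp [idx]

theorem idx_A4 (m : ℕ) (hm : 3 ≤ m) : idx m (σ6 3) + 1 ≠ idx m 3 := by
  rw [hσ]
  simp [idx]
  omega

theorem main (hCyc : CycPts) (hFix : FixCert) (hRNS : RNS) (hNS6 : NS6) : K45 := by
  intro β _ _ c hc hs h3 h9 μ' hμ hsum
  obtain ⟨m, hm⟩ := h3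
  have hm3 : 3 ≤ m := by omega
  have hne : Nonempty β := Fintype.card_pos_iff.mp (by omega)
  obtain ⟨x₀⟩ := hne
  obtain ⟨hc1, -, -⟩ := hCyc c hc hs
  have hc1' : c ^ (3 * m) = 1 := by rw [← hm]; exact hc1
  have hpt : ∀ i j, i < 3 * m → j < 3 * m → ((c ^ i) x₀ = (c ^ j) x₀ ↔ i = j) := by
    intro i j hi hj
    rw [pt_eq_iff hCyc c hc hs x₀, hm, Nat.mod_eq_of_lt hi, Nat.mod_eq_of_lt hj]
  have hι : Function.Injective (fun b : Fin 6 => (c ^ idx m b) x₀) := by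
    intro a b hab
    exact idx_inj m hm3 a b ((hpt _ _ (by have := idx_lt m hm3 a; omega)
      (by have := idx_lt m hm3 b; omega)).mp hab)
  have hcι : ∀ a : Fin 6, c ((c ^ idx m a) x₀) = (c ^ (idx m a + 1)) x₀ := by
    intro a
    rw [← Perm.mul_apply, ← pow_succ']
  have hcm : ∀ b : Fin 6, (c ^ m) ((c ^ idx m b) x₀) = (c ^ idx m (f6 b)) x₀ := by
    intro b
    rw [← Perm.mul_apply, ← pow_add]
    rcases idx_f6 m b with h | h
    · rw [h]
    · rw [h, pow_add, Perm.mul_apply, hc1', Perm.one_apply]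
  obtain ⟨g, hg1, hg2, hg3⟩ := exists_ext (fun b : Fin 6 => (c ^ idx m b) x₀) hι
    σ6
  obtain ⟨ρ, hρ1, hρ2⟩ := exists_rho (Finset.univ.image (fun b : Fin 6 => (c ^ idx m b) x₀)) μ'
    hμ (by rw [Finset.card_image_of_injective _ hι]; simpa using hsum)
  have hρι : ∀ b : Fin 6, ρ ((c ^ idx m b) x₀) = (c ^ idx m b) x₀ :=
    fun b => hρ2 _ (Finset.mem_image_of_mem _ (Finset.mem_univ _))
  have hρc : ∀ y, y ∉ Set.range (fun b : Fin 6 => (c ^ idx m b) x₀) →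
      ρ y ∉ Set.range (fun b : Fin 6 => (c ^ idx m b) x₀) := by
    rintro y hy ⟨b, hb⟩
    apply hy
    refine ⟨b, ?_⟩
    apply ρ.injective
    show ρ ((c ^ idx m b) x₀) = ρ y
    rw [hρι]
    exact hb
  have hginv : ∀ b : Fin 6, g⁻¹ ((c ^ idx m b) x₀) =
      (c ^ idx m (σ6' b)) x₀ := by
    intro b
    have e : σ6 (σ6' b) = b := by
      revert b
      unfold σ6 σ6'
      decide
    rw [Perm.inv_eq_iff_eq, hg1, e]
  have hginv2 : ∀ y, y ∉ Set.range (fun b : Fin 6 => (c ^ idx m b) x₀) → g⁻¹ y = y := by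
    intro y hy
    rw [Perm.inv_eq_iff_eq, hg2 y hy]
  have hdisj : Perm.Disjoint g ρ := by
    intro y
    by_cases hy : y ∈ Set.range (fun b : Fin 6 => (c ^ idx m b) x₀)
    · obtain ⟨b, rfl⟩ := hy
      exact Or.inr (hρι b)
    · exact Or.inl (hg2 y hy)
  have hdisj' : Perm.Disjoint g⁻¹ ρ := by
    intro y
    by_cases hy : y ∈ Set.range (fun b : Fin 6 => (c ^ idx m b) x₀)
    · obtain ⟨b, rfl⟩ := hy
      exact Or.inr (hρι b)
    · exact Or.inl (hginv2 y hy)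
  have hct1 : (g * ρ).cycleType = 3 ::ₘ μ' := by
    rw [hdisj.cycleType_mul, hg3, hρ1]
    unfold σ6
    rw [three (by decide) (by decide) (by decide)]
    rfl
  have hct2 : (g⁻¹ * ρ).cycleType = 3 ::ₘ μ' := by
    rw [hdisj'.cycleType_mul, cycleType_inv, hg3, hρ1]
    unfold σ6
    rw [three (by decide) (by decide) (by decide)]
    rfl
  have hr1 : ∀ b : Fin 6, (g * ρ) ((c ^ idx m b) x₀) =
      (c ^ idx m (σ6 b)) x₀ := by
    intro b
    rw [Perm.mul_apply, hρι, hg1]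
  have hr2 : ∀ b : Fin 6, (g⁻¹ * ρ) ((c ^ idx m b) x₀) =
      (c ^ idx m (σ6' b)) x₀ := by
    intro b
    rw [Perm.mul_apply, hρι, hginv]
  have hns1 : ¬ Group.IsSolvable ↥(Subgroup.closure ({c, g * ρ} : Set (Perm β))) :=
    hRNS (fun b : Fin 6 => (c ^ idx m b) x₀) hι f6 σ6 (c ^ m) (g * ρ) hcm hr1
      hNS6.1 _ (Subgroup.pow_mem _ (mem_a _ _) m) (mem_b _ _)
  have hns2 : ¬ Group.IsSolvable ↥(Subgroup.closure ({c, g⁻¹ * ρ} : Set (Perm β))) :=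
    hRNS (fun b : Fin 6 => (c ^ idx m b) x₀) hι f6 σ6' (c ^ m) (g⁻¹ * ρ) hcm
      hr2 hNS6.2.1 _ (Subgroup.pow_mem _ (mem_a _ _) m) (mem_b _ _)
  have hfix := two_cand hFix 3 Nat.prime_three c (g * ρ) (g⁻¹ * ρ) ((c ^ idx m 3) x₀) (by
      rw [Perm.mul_apply, hr2, hcι, idx_A3]) (by
      rw [Perm.mul_apply, hr1, hcι]
      intro h
      exact idx_A4 m hm3 ((hpt _ _ (idx_lt m hm3 _) (by have := idx_lt m hm3 3; omega)).mp h))
    (by
      intro y hy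
      by_cases hyr : y ∈ Set.range (fun b : Fin 6 => (c ^ idx m b) x₀)
      · obtain ⟨b, rfl⟩ := hyr
        have hb : b ≠ 3 := by
          rintro rfl
          exact hy rfl
        show (c * (g * ρ)) ((c ^ idx m b) x₀) = (c ^ idx m b) x₀ ↔
          (c * (g⁻¹ * ρ)) ((c ^ idx m b) x₀) = (c ^ idx m b) x₀
        rw [Perm.mul_apply c (g * ρ), Perm.mul_apply c (g⁻¹ * ρ), hr1, hr2, hcι, hcι,
          hpt _ _ (idx_lt m hm3 _) (by have := idx_lt m hm3 b; omega),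
          hpt _ _ (idx_lt m hm3 _) (by have := idx_lt m hm3 b; omega)]
        exact idx_A2 m hm3 b hb
      · rw [Perm.mul_apply c (g * ρ), Perm.mul_apply c (g⁻¹ * ρ), Perm.mul_apply g ρ,
          Perm.mul_apply g⁻¹ ρ, hg2 _ (hρc y hyr), hginv2 _ (hρc y hyr)])
  rcases hfix with h | h
  · exact ⟨g * ρ, hct1, h, hns1⟩
  · exact ⟨g⁻¹ * ρ, hct2, h, hns2⟩

end Cfsg.Agent.Lib.Helper70.PEK45
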