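import Mathlib
import Cfsg.Agent.Lib.Helper56.PEStmt
import Cfsg.Agent.Lib.Helper70.PELib

/-!
# S2276 piece K59 (helper70): a 9-cycle against three 3-cycles
-/

set_option autoImplicit false

namespace Cfsg.Agent.Lib.Helper70.PEK59

open Equiv Equiv.Perm Cfsg.Agent.Lib.Helper56.PEStmt Cfsg.Agent.Lib.Helper70.PELib

/-- The 9-cycle `i ↦ i + 1` on `Fin 9`. -/
def c9 : Perm (Fin 9) :=
  swap 0 1 * swap 1 2 * swap 2 3 * swap 3 4 * swap 4 5 * swap 5 6 * swap 6 7 * swap 7 8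

/-- `(0 2 1)(3 4 5)(6 7 8)` on `Fin 9`. -/
def t9 : Perm (Fin 9) := swap 0 2 * swap 2 1 * (swap 3 4 * swap 4 5) * (swap 6 7 * swap 7 8)

theorem c9_val : ∀ b : Fin 9, ((c9 b : Fin 9) : ℕ) = ((b : ℕ) + 1) % 9 := by
  unfold c9; decide

theorem t9_type : t9.cycleType = {3, 3, 3} := by
  have d1 : Perm.Disjoint (swap (0 : Fin 9) 2 * swap 2 1) (swap 3 4 * swap 4 5) := by
    show ∀ x, _ = x ∨ _ = x
    decide
  have d2 : Perm.Disjoint (swap (0 : Fin 9) 2 * swap 2 1 * (swap 3 4 * swap 4 5))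
      (swap 6 7 * swap 7 8) := by
    show ∀ x, _ = x ∨ _ = x
    decide
  unfold t9
  rw [d2.cycleType_mul, d1.cycleType_mul, three (by decide) (by decide) (by decide),
    three (by decide) (by decide) (by decide), three (by decide) (by decide) (by decide)]
  rfl

theorem ns9 (hNS : NSCert) :
    ¬ Group.IsSolvable ↥(Subgroup.closure ({c9, t9} : Set (Perm (Fin 9)))) := by
  -- x = b⁻¹, y = a, z = a⁻¹ * b * a⁻¹ * a⁻¹ * b * a * a * a
  refine ns_closure hNS c9 t9 t9⁻¹ c9 (c9⁻¹ * t9 * c9⁻¹ * c9⁻¹ * t9 * c9 * c9 * c9)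
    (Subgroup.inv_mem _ (mem_b _ _)) (mem_a _ _)
    (Subgroup.mul_mem _ (Subgroup.mul_mem _ (Subgroup.mul_mem _ (Subgroup.mul_mem _
      (Subgroup.mul_mem _ (Subgroup.mul_mem _ (Subgroup.mul_mem _
        (Subgroup.inv_mem _ (mem_a _ _)) (mem_b _ _)) (Subgroup.inv_mem _ (mem_a _ _)))
        (Subgroup.inv_mem _ (mem_a _ _))) (mem_b _ _)) (mem_a _ _)) (mem_a _ _)) (mem_a _ _))
    ?_ ?_
  · unfold t9; decide
  · unfold c9 t9; decide +kernel

theorem main (hCyc : CycPts) (hNS : NSCert) (hRP : RP) (hRNS : RNS) : K59 := by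
  intro β _ _ c hc hs hcard
  obtain ⟨h1, h2, -⟩ := hCyc c hc hs
  have hne : Nonempty β := Fintype.card_pos_iff.mp (by omega)
  obtain ⟨x₀⟩ := hne
  have hι : Function.Injective (fun i : Fin 9 => (c ^ (i : ℕ)) x₀) := by
    intro a b hab
    exact Fin.ext (h2 x₀ a b (by rw [hcard]; exact a.2) (by rw [hcard]; exact b.2) hab)
  have hc9 : ∀ b : Fin 9, c ((c ^ (b : ℕ)) x₀) = (c ^ ((c9 b : Fin 9) : ℕ)) x₀ := by
    intro b
    have h1' : c ^ 9 = 1 := by rw [← hcard]; exact h1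
    rw [c9_val, ← pow_eq_pow_mod _ h1', pow_succ', Perm.mul_apply]
  obtain ⟨T, hT1, -, hT3⟩ := exists_ext (fun i : Fin 9 => (c ^ (i : ℕ)) x₀) hι t9
  refine ⟨T, by rw [hT3, t9_type], ?_, ?_⟩
  · refine hRP (fun i : Fin 9 => (c ^ (i : ℕ)) x₀) hι 3 Nat.prime_three (c9 * t9) (c * T)
      (fun b => ?_) (not_pow 3 _ 7 (by unfold c9 t9; decide +kernel) (by decide)
        (by unfold c9 t9; decide))
    rw [Perm.mul_apply, Perm.mul_apply, hT1]
    exact hc9 (t9 b)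
  · exact hRNS (fun i : Fin 9 => (c ^ (i : ℕ)) x₀) hι c9 t9 c T hc9 hT1 (ns9 hNS)
      (Subgroup.closure {c, T}) (mem_a _ _) (mem_b _ _)

end Cfsg.Agent.Lib.Helper70.PEK59
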