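import Mathlib
import Cfsg.Agent.Lib.Helper56.PEStmt
import Cfsg.Agent.Lib.Helper70.PELib

/-!
# S2276 piece K5F (helper70): `p = 3`, at least 27 points, three 3-cycles plus anything
-/

set_option autoImplicit false

namespace Cfsg.Agent.Lib.Helper70.PEK5F

open Equiv Equiv.Perm Cfsg.Agent.Lib.Helper56.PEStmt Cfsg.Agent.Lib.Helper70.PELib

/-- `(1 3 0)(2 5 4)` on `Fin 6`. -/
def h6 : Perm (Fin 6) := swap 1 3 * swap 3 0 * (swap 2 5 * swap 5 4)

/-- `(1 3 0)(2 5 4)(6 7 8)` on `Fin 9`. -/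
def s1 : Perm (Fin 9) := swap 1 3 * swap 3 0 * (swap 2 5 * swap 5 4) * (swap 6 7 * swap 7 8)

/-- `(1 3 0)(2 5 4)(6 8 7)` on `Fin 9`. -/
def s2 : Perm (Fin 9) := swap 1 3 * swap 3 0 * (swap 2 5 * swap 5 4) * (swap 6 8 * swap 8 7)

/-- The embedding of `Fin 6` in `Fin 9`. -/
def emb (b : Fin 6) : Fin 9 := Fin.castLE (by norm_num) b

theorem emb_inj : Function.Injective emb := by
  intro a b h
  revert a b
  unfold emb
  decide

theorem hf6 : ∀ b : Fin 6, f6 b = ![1, 2, 0, 4, 5, 3] b := by unfold f6; decide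

theorem hs1 : ∀ b : Fin 9, s1 b = ![1, 3, 5, 0, 2, 4, 7, 8, 6] b := by unfold s1; decide

theorem hs2 : ∀ b : Fin 9, s2 b = ![1, 3, 5, 0, 2, 4, 8, 6, 7] b := by unfold s2; decide

theorem hs1e : ∀ b : Fin 6, s1 (emb b) = emb (h6 b) := by unfold s1 h6 emb; decide

theorem hs2e : ∀ b : Fin 6, s2 (emb b) = emb (h6 b) := by unfold s2 h6 emb; decide

theorem s1_type : s1.cycleType = {3, 3, 3} := by
  have d1 : Perm.Disjoint (swap (1 : Fin 9) 3 * swap 3 0) (swap 2 5 * swap 5 4) := by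
    show ∀ x, _ = x ∨ _ = x
    decide
  have d2 : Perm.Disjoint (swap (1 : Fin 9) 3 * swap 3 0 * (swap 2 5 * swap 5 4))
      (swap 6 7 * swap 7 8) := by
    show ∀ x, _ = x ∨ _ = x
    decide
  unfold s1
  rw [d2.cycleType_mul, d1.cycleType_mul, three (by decide) (by decide) (by decide),
    three (by decide) (by decide) (by decide), three (by decide) (by decide) (by decide)]
  rfl

theorem s2_type : s2.cycleType = {3, 3, 3} := by
  have d1 : Perm.Disjoint (swap (1 : Fin 9) 3 * swap 3 0) (swap 2 5 * swap 5 4) := by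
    show ∀ x, _ = x ∨ _ = x
    decide
  have d2 : Perm.Disjoint (swap (1 : Fin 9) 3 * swap 3 0 * (swap 2 5 * swap 5 4))
      (swap 6 8 * swap 8 7) := by
    show ∀ x, _ = x ∨ _ = x
    decide
  unfold s2
  rw [d2.cycleType_mul, d1.cycleType_mul, three (by decide) (by decide) (by decide),
    three (by decide) (by decide) (by decide), three (by decide) (by decide) (by decide)]
  rfl

/-- The indices of the nine points `x₀, x_m, x_{2m}, x₁, x_{m+1}, x_{2m+1}, x₃, x₄, x₆`. -/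
def idx (m : ℕ) : Fin 9 → ℕ := ![0, m, 2 * m, 1, m + 1, 2 * m + 1, 3, 4, 6]

theorem idx_lt (m : ℕ) (hm : 9 ≤ m) (b : Fin 9) : idx m b + 1 < 3 * m := by
  fin_cases b <;> simp [idx] <;> omega

theorem idx_inj (m : ℕ) (hm : 9 ≤ m) (a b : Fin 9) (h : idx m a = idx m b) : a = b := by
  fin_cases a <;> fin_cases b <;> simp [idx] at h ⊢ <;> omega

theorem idx_f6 (m : ℕ) (b : Fin 6) :
    m + idx m (emb b) = idx m (emb (f6 b)) ∨ m + idx m (emb b) = idx m (emb (f6 b)) + 3 * m := by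
  rw [hf6]
  fin_cases b <;> simp [idx, emb] <;> omega

theorem idx_A2 (m : ℕ) (_hm : 9 ≤ m) (b : Fin 9) (hb : b ≠ 7) :
    idx m (s1 b) + 1 = idx m b ↔ idx m (s2 b) + 1 = idx m b := by
  rw [hs1, hs2]
  fin_cases b <;> simp [idx] at hb ⊢

theorem idx_A3 (m : ℕ) : idx m (s2 7) + 1 = idx m 7 := by
  rw [hs2]
  simp [idx]

theorem idx_A4 (m : ℕ) : idx m (s1 7) + 1 ≠ idx m 7 := by
  rw [hs1]
  simp [idx]

theorem main (hCyc : CycPts) (hFix : FixCert) (hRNS : RNS) (hNS6 : NS6) : K5F := by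
  intro β _ _ c hc hs h3 h27 μ' hμ hsum
  obtain ⟨m, hm⟩ := h3
  have hm9 : 9 ≤ m := by omega
  have hne : Nonempty β := Fintype.card_pos_iff.mp (by omega)
  obtain ⟨x₀⟩ := hne
  obtain ⟨hc1, -, -⟩ := hCyc c hc hs
  have hc1' : c ^ (3 * m) = 1 := by rw [← hm]; exact hc1
  have hpt : ∀ i j, i < 3 * m → j < 3 * m → ((c ^ i) x₀ = (c ^ j) x₀ ↔ i = j) := by
    intro i j hi hj
    rw [pt_eq_iff hCyc c hc hs x₀, hm, Nat.mod_eq_of_lt hi, Nat.mod_eq_of_lt hj]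
  have hι : Function.Injective (fun b : Fin 9 => (c ^ idx m b) x₀) := by
    intro a b hab
    exact idx_inj m hm9 a b ((hpt _ _ (by have := idx_lt m hm9 a; omega)
      (by have := idx_lt m hm9 b; omega)).mp hab)
  have hι6 : Function.Injective (fun b : Fin 6 => (c ^ idx m (emb b)) x₀) := by
    intro a b hab
    exact emb_inj (hι hab)
  have hcι : ∀ a : Fin 9, c ((c ^ idx m a) x₀) = (c ^ (idx m a + 1)) x₀ := by
    intro a
    rw [← Perm.mul_apply, ← pow_succ']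
  have hcm : ∀ b : Fin 6, (c ^ m) ((c ^ idx m (emb b)) x₀) = (c ^ idx m (emb (f6 b))) x₀ := by
    intro b
    rw [← Perm.mul_apply, ← pow_add]
    rcases idx_f6 m b with h | h
    · rw [h]
    · rw [h, pow_add, Perm.mul_apply, hc1', Perm.one_apply]
  obtain ⟨g1, hg1, hg1', hg1t⟩ := exists_ext (fun b : Fin 9 => (c ^ idx m b) x₀) hι s1
  obtain ⟨g2, hg2, hg2', hg2t⟩ := exists_ext (fun b : Fin 9 => (c ^ idx m b) x₀) hι s2
  obtain ⟨ρ, hρ1, hρ2⟩ := exists_rho (Finset.univ.image (fun b : Fin 9 => (c ^ idx m b) x₀)) μ'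
    hμ (by rw [Finset.card_image_of_injective _ hι]; simpa using hsum)
  have hρι : ∀ b : Fin 9, ρ ((c ^ idx m b) x₀) = (c ^ idx m b) x₀ :=
    fun b => hρ2 _ (Finset.mem_image_of_mem _ (Finset.mem_univ _))
  have hρc : ∀ y, y ∉ Set.range (fun b : Fin 9 => (c ^ idx m b) x₀) →
      ρ y ∉ Set.range (fun b : Fin 9 => (c ^ idx m b) x₀) := by
    rintro y hy ⟨b, hb⟩
    apply hy
    refine ⟨b, ?_⟩
    apply ρ.injective
    show ρ ((c ^ idx m b) x₀) = ρ y
    rw [hρι]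
    exact hb
  have hdisj1 : Perm.Disjoint g1 ρ := by
    intro y
    by_cases hy : y ∈ Set.range (fun b : Fin 9 => (c ^ idx m b) x₀)
    · obtain ⟨b, rfl⟩ := hy
      exact Or.inr (hρι b)
    · exact Or.inl (hg1' y hy)
  have hdisj2 : Perm.Disjoint g2 ρ := by
    intro y
    by_cases hy : y ∈ Set.range (fun b : Fin 9 => (c ^ idx m b) x₀)
    · obtain ⟨b, rfl⟩ := hy
      exact Or.inr (hρι b)
    · exact Or.inl (hg2' y hy)
  have hct1 : (g1 * ρ).cycleType = 3 ::ₘ 3 ::ₘ 3 ::ₘ μ' := by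
    rw [hdisj1.cycleType_mul, hg1t, hρ1, s1_type, Multiset.insert_eq_cons,
      Multiset.insert_eq_cons, Multiset.cons_add, Multiset.cons_add, Multiset.singleton_add]
  have hct2 : (g2 * ρ).cycleType = 3 ::ₘ 3 ::ₘ 3 ::ₘ μ' := by
    rw [hdisj2.cycleType_mul, hg2t, hρ1, s2_type, Multiset.insert_eq_cons,
      Multiset.insert_eq_cons, Multiset.cons_add, Multiset.cons_add, Multiset.singleton_add]
  have hr1 : ∀ b : Fin 9, (g1 * ρ) ((c ^ idx m b) x₀) = (c ^ idx m (s1 b)) x₀ := by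
    intro b
    rw [Perm.mul_apply, hρι, hg1]
  have hr2 : ∀ b : Fin 9, (g2 * ρ) ((c ^ idx m b) x₀) = (c ^ idx m (s2 b)) x₀ := by
    intro b
    rw [Perm.mul_apply, hρι, hg2]
  have hr1' : ∀ b : Fin 6, (g1 * ρ) ((c ^ idx m (emb b)) x₀) = (c ^ idx m (emb (h6 b))) x₀ := by
    intro b
    rw [hr1, hs1e]
  have hr2' : ∀ b : Fin 6, (g2 * ρ) ((c ^ idx m (emb b)) x₀) = (c ^ idx m (emb (h6 b))) x₀ := by
    intro b
    rw [hr2, hs2e]
  have hns1 : ¬ Group.IsSolvable ↥(Subgroup.closure ({c, g1 * ρ} : Set (Perm β))) :=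
    hRNS (fun b : Fin 6 => (c ^ idx m (emb b)) x₀) hι6 f6 h6 (c ^ m) (g1 * ρ) hcm hr1'
      hNS6.2.2.1 _ (Subgroup.pow_mem _ (mem_a _ _) m) (mem_b _ _)
  have hns2 : ¬ Group.IsSolvable ↥(Subgroup.closure ({c, g2 * ρ} : Set (Perm β))) :=
    hRNS (fun b : Fin 6 => (c ^ idx m (emb b)) x₀) hι6 f6 h6 (c ^ m) (g2 * ρ) hcm hr2'
      hNS6.2.2.1 _ (Subgroup.pow_mem _ (mem_a _ _) m) (mem_b _ _)
  have hfix := two_cand hFix 3 Nat.prime_three c (g1 * ρ) (g2 * ρ) ((c ^ idx m 7) x₀) (by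
      rw [Perm.mul_apply, hr2, hcι, idx_A3]) (by
      rw [Perm.mul_apply, hr1, hcι]
      intro h
      exact idx_A4 m ((hpt _ _ (idx_lt m hm9 _) (by have := idx_lt m hm9 7; omega)).mp h))
    (by
      intro y hy
      by_cases hyr : y ∈ Set.range (fun b : Fin 9 => (c ^ idx m b) x₀)
      · obtain ⟨b, rfl⟩ := hyr
        have hb : b ≠ 7 := by
          rintro rfl
          exact hy rfl
        show (c * (g1 * ρ)) ((c ^ idx m b) x₀) = (c ^ idx m b) x₀ ↔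
          (c * (g2 * ρ)) ((c ^ idx m b) x₀) = (c ^ idx m b) x₀
        rw [Perm.mul_apply c (g1 * ρ), Perm.mul_apply c (g2 * ρ), hr1, hr2, hcι, hcι,
          hpt _ _ (idx_lt m hm9 _) (by have := idx_lt m hm9 b; omega),
          hpt _ _ (idx_lt m hm9 _) (by have := idx_lt m hm9 b; omega)]
        exact idx_A2 m hm9 b hb
      · rw [Perm.mul_apply c (g1 * ρ), Perm.mul_apply c (g2 * ρ), Perm.mul_apply g1 ρ,
          Perm.mul_apply g2 ρ, hg1' _ (hρc y hyr), hg2' _ (hρc y hyr)])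
  rcases hfix with h | h
  · exact ⟨g1 * ρ, hct1, h, hns1⟩
  · exact ⟨g2 * ρ, hct2, h, hns2⟩

end Cfsg.Agent.Lib.Helper70.PEK5F
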