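import Mathlib
import Cfsg.Agent.Lib.Helper56.PEStmt

/-!
# S2276 piece NS6 (helper70): four non-solvable subgroups of `Perm (Fin 6)`
-/

set_option autoImplicit false

namespace Cfsg.Agent.Lib.Helper70.PENS6

open Equiv Equiv.Perm Cfsg.Agent.Lib.Helper56.PEStmt

/-- Non-solvability of `closure {a, b}` from a certificate given by three elements. -/
theorem ns_closure {G : Type} [Group G] (hNS : NSCert) (a b x y z : G)
    (hx : x ∈ Subgroup.closure ({a, b} : Set G)) (hy : y ∈ Subgroup.closure ({a, b} : Set G))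
    (hz : z ∈ Subgroup.closure ({a, b} : Set G)) (hx1 : x ≠ 1)
    (key : x = z * (x * (y * x * y⁻¹) * x⁻¹ * (y * x * y⁻¹)⁻¹) * z⁻¹) :
    ¬ Group.IsSolvable ↥(Subgroup.closure ({a, b} : Set G)) :=
  hNS _ x y z hx hy hz hx1 key

theorem mem_a {G : Type} [Group G] (a b : G) : a ∈ Subgroup.closure ({a, b} : Set G) :=
  Subgroup.subset_closure (by simp)

theorem mem_b {G : Type} [Group G] (a b : G) : b ∈ Subgroup.closure ({a, b} : Set G) :=
  Subgroup.subset_closure (by simp)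

theorem main (hNS : NSCert) : NS6 := by
  refine ⟨?_, ?_, ?_, ?_⟩
  · -- x = a⁻¹, y = b, z = b⁻¹ * a⁻¹ * b
    refine ns_closure hNS f6 (swap 0 3 * swap 3 1) f6⁻¹ (swap 0 3 * swap 3 1)
      ((swap 0 3 * swap 3 1)⁻¹ * f6⁻¹ * (swap 0 3 * swap 3 1))
      (Subgroup.inv_mem _ (mem_a _ _)) (mem_b _ _)
      (Subgroup.mul_mem _ (Subgroup.mul_mem _ (Subgroup.inv_mem _ (mem_b _ _))
        (Subgroup.inv_mem _ (mem_a _ _))) (mem_b _ _)) ?_ ?_
    · unfold f6; decide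
    · unfold f6; decide +kernel
  · -- x = a⁻¹, y = b⁻¹, z = b * a⁻¹ * b⁻¹
    refine ns_closure hNS f6 (swap 1 3 * swap 3 0) f6⁻¹ (swap 1 3 * swap 3 0)⁻¹
      ((swap 1 3 * swap 3 0) * f6⁻¹ * (swap 1 3 * swap 3 0)⁻¹)
      (Subgroup.inv_mem _ (mem_a _ _)) (Subgroup.inv_mem _ (mem_b _ _))
      (Subgroup.mul_mem _ (Subgroup.mul_mem _ (mem_b _ _)
        (Subgroup.inv_mem _ (mem_a _ _))) (Subgroup.inv_mem _ (mem_b _ _))) ?_ ?_
    · unfold f6; decide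
    · unfold f6; decide +kernel
  · -- x = a⁻¹, y = b⁻¹ * a * b⁻¹, z = b⁻¹
    refine ns_closure hNS f6 (swap 1 3 * swap 3 0 * (swap 2 5 * swap 5 4)) f6⁻¹
      ((swap 1 3 * swap 3 0 * (swap 2 5 * swap 5 4))⁻¹ * f6 *
        (swap 1 3 * swap 3 0 * (swap 2 5 * swap 5 4))⁻¹)
      (swap 1 3 * swap 3 0 * (swap 2 5 * swap 5 4))⁻¹
      (Subgroup.inv_mem _ (mem_a _ _))
      (Subgroup.mul_mem _ (Subgroup.mul_mem _ (Subgroup.inv_mem _ (mem_b _ _)) (mem_a _ _))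
        (Subgroup.inv_mem _ (mem_b _ _)))
      (Subgroup.inv_mem _ (mem_b _ _)) ?_ ?_
    · unfold f6; decide
    · unfold f6; decide +kernel
  · -- x = a⁻¹, y = b⁻¹, z = b * b
    refine ns_closure hNS (swap 0 1 * swap 2 3 * swap 1 2 * swap 3 4)
      (swap 1 2 * swap 3 4 * swap 2 3 * swap 4 5)
      (swap 0 1 * swap 2 3 * swap 1 2 * swap 3 4)⁻¹
      (swap 1 2 * swap 3 4 * swap 2 3 * swap 4 5)⁻¹
      ((swap 1 2 * swap 3 4 * swap 2 3 * swap 4 5) * (swap 1 2 * swap 3 4 * swap 2 3 * swap 4 5))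
      (Subgroup.inv_mem _ (mem_a _ _)) (Subgroup.inv_mem _ (mem_b _ _))
      (Subgroup.mul_mem _ (mem_b _ _) (mem_b _ _)) ?_ ?_
    · decide
    · decide +kernel

end Cfsg.Agent.Lib.Helper70.PENS6
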