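import Mathlib
import Cfsg.Agent.Lib.Helper70.SqIdx
import Cfsg.Agent.Lib.Helper70.Kul2D

/-! `2`-groups acting faithfully on abelian groups of odd order: `2 * [H : H²] ≤ |N|`. -/

set_option autoImplicit false
universe u

namespace Cfsg.Agent.Lib.Helper70.TwoAct
open Subgroup
open Cfsg.Agent.Lib.Helper70.SqIdx

variable {N : Type u} [Group N]

/-- invariance of a subgroup under a group of automorphisms -/
def Inv (H : Subgroup (MulAut N)) (N₁ : Subgroup N) : Prop := ∀ α ∈ H, ∀ x ∈ N₁, α x ∈ N₁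

/-- restriction to an invariant subgroup -/
def resHom (H : Subgroup (MulAut N)) (N₁ : Subgroup N) (h : Inv H N₁) : H →* MulAut N₁ :=
  MonoidHom.mk' (fun α =>
    { toFun := fun x => ⟨(α : MulAut N) x, h α.1 α.2 x x.2⟩
      invFun := fun x => ⟨(α : MulAut N)⁻¹ x, h (α.1)⁻¹ (inv_mem α.2) x x.2⟩
      left_inv := fun x => by apply Subtype.ext; simp
      right_inv := fun x => by apply Subtype.ext; simp
      map_mul' := fun x y => by apply Subtype.ext; simp }) (by
    intro a b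
    ext y
    rfl)

theorem resHom_apply (H : Subgroup (MulAut N)) (N₁ : Subgroup N) (h : Inv H N₁) (α : H)
    (y : N₁) : ((resHom H N₁ h α y : N₁) : N) = (α : MulAut N) y := rfl

/-- the action on the quotient by an invariant subgroup -/
def quotHom (H : Subgroup (MulAut N)) (N₁ : Subgroup N) [N₁.Normal] (h : Inv H N₁) :
    H →* MulAut (N ⧸ N₁) :=
  MonoidHom.mk' (fun α => QuotientGroup.congr N₁ N₁ (α : MulAut N) (by
    ext y
    constructor
    · rintro ⟨x, hx, rfl⟩
      exact h α.1 α.2 x hx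
    · intro hy
      exact ⟨(α : MulAut N)⁻¹ y, h (α.1)⁻¹ (inv_mem α.2) y hy, by simp⟩)) (by
    intro a b
    ext q
    obtain ⟨g, rfl⟩ := QuotientGroup.mk_surjective q
    rfl)

theorem quotHom_apply (H : Subgroup (MulAut N)) (N₁ : Subgroup N) [N₁.Normal] (h : Inv H N₁)
    (α : H) (g : N) :
    quotHom H N₁ h α (g : N ⧸ N₁) = (((α : MulAut N) g : N) : N ⧸ N₁) := rfl

/-- a `2`-automorphism of an abelian group of odd order acting trivially on a subgroup and on the
quotient is trivial -/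
theorem stab_trivial [Finite N] (hodd : Odd (Nat.card N))
    (N₁ : Subgroup N) (α : MulAut N) (k : ℕ) (hα : α ^ 2 ^ k = 1)
    (hfix : ∀ x ∈ N₁, α x = x) (hq : ∀ x, x⁻¹ * α x ∈ N₁) : α = 1 := by
  ext x
  rw [MulAut.one_apply]
  set c := x⁻¹ * α x with hc
  have hcN : c ∈ N₁ := hq x
  have hαx : α x = x * c := by rw [hc, mul_inv_cancel_left]
  have hpowc : ∀ j : ℕ, (α ^ j) c = c := by
    intro j
    induction j with
    | zero => simp
    | succ j ih => rw [pow_succ, MulAut.mul_apply, hfix c hcN, ih]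
  have hpow : ∀ j : ℕ, (α ^ j) x = x * c ^ j := by
    intro j
    induction j with
    | zero => simp
    | succ j ih =>
      rw [pow_succ, MulAut.mul_apply, hαx, map_mul, ih, hpowc, pow_succ, mul_assoc]
  have h1 := hpow (2 ^ k)
  rw [hα, MulAut.one_apply] at h1
  have h2 : c ^ 2 ^ k = 1 := by
    have h1' : x * 1 = x * c ^ 2 ^ k := by rw [mul_one]; exact h1
    exact (mul_left_cancel h1').symm
  have h3 : orderOf c ∣ 2 ^ k := orderOf_dvd_of_pow_eq_one h2
  have h4 : orderOf c ∣ Nat.card N := orderOf_dvd_natCard c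
  have h5 : Nat.Coprime (2 ^ k) (Nat.card N) :=
    Nat.Coprime.pow_left k (Nat.coprime_two_left.mpr hodd)
  have h6 : orderOf c = 1 := Nat.eq_one_of_dvd_coprimes h5 h3 h4
  have h7 : c = 1 := orderOf_eq_one_iff.mp h6
  rw [hαx, h7, mul_one]

/-- the numerical bound attached to a factor of order `u` -/
def Q (u a c : ℕ) : Prop := (u = 3 → a ≤ 2 ∧ c ≤ 2) ∧ (u ≠ 3 → 2 * a ≤ u)

/-- the statement proved by induction -/
def Bnd (n : ℕ) (X : Type*) [Group X] : Prop :=
  (n = 3 → Nat.card X ≤ 2) ∧ (n ≠ 3 → n ≠ 1 → 2 * sqIdx X ≤ n)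

theorem red_step [Finite N] (hcomm : ∀ a b : N, a * b = b * a) (hodd : Odd (Nat.card N))
    (ih : ∀ (N' : Type u) [Group N'] [Finite N'], (∀ a b : N', a * b = b * a) →
      Nat.card N' < Nat.card N → Odd (Nat.card N') →
      ∀ H' : Subgroup (MulAut N'), IsPGroup 2 H' → Bnd (Nat.card N') H')
    (H : Subgroup (MulAut N)) (hH : IsPGroup 2 H) (N₁ : Subgroup N) (hinv : Inv H N₁)
    (h0 : N₁ ≠ ⊥) (h1 : N₁ ≠ ⊤) :
    ∃ a b c d : ℕ, sqIdx H ≤ a * b ∧ Nat.card H = c * d ∧ Q (Nat.card N₁) a c ∧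
      Q N₁.index b d := by
  have : N₁.Normal :=
    ⟨fun n hn g => by rw [hcomm g n, mul_assoc, mul_inv_cancel, mul_one]; exact hn⟩
  have hmul := Subgroup.card_mul_index N₁
  have hu1 : Nat.card N₁ ≠ 1 := fun h => h0 (Subgroup.card_eq_one.mp h)
  have hu2 : N₁.index ≠ 1 := fun h => h1 (Subgroup.index_eq_one.mp h)
  have hpos1 : 0 < Nat.card N₁ := Nat.card_pos
  have hpos2 : 0 < N₁.index := Nat.pos_of_ne_zero Subgroup.index_ne_zero_of_finite
  have h21 : 2 ≤ Nat.card N₁ := by omega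
  have h22 : 2 ≤ N₁.index := by omega
  have hlt1 : Nat.card N₁ < Nat.card N := by
    calc Nat.card N₁ < Nat.card N₁ * 2 := by omega
      _ ≤ Nat.card N₁ * N₁.index := Nat.mul_le_mul_left _ h22
      _ = Nat.card N := hmul
  have hlt2 : N₁.index < Nat.card N := by
    calc N₁.index < 2 * N₁.index := by omega
      _ ≤ Nat.card N₁ * N₁.index := Nat.mul_le_mul_right _ h21
      _ = Nat.card N := hmul
  have hodd12 : Odd (Nat.card N₁) ∧ Odd N₁.index := by
    rw [← hmul] at hodd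
    exact Nat.odd_mul.mp hodd
  -- restriction
  set ρ₁ := resHom H N₁ hinv with hρ₁
  have hB1 := ih N₁ (fun a b => Subtype.ext (hcomm a b)) hlt1 hodd12.1 ρ₁.range
    (IsPGroup.of_surjective hH ρ₁.rangeRestrict ρ₁.rangeRestrict_surjective)
  -- quotient
  set ρ₂ := quotHom H N₁ hinv with hρ₂
  set K := ρ₁.ker with hK
  set ρ₂' := ρ₂.comp K.subtype with hρ₂'
  have hinj : Function.Injective ρ₂' := by
    rw [← MonoidHom.ker_eq_bot_iff, eq_bot_iff]
    intro κ hκ
    rw [MonoidHom.mem_ker] at hκ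
    rw [Subgroup.mem_bot]
    have hκK : (κ : H) ∈ ρ₁.ker := κ.2
    rw [MonoidHom.mem_ker] at hκK
    obtain ⟨k, hk⟩ := hH (κ : H)
    have hα : ((κ : H) : MulAut N) ^ 2 ^ k = 1 := by
      have := congrArg Subtype.val hk
      simpa using this
    have h5 := stab_trivial hodd N₁ ((κ : H) : MulAut N) k hα (by
      intro x hx
      have := congrArg (fun f : MulAut N₁ => ((f ⟨x, hx⟩ : N₁) : N)) hκK
      exact this) (by
      intro x
      have h2 : ρ₂' κ (x : N ⧸ N₁) = (x : N ⧸ N₁) := by rw [hκ]; rfl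
      have h3 : ((((κ : H) : MulAut N) x : N) : N ⧸ N₁) = (x : N ⧸ N₁) := h2
      exact QuotientGroup.eq.mp h3.symm)
    exact Subtype.ext (Subtype.ext h5)
  have hlt2' : Nat.card (N ⧸ N₁) < Nat.card N := hlt2
  have hB2 := ih (N ⧸ N₁) (by
      intro a b
      obtain ⟨a, rfl⟩ := QuotientGroup.mk_surjective a
      obtain ⟨b, rfl⟩ := QuotientGroup.mk_surjective b
      rw [← QuotientGroup.mk_mul, ← QuotientGroup.mk_mul, hcomm]) hlt2' hodd12.2 ρ₂'.range
      (IsPGroup.of_surjective (hH.to_subgroup K) ρ₂'.rangeRestrict ρ₂'.rangeRestrict_surjective)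
  have hs1 : sqIdx H ≤ sqIdx ρ₁.range * sqIdx ρ₁.rangeRestrict.ker :=
    sqIdx_le_mul ρ₁.rangeRestrict ρ₁.rangeRestrict_surjective
  rw [MonoidHom.ker_rangeRestrict] at hs1
  have hs2 : sqIdx K ≤ sqIdx ρ₂'.range := sqIdx_le_of_injective ρ₂' hinj
  have hc1 : Nat.card K * Nat.card ρ₁.range = Nat.card H := by
    rw [← Subgroup.index_ker]; exact Subgroup.card_mul_index _
  have hc2 : Nat.card K = Nat.card ρ₂'.range :=
    Nat.card_congr (MonoidHom.ofInjective hinj).toEquiv
  have hidx : N₁.index = Nat.card (N ⧸ N₁) := rfl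
  refine ⟨sqIdx ρ₁.range, sqIdx ρ₂'.range, Nat.card ρ₁.range, Nat.card K, ?_, ?_, ?_, ?_⟩
  · exact hs1.trans (Nat.mul_le_mul_left _ hs2)
  · rw [← hc1, mul_comm]
  · constructor
    · intro h3
      have := hB1.1 h3
      exact ⟨(sqIdx_le_card _).trans this, this⟩
    · intro h3
      exact hB1.2 h3 hu1
  · constructor
    · intro h3
      rw [hidx] at h3
      have := hB2.1 h3
      exact ⟨(sqIdx_le_card _).trans this, by rw [hc2]; exact this⟩
    · intro h3
      rw [hidx] at h3 ⊢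
      exact hB2.2 h3 (by rw [← hidx]; exact hu2)

end Cfsg.Agent.Lib.Helper70.TwoAct
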