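import Mathlib
import Cfsg.Agent.Lib.Helper70.TwoAct

/-! `2`-groups acting faithfully on abelian groups of odd order: the main induction. -/

set_option autoImplicit false
universe u

namespace Cfsg.Agent.Lib.Helper70.TwoAct
open Subgroup
open scoped Pointwise
open Cfsg.Agent.Lib.Helper70.SqIdx

theorem key : ∀ (n : ℕ) (N : Type u) [Group N] [Finite N], (∀ a b : N, a * b = b * a) →
    Nat.card N = n → Odd n → ∀ H : Subgroup (MulAut N), IsPGroup 2 H → Bnd n H := by
  intro n
  induction n using Nat.strong_induction_on with
  | _ n ih =>
  intro N _ _ hcomm hn hodd H hH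
  have : Fact (Nat.Prime 2) := ⟨Nat.prime_two⟩
  refine ⟨?_, ?_⟩
  · intro h3
    have hcyc : IsCyclic N := by
      have : Fact (Nat.Prime 3) := ⟨Nat.prime_three⟩
      exact isCyclic_of_prime_card (p := 3) (by rw [hn, h3])
    have h1 := IsCyclic.card_mulAut N
    rw [hn, h3] at h1
    have h2 : Nat.totient 3 = 2 := by decide
    calc Nat.card H ≤ Nat.card (MulAut N) := Subgroup.card_le_card_group H
      _ = 2 := by rw [h1, h2]
  · intro h3 h1
    have hodd' : Odd (Nat.card N) := hn ▸ hodd
    have ih' : ∀ (N' : Type u) [Group N'] [Finite N'], (∀ a b : N', a * b = b * a) →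
        Nat.card N' < Nat.card N → Odd (Nat.card N') →
        ∀ H' : Subgroup (MulAut N'), IsPGroup 2 H' → Bnd (Nat.card N') H' := by
      intro N' _ _ hc' hlt ho' H' hH'
      exact ih (Nat.card N') (hn ▸ hlt) N' hc' rfl ho' H' hH'
    by_cases hred : ∃ N₁ : Subgroup N, Inv H N₁ ∧ N₁ ≠ ⊥ ∧ N₁ ≠ ⊤
    · obtain ⟨N₁, hinv, h0, h1'⟩ := hred
      obtain ⟨a, b, c, d, hs, hcd, hQ1, hQ2⟩ := red_step hcomm hodd' ih' H hH N₁ hinv h0 h1'
      have hmul := Subgroup.card_mul_index N₁
      rw [hn] at hmul
      by_cases hu1 : Nat.card N₁ = 3
      · obtain ⟨ha2, -⟩ := hQ1.1 hu1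
        by_cases hu2 : N₁.index = 3
        · obtain ⟨hb2, -⟩ := hQ2.1 hu2
          rw [hu1, hu2] at hmul
          have : a * b ≤ 2 * 2 := Nat.mul_le_mul ha2 hb2
          omega
        · have hb := hQ2.2 hu2
          rw [hu1] at hmul
          have : a * b ≤ 2 * b := Nat.mul_le_mul_right _ ha2
          omega
      · have ha := hQ1.2 hu1
        by_cases hu2 : N₁.index = 3
        · obtain ⟨hb2, -⟩ := hQ2.1 hu2
          rw [hu2] at hmul
          have : a * b ≤ a * 2 := Nat.mul_le_mul_left _ hb2
          omega
        · have hb := hQ2.2 hu2
          have h5 : (2 * a) * (2 * b) ≤ Nat.card N₁ * N₁.index := Nat.mul_le_mul ha hb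
          rw [hmul] at h5
          have h6 : (2 * a) * (2 * b) = 4 * (a * b) := by ring
          omega
    · push Not at hred
      by_cases h4 : ∃ E : Subgroup H, E.Normal ∧ Nat.card E = 4 ∧ ∀ ε ∈ E, ε * ε = 1
      · obtain ⟨E, hEn, hE4, hEexp⟩ := h4
        have hEne : E ≠ ⊥ := by
          intro h; rw [h, Subgroup.card_bot] at hE4; omega
        obtain ⟨z, hzE, hzc, hzo⟩ := Cfsg.Agent.Lib.Helper9.Narrow1.exists_central hH E hEne
        have hz2 : z * z = 1 := hEexp z hzE
        have hz1 : z ≠ 1 := by
          intro h; rw [h, orderOf_one] at hzo; omega
        -- an involution without fixed points acts by inversion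
        have hinvn : ∀ c : MulAut N, c * c = 1 → (∀ x, c x = x → x = 1) → ∀ x, c x = x⁻¹ := by
          intro c hc2 hc0 x
          have h5 : c (x * c x) = x * c x := by
            rw [map_mul, ← MulAut.mul_apply, hc2, MulAut.one_apply, hcomm]
          exact eq_inv_of_mul_eq_one_right (hc0 _ h5)
        have hcoe2 : ∀ c : H, c * c = 1 → (c : MulAut N) * (c : MulAut N) = 1 := by
          intro c hc
          have := congrArg Subtype.val hc
          simpa using this
        -- central involutions act by inversion
        have hcentral : ∀ c : H, c ∈ center H → c * c = 1 → c ≠ 1 →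
            ∀ x, (c : MulAut N) x = x⁻¹ := by
          intro c hcc hc2 hc1
          apply hinvn (c : MulAut N) (hcoe2 c hc2)
          let F : Subgroup N :=
            { carrier := {x | (c : MulAut N) x = x}
              mul_mem' := by
                intro a b ha hb
                have ha' : (c : MulAut N) a = a := ha
                have hb' : (c : MulAut N) b = b := hb
                show (c : MulAut N) (a * b) = a * b
                rw [map_mul, ha', hb']
              one_mem' := map_one _
              inv_mem' := by
                intro a ha
                have ha' : (c : MulAut N) a = a := ha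
                show (c : MulAut N) a⁻¹ = a⁻¹
                rw [map_inv, ha'] }
          have hFinv : Inv H F := by
            intro α hα x hx
            have hx' : (c : MulAut N) x = x := hx
            show (c : MulAut N) (α x) = α x
            have h5 : (⟨α, hα⟩ : H) * c = c * ⟨α, hα⟩ := Subgroup.mem_center_iff.mp hcc ⟨α, hα⟩
            have h6 := congrArg (fun f : H => (f : MulAut N) x) h5
            simp only [Subgroup.coe_mul, MulAut.mul_apply] at h6
            rw [← h6, hx']
          intro x hx
          by_contra hx1
          have hFtop : F = ⊤ := hred F hFinv (fun h => hx1 (by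
            have : x ∈ F := hx
            rw [h, Subgroup.mem_bot] at this
            exact this))
          apply hc1
          apply Subtype.ext
          ext y
          have : y ∈ F := by rw [hFtop]; exact Subgroup.mem_top y
          exact this
        have hzinv := hcentral z hzc hz2 hz1
        -- another involution
        obtain ⟨e, heE, he1, hez⟩ : ∃ e ∈ E, e ≠ 1 ∧ e ≠ z := by
          by_contra hno
          push Not at hno
          have hsub : (E : Set H) ⊆ {1, z} := by
            intro x hx
            by_cases hx1 : x = 1
            · rw [hx1]; simp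
            · rw [hno x hx hx1]; simp
          have h5 : Nat.card E = Set.ncard (E : Set H) := Nat.card_coe_set_eq (E : Set H)
          have h6 : Set.ncard (E : Set H) ≤ Set.ncard ({1, z} : Set H) :=
            Set.ncard_le_ncard hsub (Set.toFinite _)
          have h7 : Set.ncard ({1, z} : Set H) = 2 := Set.ncard_pair hz1.symm
          omega
        have he2 : e * e = 1 := hEexp e heE
        have hencentral : e ∉ center H := by
          intro hec
          have heinv := hcentral e hec he2 he1
          apply hez
          apply Subtype.ext
          ext x
          rw [heinv, hzinv]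
        have hZcard : Nat.card (zpowers z) = 2 := by rw [Nat.card_zpowers, hzo]
        have hZle : zpowers z ≤ E := zpowers_le.mpr hzE
        have hZidx : ((zpowers z).subgroupOf E).index = 2 := by
          have h5 := Subgroup.relIndex_mul_relIndex ⊥ (zpowers z) E bot_le hZle
          rw [Subgroup.relIndex_bot_left, Subgroup.relIndex_bot_left, hZcard, hE4] at h5
          show (zpowers z).relIndex E = 2
          omega
        have hzmem : ∀ y : H, y ∈ zpowers z → y = 1 ∨ y = z :=
          Cfsg.Agent.Lib.Helper70.Kul2D.sq_one_zpowers hz2
        have hzcomm : ∀ h : H, h * z = z * h := fun h => Subgroup.mem_center_iff.mp hzc h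
        have hee : e⁻¹ = e := inv_eq_of_mul_eq_one_left he2
        have hconj : ∀ h : H, h * e * h⁻¹ = e ∨ h * e * h⁻¹ = e * z := by
          intro h
          have hyE : h * e * h⁻¹ ∈ E := hEn.conj_mem e heE h
          have h5 := Subgroup.mul_mem_iff_of_index_two hZidx (a := (⟨e, heE⟩ : E))
            (b := ⟨h * e * h⁻¹, hyE⟩)
          have ha : (⟨e, heE⟩ : E) ∉ (zpowers z).subgroupOf E := by
            intro hmem
            rcases hzmem e (Subgroup.mem_subgroupOf.mp hmem) with h6 | h6
            · exact he1 h6
            · exact hez h6
          have hb : (⟨h * e * h⁻¹, hyE⟩ : E) ∉ (zpowers z).subgroupOf E := by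
            intro hmem
            have hrew : e = h⁻¹ * (h * e * h⁻¹) * h := by group
            rcases hzmem _ (Subgroup.mem_subgroupOf.mp hmem) with h6 | h6
            · apply he1
              have h6' : h * e * h⁻¹ = 1 := h6
              rw [hrew, h6']; group
            · apply hez
              have h6' : h * e * h⁻¹ = z := h6
              rw [hrew, h6', mul_assoc, ← hzcomm h, inv_mul_cancel_left]
          have h7 : (⟨e, heE⟩ : E) * ⟨h * e * h⁻¹, hyE⟩ ∈ (zpowers z).subgroupOf E :=
            h5.mpr ⟨fun h => absurd h ha, fun h => absurd h hb⟩
          have h8 : e * (h * e * h⁻¹) ∈ zpowers z := Subgroup.mem_subgroupOf.mp h7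
          rcases hzmem _ h8 with h6 | h6
          · left
            have h9 := eq_inv_of_mul_eq_one_right h6
            rw [h9, hee]
          · right
            calc h * e * h⁻¹ = e⁻¹ * (e * (h * e * h⁻¹)) := by group
              _ = e * z := by rw [h6, hee]
        set M : Subgroup H := Subgroup.centralizer ({e} : Set H) with hM
        have hMmem : ∀ h : H, h ∈ M ↔ h * e * h⁻¹ = e := by
          intro h
          rw [hM, Subgroup.mem_centralizer_iff]
          constructor
          · intro h5
            rw [← h5 e (Set.mem_singleton e), mul_inv_cancel_right]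
          · intro h5 y hy
            rw [Set.mem_singleton_iff] at hy
            rw [hy]
            calc e * h = (h * e * h⁻¹) * h := by rw [h5]
              _ = h * e := by group
        obtain ⟨g, hg⟩ : ∃ g : H, g ∉ M := by
          by_contra hall
          push Not at hall
          apply hencentral
          rw [Subgroup.mem_center_iff]
          intro h
          have h5 := (hMmem h).mp (hall h)
          calc h * e = (h * e * h⁻¹) * h := by group
            _ = e * h := by rw [h5]
        have hnotM : ∀ h : H, h ∉ M → h * e * h⁻¹ = e * z := by
          intro h hh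
          rcases hconj h with h5 | h5
          · exact absurd ((hMmem h).mpr h5) hh
          · exact h5
        have hMidx : M.index = 2 := by
          rw [Subgroup.index_eq_two_iff]
          refine ⟨g, fun b => ?_⟩
          by_cases hb : b ∈ M
          · right
            refine ⟨hb, fun hbg => hg ?_⟩
            have := M.mul_mem (M.inv_mem hb) hbg
            simpa using this
          · left
            refine ⟨?_, hb⟩
            rw [hMmem]
            have h5 := hnotM b hb
            have h6 := hnotM g hg
            calc b * g * e * (b * g)⁻¹ = b * (g * e * g⁻¹) * b⁻¹ := by group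
              _ = (b * e * b⁻¹) * (b * z * b⁻¹) := by rw [h6]; group
              _ = e * z * z := by rw [h5, hzcomm b, mul_inv_cancel_right]
              _ = e := by rw [mul_assoc, hz2, mul_one]
        have hact : ∀ h : H, h ∉ M → ∀ v : N, (e : MulAut N) ((h : MulAut N) v) =
            (h : MulAut N) ((e : MulAut N) ((z : MulAut N) v)) := by
          intro h hh v
          have h5 : h * e = e * z * h := by
            have := hnotM h hh
            calc h * e = (h * e * h⁻¹) * h := by group
              _ = e * z * h := by rw [this]
          have h6 := congrArg (fun f : H => (f : MulAut N) ((z : MulAut N) v)) h5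
          simp only [Subgroup.coe_mul, MulAut.mul_apply] at h6
          have h7 := congrArg (fun f : H => (f : MulAut N) v) (hzcomm h)
          simp only [Subgroup.coe_mul, MulAut.mul_apply] at h7
          have h8 : (z : MulAut N) ((z : MulAut N) ((h : MulAut N) v)) = (h : MulAut N) v := by
            rw [← MulAut.mul_apply, hcoe2 z hz2, MulAut.one_apply]
          rw [h6, h7, h8]
        have hecoe2 := hcoe2 e he2
        let N₁ : Subgroup N :=
          { carrier := {x | (e : MulAut N) x = x}
            mul_mem' := by
              intro a b ha hb
              have ha' : (e : MulAut N) a = a := ha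
              have hb' : (e : MulAut N) b = b := hb
              show (e : MulAut N) (a * b) = a * b
              rw [map_mul, ha', hb']
            one_mem' := map_one _
            inv_mem' := by
              intro a ha
              have ha' : (e : MulAut N) a = a := ha
              show (e : MulAut N) a⁻¹ = a⁻¹
              rw [map_inv, ha'] }
        have hN₁bot : N₁ ≠ ⊥ := by
          intro hbot
          apply hez
          apply Subtype.ext
          ext x
          rw [hzinv]
          apply hinvn (e : MulAut N) hecoe2
          intro y hy
          have : y ∈ N₁ := hy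
          rw [hbot, Subgroup.mem_bot] at this
          exact this
        have hN₁top : N₁ ≠ ⊤ := by
          intro htop
          apply he1
          apply Subtype.ext
          ext x
          have : x ∈ N₁ := by rw [htop]; exact Subgroup.mem_top x
          exact this
        -- the image of `M` in `MulAut N`
        set fM : M →* MulAut N := H.subtype.comp M.subtype with hfM
        have hinjM : Function.Injective fM := by
          intro a b hab
          exact Subtype.ext (Subtype.ext hab)
        set M' : Subgroup (MulAut N) := fM.range with hM'
        have hM'p : IsPGroup 2 M' :=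
          IsPGroup.of_surjective (hH.to_subgroup M) fM.rangeRestrict fM.rangeRestrict_surjective
        have hM'inv : Inv M' N₁ := by
          rintro α ⟨m, rfl⟩ x hx
          have hx' : (e : MulAut N) x = x := hx
          show (e : MulAut N) (((m : H) : MulAut N) x) = ((m : H) : MulAut N) x
          have h5 : e * (m : H) = (m : H) * e :=
            (Subgroup.mem_centralizer_iff.mp m.2) e (Set.mem_singleton e)
          have h6 := congrArg (fun f : H => (f : MulAut N) x) h5
          simp only [Subgroup.coe_mul, MulAut.mul_apply] at h6
          rw [h6, hx']
        obtain ⟨a, b, c, d, hs, hcd, hQ1, hQ2⟩ :=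
          red_step hcomm hodd' ih' M' hM'p N₁ hM'inv hN₁bot hN₁top
        have hMn : M.Normal := Subgroup.normal_of_index_eq_two hMidx
        have hsH : sqIdx H ≤ 2 * sqIdx M := by
          have h5 := sqIdx_le_mul (QuotientGroup.mk' M) (QuotientGroup.mk'_surjective M)
          rw [QuotientGroup.ker_mk'] at h5
          have h6 : sqIdx (H ⧸ M) ≤ 2 := by
            have := sqIdx_le_card (H ⧸ M)
            have h7 : Nat.card (H ⧸ M) = 2 := hMidx
            omega
          calc sqIdx H ≤ sqIdx (H ⧸ M) * sqIdx M := h5
            _ ≤ 2 * sqIdx M := Nat.mul_le_mul_right _ h6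
        have hsM : sqIdx M ≤ sqIdx M' := sqIdx_le_of_injective fM hinjM
        have hcM : Nat.card M = Nat.card M' :=
          Nat.card_congr (MonoidHom.ofInjective hinjM).toEquiv
        -- the index of `N₁` equals its order
        let N₂ : Subgroup N := N₁.map ((g : MulAut N) : N →* N)
        have hN₂card : Nat.card N₂ = Nat.card N₁ :=
          Subgroup.card_map_of_injective (MulEquiv.injective _)
        have hN₂inv : ∀ y ∈ N₂, (e : MulAut N) y = y⁻¹ := by
          rintro _ ⟨x, hx, rfl⟩
          have hx' : (e : MulAut N) x = x := hx
          show (e : MulAut N) ((g : MulAut N) x) = ((g : MulAut N) x)⁻¹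
          rw [hact g hg, hzinv, map_inv, hx', map_inv]
        have hodd1 : ∀ y : N, y * y = 1 → y = 1 := by
          intro y hy
          have h5 : orderOf y ∣ 2 := orderOf_dvd_of_pow_eq_one (by rw [pow_two]; exact hy)
          have h7 : Odd (orderOf y) := Odd.of_dvd_nat hodd' (orderOf_dvd_natCard y)
          have h8 : orderOf y = 1 := by
            rcases (Nat.dvd_prime Nat.prime_two).mp h5 with h | h
            · exact h
            · rw [h] at h7; exact absurd h7 (by decide)
          exact orderOf_eq_one_iff.mp h8
        have hdisj : Disjoint N₂ N₁ := by
          rw [Subgroup.disjoint_def]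
          intro y hy2 hy1
          have h5 := hN₂inv y hy2
          have h6 : (e : MulAut N) y = y := hy1
          rw [h6] at h5
          apply hodd1
          have h9 : y * y = y * y⁻¹ := congrArg (fun t => y * t) h5
          rw [h9, mul_inv_cancel]
        have hsqrt : ∀ x : N, ∃ y : N, y * y = x := by
          intro x
          obtain ⟨k, hk⟩ : Odd (orderOf x) := Odd.of_dvd_nat hodd' (orderOf_dvd_natCard x)
          refine ⟨x ^ (k + 1), ?_⟩
          rw [← pow_add, show k + 1 + (k + 1) = orderOf x + 1 by omega, pow_succ,
            pow_orderOf_eq_one, one_mul]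
        have hc4 : ∀ y a : N, y * a⁻¹ * (y * a) = y * y := by
          intro y a
          rw [hcomm y a, ← mul_assoc, inv_mul_cancel_right]
        have hmul : (N₂ : Set N) * (N₁ : Set N) = Set.univ := by
          rw [Set.eq_univ_iff_forall]
          intro x
          obtain ⟨y, rfl⟩ := hsqrt x
          rw [Set.mem_mul]
          refine ⟨y * ((e : MulAut N) y)⁻¹, ?_, y * (e : MulAut N) y, ?_, hc4 y _⟩
          · set w := y * ((e : MulAut N) y)⁻¹ with hw
            have hew : (e : MulAut N) w = w⁻¹ := by
              rw [hw, map_mul, map_inv, ← MulAut.mul_apply, hecoe2, MulAut.one_apply,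
                mul_inv_rev, inv_inv, hcomm]
            refine ⟨((g⁻¹ : H) : MulAut N) w, ?_, ?_⟩
            · show (e : MulAut N) (((g⁻¹ : H) : MulAut N) w) = ((g⁻¹ : H) : MulAut N) w
              rw [hact g⁻¹ (fun h => hg (by simpa using M.inv_mem h)), hzinv, map_inv, hew,
                inv_inv]
            · show (g : MulAut N) (((g⁻¹ : H) : MulAut N) w) = w
              simp
          · show (e : MulAut N) (y * (e : MulAut N) y) = y * (e : MulAut N) y
            rw [map_mul, ← MulAut.mul_apply, hecoe2, MulAut.one_apply, hcomm]
        have hcompl := Subgroup.isComplement'_of_disjoint_and_mul_eq_univ hdisj hmul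
        have hidx : N₁.index = Nat.card N₁ := by rw [hcompl.index_eq_card, hN₂card]
        have hmulc := Subgroup.card_mul_index N₁
        rw [hn, hidx] at hmulc
        rw [hidx] at hQ2
        by_cases hu : Nat.card N₁ = 3
        · obtain ⟨-, hc2⟩ := hQ1.1 hu
          obtain ⟨-, hd2⟩ := hQ2.1 hu
          have h5 : Nat.card M' ≤ 2 * 2 := by rw [hcd]; exact Nat.mul_le_mul hc2 hd2
          have h6 := Subgroup.card_mul_index M
          rw [hMidx, hcM] at h6
          have h7 : sqIdx H ≤ 4 := by
            apply sqIdx_le_four (by omega)
            refine ⟨g, e, fun hge => hg ?_⟩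
            rw [hMmem, hge, mul_inv_cancel_right]
          rw [hu] at hmulc
          omega
        · have ha := hQ1.2 hu
          have hb := hQ2.2 hu
          have h5 : (2 * a) * (2 * b) ≤ Nat.card N₁ * Nat.card N₁ := Nat.mul_le_mul ha hb
          rw [hmulc] at h5
          have h6 : (2 * a) * (2 * b) = 4 * (a * b) := by ring
          omega
      · -- no normal four-group
        by_cases hcyc : IsCyclic H
        · have := sqIdx_cyclic hcyc
          obtain ⟨k, hk⟩ := hodd
          omega
        · obtain ⟨a, x, m, hdata⟩ := Cfsg.Agent.Lib.Helper70.Kul2C.exists_data hH hcyc h4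
          obtain ⟨hm1, ha, hNn, hcard, hx, hrel⟩ := hdata
          have hs : sqIdx H ≤ 4 := by
            have h5 : (2 : ℕ) ^ (m + 2) = 2 * 2 ^ (m + 1) := by ring
            have := sqIdx_le_of_orderOf a 2 (by rw [hcard, ha, h5])
            omega
          have hn9 : 9 ≤ n := by
            by_contra hlt
            have hn57 : n = 5 ∨ n = 7 := by
              obtain ⟨k, hk⟩ := hodd
              omega
            have hprime : n.Prime := by
              rcases hn57 with h | h <;> rw [h] <;> norm_num
            have : Fact n.Prime := ⟨hprime⟩
            have hNcyc : IsCyclic N := isCyclic_of_prime_card (p := n) hn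
            have hcommAut : ∀ α β : MulAut N, α * β = β * α := by
              intro α β
              apply (IsCyclic.mulAutMulEquiv N).injective
              rw [map_mul, map_mul, mul_comm]
            apply hcyc
            have htop : IsCyclic (⊤ : Subgroup H) := by
              by_contra hnc
              exact h4 (Cfsg.Agent.Lib.Helper70.Kul2C.exists_four hH ⊤ inferInstance
                (fun x _ y _ => Subtype.ext (hcommAut x y)) hnc)
            exact isCyclic_of_surjective (Subgroup.topEquiv : (⊤ : Subgroup H) ≃* H)
              Subgroup.topEquiv.surjective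
          omega

end Cfsg.Agent.Lib.Helper70.TwoAct
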